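import Groth.Agent.StMod.K862.Over
import Groth.Agent.StMod.K906.PresExist
import Groth.Agent.StMod.K907.DiagPt

/-!
# Points over closed points, without a global presentation

* `Rel` : an affine smooth equivalence relation on a chart;
* `exists_rel` : charts of stacks with quasi-compact diagonal have one;
* `isCl_over'` : a set of points of `𝒴` over a closed point of `𝒳` is closed, for `𝒴 ⟶ 𝒳` quasi-finite and separated.
-/

set_option autoImplicit false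
set_option linter.unusedVariables false
set_option linter.style.haveILetI false
set_option backward.isDefEq.respectTransparency false
set_option backward.isDefEq.respectTransparency.types false

universe t v'' w'' v' w' v w u

open CategoryTheory CategoryTheory.Limits AlgebraicGeometry Opposite StMod AlgSt AlgSp

namespace K862.LevCl

open K862.Rep K862.PushO K862.Over K908.Aff K907.Disj K907.FibTerm K906 K906.Span K906.Grpd K907.Pt K907.Closed K907.Atl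
  K906.SpGeo

variable {S : Scheme.{u}} {𝒳 : BasedCategory.{v, w} (Over S)} {𝒴 : BasedCategory.{v', w'} (Over S)}

/-- An affine smooth equivalence relation on the chart `ζ`. -/
structure Rel (ζ : 𝒳.obj) where
  ρ : 𝒳.obj
  s : ρ ⟶ ζ
  t : ρ ⟶ ζ
  affρ : IsAffine (sch 𝒳 ρ)
  smooth_s : Smooth (bmap 𝒳 s)
  smooth_t : Smooth (bmap 𝒳 t)
  lift : ∀ (z : 𝒳.obj) (a b : z ⟶ ζ), IsAffine (sch 𝒳 z) → ∃ (z' : 𝒳.obj) (f : z' ⟶ z) (e : z' ⟶ ρ),
    IsAffine (sch 𝒳 z') ∧ Etale (bmap 𝒳 f) ∧ Surjective (bmap 𝒳 f) ∧ e ≫ s = f ≫ a ∧ e ≫ t = f ≫ b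

/-- Spans of `𝒳` are spans over `S`. -/
theorem exists_spanRep_self {P : MorphismProperty (Sp S)} (h : FibCat.IsFibGrpd 𝒳.p)
    (hd : AlgSt.RepByAlgSpWith P (FibCat.diag (FibCat.toSelf 𝒳))) (ζ ζ' : 𝒳.obj) :
    ∃ (F : Space S) (T : Over S) (q : F.obj ⟶ (yon S).obj T) (f : T ⟶ 𝒳.p.obj ζ) (g : T ⟶ 𝒳.p.obj ζ'),
      P q ∧ IsPullback f.left g.left (𝒳.p.obj ζ).hom (𝒳.p.obj ζ').hom ∧ Nonempty (SpanRep ζ ζ' F.obj) := by
  let η : (FibCat.selfOver (Over S)).obj := Over.mk (𝟙 S)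
  let term : ∀ A : Over S, A ⟶ Over.mk (𝟙 S) := fun A => Over.homMk A.hom (by simp)
  have huniq : ∀ {A : Over S} (a b : A ⟶ Over.mk (𝟙 S)), a = b := by
    intro A a b
    apply Over.OverMorphism.ext
    have h1 := Over.w a
    have h2 := Over.w b
    simp only [Over.mk_hom] at h1 h2
    exact h1.trans h2.symm
  let up : ∀ χ : 𝒳.obj, FObj (FibCat.toSelf 𝒳) η := fun χ => ⟨χ, term (𝒳.p.obj χ)⟩
  let lf : ∀ {χ χ' : 𝒳.obj} (a : χ ⟶ χ'), (up χ ⟶ up χ') := fun {χ χ'} a => FObj.mkHom a (huniq _ _)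
  obtain ⟨F, T, q, f, g, hq, sq, ⟨R⟩⟩ := exists_spanRep_diag h K735.Fp.isFibGrpd_selfOver hd (up ζ) (up ζ')
  refine ⟨F, T, q, f, g, hq, ?_, ⟨?_⟩⟩
  · have h1 := sq.map (Over.forget S)
    have h2 : ∀ ξ : 𝒳.obj, (fbase (up ξ)).left = (𝒳.p.obj ξ).hom := by
      intro ξ
      have h3 := Over.w (fbase (up ξ))
      exact (Category.comp_id _).symm.trans h3
    change IsPullback f.left g.left (fbase (up ζ)).left (fbase (up ζ')).left at h1
    rw [h2, h2] at h1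
    exact h1
  · refine
      { sec := fun {χ} a b => R.sec (χ := up χ) (lf a) (lf b)
        map := fun {χ χ'} c a b => R.map (χ := up χ) (χ' := up χ') (lf c) (lf a) (lf b)
        full := ?_
        surj := ?_ }
    · intro χ χ' a b a' b' g hg
      obtain ⟨c, h1, h2, h3⟩ := R.full (χ := up χ) (χ' := up χ') (lf a) (lf b) (lf a') (lf b') g hg
      exact ⟨c.hom, h1, congrArg FObj.Hom.hom h2, congrArg FObj.Hom.hom h3⟩
    · intro T s
      obtain ⟨⟨χ, arr⟩, a, b, e, h⟩ := R.surj s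
      have h1 : arr = term (𝒳.p.obj χ) := huniq _ _
      subst h1
      exact ⟨χ, a.hom, b.hom, e, h⟩

/-- A quasi-compact chart of the fibre product of a smooth chart with itself. -/
theorem exists_rel [QuasiSeparatedSpace S] (h : FibCat.IsFibGrpd 𝒳.p) (A : SmAtlas 𝒳)
    (hd : AlgSt.RepByAlgSpWith AlgSp.IsQuasiCompactMor (FibCat.diag (FibCat.toSelf 𝒳))) (j : A.J) :
    Nonempty (Rel (A.Z j)) := by
  obtain ⟨F, T, q, f, g, hq, sq, ⟨R⟩⟩ := exists_spanRep_self h hd (A.Z j) (A.Z j)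
  have hT : CompactSpace T.left := by
    haveI : IsAffine (𝒳.p.obj (A.Z j)).left := A.affine j
    have h1 : QuasiCompact (𝒳.p.obj (A.Z j)).hom := quasiCompact_of_compactSpace _
    have h2 : QuasiCompact f.left := MorphismProperty.of_isPullback (P := @QuasiCompact) sq.flip h1
    exact QuasiCompact.compactSpace_of_compactSpace f.left
  obtain ⟨V, c, hV, hc, hcs⟩ := exists_affine_chart (isQuasiCompactSp_of_mor hT q hq)
  obtain ⟨ρ, s, t, e, hρ⟩ := R.exists_span (K606.YonSec.sec c)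
  subst e
  rw [K606.YonSec.ofSec_sec, eqToHom_refl, CategoryTheory.Functor.map_id, Category.id_comp] at hρ
  rw [← hρ] at hc hcs
  have H := R.spanWith_of_repWith h s t hc
  exact ⟨⟨ρ, s, t, hV, A.smooth _ _ j s t H, A.smooth _ _ j t s H.swap, fun z a b hz => exists_lift_chart h R hc hcs z a b hz⟩⟩

/-- Points of a chart with the same class are related. -/
theorem rel_of_pt_eq (h𝒳 : FibCat.IsFibGrpd 𝒳.p) {ζ : 𝒳.obj} (P : Rel ζ) {u u' : ↥(sch 𝒳 ζ)}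
    (h : pt h𝒳 ζ u = pt h𝒳 ζ u') : ∃ z : ↥(sch 𝒳 P.ρ), bmap 𝒳 P.s z = u ∧ bmap 𝒳 P.t z = u' := by
  have h1 : FPt.Rel (fpt h𝒳 ζ u) (fpt h𝒳 ζ u') := (K735.Pts.mk_eq_mk_iff h𝒳).1 h
  obtain ⟨r, a, b, -⟩ := h1
  obtain ⟨z', f, e, g1, g2, g3, g4, g5⟩ := P.lift r.obj (a ≫ fptArr h𝒳 ζ u) (b ≫ fptArr h𝒳 ζ u')
    (K872.ClosedPt.isAffine_fpt r)
  obtain ⟨t', ht'⟩ := (bmap 𝒳 f).surjective (ptt r)
  refine ⟨bmap 𝒳 e t', ?_, ?_⟩
  · have k1 : bmap 𝒳 P.s (bmap 𝒳 e t') = bmap 𝒳 (fptArr h𝒳 ζ u) (bmap 𝒳 a (bmap 𝒳 f t')) := by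
      have k2 : bmap 𝒳 (e ≫ P.s) t' = bmap 𝒳 (f ≫ a ≫ fptArr h𝒳 ζ u) t' := by rw [g4]
      rw [bmap_comp, bmap_comp, bmap_comp] at k2
      exact k2
    rw [k1, eq_ptt _ (bmap 𝒳 a (bmap 𝒳 f t')), bmap_fptArr_ptt]
  · have k1 : bmap 𝒳 P.t (bmap 𝒳 e t') = bmap 𝒳 (fptArr h𝒳 ζ u') (bmap 𝒳 b (bmap 𝒳 f t')) := by
      have k2 : bmap 𝒳 (e ≫ P.t) t' = bmap 𝒳 (f ≫ b ≫ fptArr h𝒳 ζ u') t' := by rw [g5]
      rw [bmap_comp, bmap_comp, bmap_comp] at k2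
      exact k2
    rw [k1, eq_ptt _ (bmap 𝒳 b (bmap 𝒳 f t')), bmap_fptArr_ptt]

variable (h𝒳 : FibCat.IsFibGrpd 𝒳.p) (h𝒴 : FibCat.IsFibGrpd 𝒴.p) {p : 𝒴 ⥤ᵇ 𝒳}

/-- The image in the normalization of a set of points over `x` is closed. -/
theorem isClosed_img' {ζ : 𝒳.obj} (hζ : IsAffine (sch 𝒳 ζ)) (P : Rel ζ) {x : Points 𝒳} (hx : IsCl h𝒳 {x})
    (D : Set (Points 𝒴)) (hD : ∀ d ∈ D, Points.map p d = x) {y : 𝒴.obj} {α : p.obj y ⟶ ζ} (hα : IsTerm p α)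
    (hP : QfSep (str p α)) :
    haveI := hP.2.1
    haveI := hP.2.2
    IsClosed ((str p α).toNormalization '' prei h𝒴 D y) := by
  haveI := hP.2.1
  haveI := hP.2.2
  haveI := hP.1.1
  haveI := hP.1.2
  haveI := hζ
  haveI := P.affρ
  haveI := P.smooth_s
  haveI := P.smooth_t
  rcases (prei h𝒴 D y).eq_empty_or_nonempty with hDe | ⟨v₀, hv₀⟩
  · rw [hDe, Set.image_empty]
    exact isClosed_empty
  obtain ⟨y₁, a, α₁, h1, h2, h3⟩ := exists_isTerm_bc h𝒳 h𝒴 P.s hα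
  obtain ⟨b, hb⟩ := exists_hom P.t (α' := α₁) hα
  have h4 := isPullback_of_isTerm h𝒳 h𝒴 h1 hα hb
  -- a maximal point of the orbit
  have hc : pt h𝒳 ζ (str p α v₀) = x := by
    rw [← map_pt' h𝒳 h𝒴]
    exact hD _ hv₀
  obtain ⟨η, hη, hmax⟩ := exists_maximal (hx ζ hζ) ⟨_, hc⟩
  refine K563.NormCl.isClosed_image_toNormalization (str p α) (bmap 𝒳 P.s) (bmap 𝒳 P.t) (str p α₁) (bmap 𝒴 a)
    (bmap 𝒴 b) h3 h4 (prei h𝒳 {x} ζ) (hx ζ hζ) ?_ η hη hmax ?_ (prei h𝒴 D y) ?_ ?_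
  · rw [preimage_prei, preimage_prei]
  · intro z hz
    exact rel_of_pt_eq h𝒳 P (hz.trans hη.symm)
  · intro v hv
    change pt h𝒳 ζ (str p α v) = x
    rw [← map_pt' h𝒳 h𝒴]
    exact hD _ hv
  · rw [preimage_prei, preimage_prei]

/-- A set of points of `𝒴` over a closed point of `𝒳` is closed. -/
theorem isCl_over' (A : SmAtlas 𝒳) (hR : ∀ j, Nonempty (Rel (A.Z j))) (hp : IsRep QfSep p) {x : Points 𝒳}
    (hx : IsCl h𝒳 {x}) (D : Set (Points 𝒴)) (hD : ∀ d ∈ D, Points.map p d = x) : IsCl h𝒴 D := by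
  intro ξ hξ
  obtain ⟨z, f, j, d, hz, hf1, hf2⟩ := A.cov (p.obj ξ) (isAffine_pobj hξ)
  obtain ⟨P⟩ := hR j
  obtain ⟨y, α, hα, hP⟩ := hp (A.Z j) (A.affine j)
  haveI := hP.2.1
  haveI := hP.2.2
  haveI := hP.1.1
  haveI := hP.1.2
  haveI := A.affine j
  have h1 := isClosed_img' h𝒳 h𝒴 (A.affine j) P hx D hD hα hP
  have h2 : IsClosed (prei h𝒴 D y) := by
    have h3 : Topology.IsOpenEmbedding (str p α).toNormalization := (str p α).toNormalization.isOpenEmbedding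
    rw [← Set.preimage_image_eq (prei h𝒴 D y) h3.injective]
    exact h1.preimage (str p α).toNormalization.continuous
  obtain ⟨ξ', φ, i, hi, -, -, h5, h6⟩ := exists_lift_cov h𝒳 h𝒴 f
  obtain ⟨χ, hχ⟩ := exists_hom (𝟙 (A.Z j)) (α' := i ≫ d) hα
  have h7 : Smooth (bmap 𝒴 φ) := h6 @Smooth inferInstance hf1
  have h8 : Surjective (bmap 𝒴 φ) := h6 @Surjective inferInstance hf2
  have h9 : IsClosed ((bmap 𝒴 φ) ⁻¹' prei h𝒴 D ξ) := by
    rw [preimage_prei, ← preimage_prei h𝒴 D χ]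
    exact h2.preimage (bmap 𝒴 χ).continuous
  have h10 : Topology.IsQuotientMap (bmap 𝒴 φ) :=
    (bmap 𝒴 φ).isOpenMap.isQuotientMap (bmap 𝒴 φ).continuous (bmap 𝒴 φ).surjective
  exact h10.isClosed_preimage.1 h9

include h𝒳 in
/-- The étale `𝒳_E ⟶ 𝒳` is representable by étale separated quasi-compact morphisms. -/
theorem isRep_fibPt [QuasiSeparatedSpace S] {M : Sp S} (hM : IsQuasiSeparatedSp M) (π : 𝒳 ⥤ᵇ ofSp M) (E : EtOver M)
    (hE : IsAffine E.obj.left.left) : IsRep (@Etale ⊓ (@QuasiCompact ⊓ @IsSeparated)) (fibPt π (etaOf E)) := by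
  intro ξ hξ
  obtain ⟨y, φ, h1, h2, h3, h4⟩ := exists_fibObj h𝒳 π E ξ
  have hqc : QuasiCompact E.obj.left.hom := by
    haveI := hE
    exact quasiCompact_of_compactSpace _
  refine ⟨y, φ, h1, ?_⟩
  have h5 : str (fibPt π (etaOf E)) (y := y) (ξ := ξ) φ = bmap 𝒳 φ := by
    change (baseOver (fibPt π (etaOf E)) y φ).left = _
    unfold baseOver
    rw [eqToHom_refl, Category.id_comp]
  rw [h5]
  exact ⟨h2, h4 hM hqc, h3 hE⟩

/-- Closed sets of points have closed preimages in all objects. -/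
theorem isClosed_prei {W : Set (Points 𝒳)} (hW : IsCl h𝒳 W) (ξ : 𝒳.obj) : IsClosed (prei h𝒳 W ξ) := by
  rw [← isOpen_compl_iff, isOpen_iff_forall_mem_open]
  intro t ht
  obtain ⟨V, hV, htV, -⟩ := exists_isAffineOpen_mem_and_subset (X := sch 𝒳 ξ) (x := t) (U := ⊤) (Set.mem_univ t)
  obtain ⟨ζ, φ, h1, h2⟩ := K908.Fib.exists_restr ξ V
  have hζ : IsAffine (sch 𝒳 ζ) := K908.Fib.isAffine_of_opensRange φ (by rw [h2]; exact hV)
  have h3 := (hW ζ hζ).isOpen_compl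
  refine ⟨(bmap 𝒳 φ) '' (prei h𝒳 W ζ)ᶜ, ?_, (bmap 𝒳 φ).isOpenEmbedding.isOpenMap _ h3, ?_⟩
  · rintro _ ⟨s, hs, rfl⟩ h4
    exact hs (by rw [← preimage_prei h𝒳 W φ]; exact h4)
  · have h5 : t ∈ (bmap 𝒳 φ).opensRange := by rw [h2]; exact htV
    obtain ⟨s, rfl⟩ := h5
    exact ⟨s, fun h6 => ht (by rw [← preimage_prei h𝒳 W φ] at h6; exact h6), rfl⟩

/-- Sets of points with closed preimages are closed. -/
theorem isClosed_of_isCl {W : Set (AlgSt.Points 𝒳)} (hW : IsCl h𝒳 W) : IsClosed W := by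
  rw [← isOpen_compl_iff, AlgSt.Points.isOpen_iff]
  intro U x hx
  let ξ : 𝒳.obj := x.obj (Over.mk (𝟙 U))
  let i : sch 𝒳 ξ ≅ U.left := (Over.forget S).mapIso (eqToIso (x.w_obj (Over.mk (𝟙 U))))
  have h1 : AlgSt.Points.ofChart x ⁻¹' Wᶜ = i.inv ⁻¹' (prei h𝒳 W ξ)ᶜ := by
    ext t
    have h2 : AlgSt.Points.ofChart x t = pt h𝒳 ξ (i.inv t) := ofChart_eq h𝒳 x t (i.inv t) (by
      change i.hom (i.inv t) = t
      have : (i.inv ≫ i.hom) t = t := by rw [Iso.inv_hom_id]; rfl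
      exact this)
    change ¬ (AlgSt.Points.ofChart x t ∈ W) ↔ ¬ (pt h𝒳 ξ (i.inv t) ∈ W)
    rw [h2]
  rw [h1]
  exact (isClosed_prei h𝒳 hW ξ).isOpen_compl.preimage i.inv.continuous

end K862.LevCl
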