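import Groth.Agent.StMod.K862.Step1
import Mathlib.RingTheory.Ideal.GoingUp

/-!
# Finiteness of a quasi-finite morphism near a closed point

* `exists_finite_locus` : for `p : 𝒴 ⟶ 𝒳` quasi-finite and separated over an exact stack with functions `A`, `B = Γ(𝒴)` exact
  functions integral over `A`, and a closed point `x` of `𝒳` such that all primes of `B` over the prime of `x` come from points of
  `𝒴` over `x`, there is `a ∈ A` not vanishing at `x` such that `p` is finite where `a` is invertible.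
-/

set_option autoImplicit false
set_option linter.unusedVariables false
set_option linter.style.haveILetI false
set_option backward.isDefEq.respectTransparency false
set_option backward.isDefEq.respectTransparency.types false

universe v₂ w₂ v₁ w₁ u

open CategoryTheory CategoryTheory.Limits AlgebraicGeometry Opposite StMod AlgSt AlgSp Polynomial

namespace K862.LocFin

open K862.Rep K862.Integ K862.PushO K862.Over K862.FunC K862.FinIdem K862.Step1 K908.Aff K907.Disj K907.FibTerm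
  K906 K907.Sec K907.Tens K907.Atl K907.Pt K907.Closed K907.Free

/-- A polynomial relation with invertible constant coefficient. -/
theorem exists_poly {A B : Type u} [CommRing A] [CommRing B] (φ : A →+* B) (b₀ b₁ : B) (a : A) (h : φ a = b₀ * b₁)
    (h₁ : φ.IsIntegralElem b₁) : ∃ (g : A[X]) (n : ℕ), g.eval₂ φ b₀ = 0 ∧ g.coeff 0 = a ^ n := by
  obtain ⟨P, hP, hP0⟩ := h₁
  let n := P.natDegree
  let g : A[X] := ∑ i ∈ Finset.range (n + 1), C (P.coeff i * a ^ i) * X ^ (n - i)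
  refine ⟨g, n, ?_, ?_⟩
  · have h1 : g.eval₂ φ b₀ = b₀ ^ n * P.eval₂ φ b₁ := by
      rw [eval₂_finsetSum, eval₂_eq_sum_range, Finset.mul_sum]
      refine Finset.sum_congr rfl fun i hi => ?_
      have hi' : i ≤ n := by
        have := Finset.mem_range.1 hi
        omega
      rw [eval₂_mul, eval₂_C, eval₂_X_pow, map_mul, map_pow, h]
      have h2 : b₀ ^ n = b₀ ^ i * b₀ ^ (n - i) := by rw [← pow_add]; congr 1; omega
      rw [h2, mul_pow]
      ring
    rw [h1, hP0, mul_zero]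
  · have h1 : g.coeff 0 = ∑ i ∈ Finset.range (n + 1), if i = n then a ^ n else 0 := by
      rw [finsetSum_coeff]
      refine Finset.sum_congr rfl fun i hi => ?_
      have hi' : i ≤ n := by
        have := Finset.mem_range.1 hi
        omega
      rw [coeff_C_mul, coeff_X_pow]
      by_cases hin : i = n
      · rw [if_pos hin, hin, Nat.sub_self, if_pos rfl, mul_one]
        have : P.coeff n = 1 := hP
        rw [this, one_mul]
      · rw [if_neg hin, if_neg (by omega), mul_zero]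
    rw [h1, Finset.sum_ite_eq' , if_pos (Finset.mem_range.2 (Nat.lt_succ_self n))]

/-- The unit relation. -/
theorem exists_inv {R : Type u} [CommRing R] (g : R[X]) (h : IsUnit (g.coeff 0)) : ∃ d : R[X], g ∣ 1 - X * d := by
  obtain ⟨u, hu⟩ := h
  refine ⟨-(C (↑u⁻¹ : R) * g.divX), C (↑u⁻¹ : R), ?_⟩
  have h1 := divX_mul_X_add g
  have h2 : C (↑u⁻¹ : R) * C (g.coeff 0) = 1 := by
    rw [← hu, ← C_mul, Units.inv_mul, C_1]
  calc 1 - X * -(C (↑u⁻¹ : R) * g.divX) = C (↑u⁻¹ : R) * C (g.coeff 0) + X * (C (↑u⁻¹ : R) * g.divX) := by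
        rw [h2]; ring
    _ = C (↑u⁻¹ : R) * (g.divX * X + C (g.coeff 0)) := by ring
    _ = g * C (↑u⁻¹ : R) := by rw [h1]; ring

variable {S : Scheme.{u}} {𝒳 : BasedCategory.{v₂, w₂} (Over S)} {𝒴 : BasedCategory.{v₁, w₁} (Over S)}

theorem exists_finite_locus {A B : Type u} [CommRing A] [CommRing B] (φ : A →+* B) (hφ : φ.IsIntegral)
    (h𝒳 : FibCat.IsFibGrpd 𝒳.p) (h𝒴 : FibCat.IsFibGrpd 𝒴.p) {p : 𝒴 ⥤ᵇ 𝒳} (hp : IsRep QfSep p) (P : Pres 𝒳)
    (hex : K907.Free.Exact 𝒳) (s : Fn A 𝒳) (s' : Fn B 𝒴) (hs' : IsFn s')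
    (hcomp : ∀ (y : 𝒴.obj) (a : A), (pullFn p s).σ y a = s'.σ y (φ a))
    {x : AlgSt.Points 𝒳} (hx : IsCl h𝒳 {x}) (m : Ideal A) [m.IsPrime]
    (hm : ∀ n : Ideal B, n.IsPrime → n.comap φ = m → ∃ (y : 𝒴.obj) (t : ↥(sch 𝒴 y)), IsAffine (sch 𝒴 y) ∧
      AlgSt.Points.map p (pt h𝒴 y t) = x ∧ ∀ b ∈ n, s'.σ y b ∈ ((sch 𝒴 y).toSpecΓ t).asIdeal) :
    ∃ a : A, a ∉ m ∧ ∀ (ξ : 𝒳.obj), IsAffine (sch 𝒳 ξ) → IsUnit (s.σ ξ a) →
      ∀ (y : 𝒴.obj) (α : p.obj y ⟶ ξ), IsTerm p α → IsFinite (str p α) := by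
  obtain ⟨ch⟩ := nonempty_ch hp
  let D : Set (AlgSt.Points 𝒴) := {d | AlgSt.Points.map p d = x}
  obtain ⟨c, hc1, hc2⟩ := exists_fun h𝒳 h𝒴 ch D hp P hex hx (fun d hd => hd)
  obtain ⟨b₀, hb₀⟩ := hs'.2 c
  have hb₀' : ∀ y : 𝒴.obj, s'.σ y b₀ = vO c y := by
    intro y
    rw [← hb₀]
    rfl
  -- `c` is one on `D`
  have hD1 : ∀ (y₀ : 𝒴.obj) (hy₀ : IsAffine (sch 𝒴 y₀)) (t : ↥(sch 𝒴 y₀)), pt h𝒴 y₀ t ∈ D →
      1 - vO c y₀ ∈ ((sch 𝒴 y₀).toSpecΓ t).asIdeal := by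
    intro y₀ hy₀ t ht
    refine one_sub_mem h𝒳 h𝒴 P (ch.term P.ζ P.affζ) D (oneSec 𝒴 - c) ?_ y₀ hy₀ t ht
    intro v hv
    rw [mem_N_iff] at hc2
    obtain ⟨g, hg, hg0⟩ := hc2
    have h1 := hg0 ((str p (ch.α P.ζ P.affζ)).toNormalization v) ⟨v, hv, rfl⟩
    rw [K563.NormFun.toSpecΓ_apply, hg] at h1
    exact h1
  -- the algebra
  have halg : ∃ a : A, a ∉ m ∧ ∃ b₁ : B, φ a = b₀ * b₁ := by
    by_contra hne
    letI := φ.toAlgebra
    haveI : Algebra.IsIntegral A B := ⟨hφ⟩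
    have h1 : (Ideal.span {b₀}).comap (algebraMap A B) ≤ m := by
      intro a ha
      by_contra ham
      obtain ⟨b₁, hb₁⟩ := Ideal.mem_span_singleton'.1 (Ideal.mem_comap.1 ha)
      exact hne ⟨a, ham, b₁, by rw [mul_comm, hb₁]; rfl⟩
    obtain ⟨n, hn1, hn2, hn3⟩ := Ideal.exists_ideal_over_prime_of_isIntegral m (Ideal.span {b₀}) h1
    obtain ⟨y, t, hy, hyt, hn⟩ := hm n hn2 hn3
    have h2 := hn b₀ (hn1 (Ideal.mem_span_singleton_self b₀))
    rw [hb₀'] at h2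
    have h3 := hD1 y hy t hyt
    have h4 := Ideal.add_mem _ h2 h3
    rw [add_sub_cancel] at h4
    exact ((sch 𝒴 y).toSpecΓ t).isPrime.ne_top ((Ideal.eq_top_iff_one _).2 h4)
  obtain ⟨a, ham, b₁, hab⟩ := halg
  refine ⟨a, ham, ?_⟩
  obtain ⟨g, n, hg, hg0⟩ := exists_poly φ b₀ b₁ a hab (hφ b₁)
  let A₁ := Localization.Away a
  obtain ⟨d, hd⟩ := exists_inv (g.map (algebraMap A A₁)) (by
    rw [coeff_map, hg0, map_pow]
    exact (IsLocalization.Away.algebraMap_isUnit (S := A₁) a).pow n)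
  have hgθ : ∀ θ : 𝒴.obj, g.eval₂ ((pullFn p s).σ θ) (vO c θ) = 0 := by
    intro θ
    have h1 := congrArg (s'.σ θ) hg
    rw [hom_eval₂, map_zero, hb₀'] at h1
    rw [← h1]
    congr 1
    ext r
    exact hcomp θ r
  -- over objects with an arrow to the chart
  have fin : ∀ (θ : 𝒳.obj) (hθ : IsAffine (sch 𝒳 θ)) (b : θ ⟶ P.ζ), IsUnit (s.σ θ a) →
      ∀ (y : 𝒴.obj) (α : p.obj y ⟶ θ), IsTerm p α → IsFinite (str p α) := by
    intro θ hθ b hu y α hα
    let τ : A₁ →+* Γ(sch 𝒳 θ, ⊤) := IsLocalization.Away.lift (S := A₁) a (g := s.σ θ) hu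
    have hτ : τ.comp (algebraMap A A₁) = s.σ θ := IsLocalization.Away.lift_comp (S := A₁) a hu
    have h1 := isFinite_part h𝒳 h𝒴 ch P.affζ c hc1 s g hgθ (algebraMap A A₁) 1 d (by simp) hd b hθ τ hτ hα
      (𝟙 (sch 𝒴 y)) (by
        rw [eval₂_one, Scheme.basicOpen_of_isUnit _ isUnit_one]
        ext z
        exact ⟨fun _ => trivial, fun _ => ⟨z, rfl⟩⟩)
    rwa [Category.id_comp] at h1
  intro ξ hξ hu y α hα
  obtain ⟨z, f, d₀, hz, hf1, hf2⟩ := P.cov ξ hξ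
  obtain ⟨y', ψ, α', hα', hc', sq⟩ := exists_isTerm_bc h𝒳 h𝒴 f hα
  have hu' : IsUnit (s.σ z a) := by
    have h1 : s.σ z a = (bmap 𝒳 f).appTop (s.σ ξ a) := (congrArg (fun k => k a) (s.comm f)).symm
    rw [h1]
    exact hu.map (bmap 𝒳 f).appTop.hom
  have h8 := fin z hz d₀ hu' y' α' hα'
  haveI := Groth.Agent.Desc.MorDescent.descendsAlong_isFinite.{u}
  haveI := hz
  haveI := hξ
  have hq : (@Surjective ⊓ @Flat ⊓ @QuasiCompact : MorphismProperty Scheme.{u}) (bmap 𝒳 f) :=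
    ⟨⟨hf2, inferInstance⟩, inferInstance⟩
  exact MorphismProperty.of_isPullback_of_descendsAlong (P := @IsFinite)
    (Q := (@Surjective ⊓ @Flat ⊓ @QuasiCompact : MorphismProperty Scheme.{u})) sq.flip hq h8

end K862.LocFin
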