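import Groth.Agent.StMod.K862.Main65
import Groth.Agent.StMod.K907.GoodFp
import Groth.Agent.StMod.K563.ClosedLN
import Groth.Agent.AlgSt.K738.Unr2
import Groth.Agent.AlgSt.K734.Atlas

/-!
# Luna's fundamental lemma, global form
-/

set_option autoImplicit false
set_option linter.unusedVariables false
set_option linter.style.haveILetI false
set_option backward.isDefEq.respectTransparency false
set_option backward.isDefEq.respectTransparency.types false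

universe v₂ w₂ v₁ w₁ u

open CategoryTheory CategoryTheory.Limits AlgebraicGeometry Opposite StMod AlgSt AlgSp

namespace K862.Main64

open K862.Rep K862.FSq K862.Asm K862.LevCl K862.Main65 K862.PushO K908.Aff
  K907.Disj K907.FibTerm K906 K906.SpGeo K907.Sec K907.Tens K907.GM K907.Atl K907.Pt K907.Closed

variable {S : Scheme.{u}}

section Cl

variable {𝒴 : BasedCategory.{v₁, w₁} (Over S)} {𝒳 : BasedCategory.{v₂, w₂} (Over S)}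
  (h𝒴 : FibCat.IsFibGrpd 𝒴.p) (h𝒳 : FibCat.IsFibGrpd 𝒳.p)

/-- Preimages of closed sets are closed. -/
theorem isCl_preimage (p : 𝒴 ⥤ᵇ 𝒳) {W : Set (AlgSt.Points 𝒳)} (hW : IsCl h𝒳 W) :
    IsCl h𝒴 (AlgSt.Points.map p ⁻¹' W) := by
  intro ξ hξ
  have h1 : prei h𝒴 (AlgSt.Points.map p ⁻¹' W) ξ = (str p (𝟙 (p.obj ξ))) ⁻¹' prei h𝒳 W (p.obj ξ) := by
    ext t
    change AlgSt.Points.map p (pt h𝒴 ξ t) ∈ W ↔ pt h𝒳 (p.obj ξ) (str p (𝟙 (p.obj ξ)) t) ∈ W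
    rw [K862.Over.map_pt' h𝒳 h𝒴 (𝟙 (p.obj ξ)) t]
  rw [h1]
  exact (hW (p.obj ξ) (isAffine_pobj hξ)).preimage (str p (𝟙 (p.obj ξ))).continuous

/-- The closure of a point. -/
def clo (y : AlgSt.Points 𝒳) : Set (AlgSt.Points 𝒳) := {z | ∀ W : Set (AlgSt.Points 𝒳), IsCl h𝒳 W → y ∈ W → z ∈ W}

theorem mem_clo (y : AlgSt.Points 𝒳) : y ∈ clo h𝒳 y := fun _ _ h => h

theorem isCl_clo (y : AlgSt.Points 𝒳) : IsCl h𝒳 (clo h𝒳 y) := by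
  intro ξ hξ
  have h1 : prei h𝒳 (clo h𝒳 y) ξ = ⋂ W : {W : Set (AlgSt.Points 𝒳) // IsCl h𝒳 W ∧ y ∈ W}, prei h𝒳 W.1 ξ := by
    ext t
    simp only [Set.mem_iInter]
    exact ⟨fun h W => h W.1 W.2.1 W.2.2, fun h W h1 h2 => h ⟨W, h1, h2⟩⟩
  rw [h1]
  exact isClosed_iInter fun W => W.2.1 ξ hξ

end Cl

/-- The points of the image of an étale chart. -/
def levSet {M : Sp S} (E : EtOver M) : Set (AlgSt.Points (ofSp M)) :=
  Set.range (pt (isFibGrpd_ofSp (M := M)) (etaOf E))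

theorem mem_levSet_iff {M : Sp S} (E : EtOver M) {n m' : (ofSp M).obj} (p : m' ⟶ n) (q : m' ⟶ etaOf E)
    (hu : ∀ (k : (ofSp M).obj) (a : k ⟶ n) (b : k ⟶ etaOf E), ∃! c : k ⟶ m', c ≫ p = a ∧ c ≫ q = b)
    (t : ↥(sch (ofSp M) n)) : pt (isFibGrpd_ofSp (M := M)) n t ∈ levSet E ↔ t ∈ Set.range (bmap (ofSp M) p) := by
  constructor
  · rintro ⟨s, hs⟩
    have h1 : AlgSt.FPt.Rel (fpt isFibGrpd_ofSp (etaOf E) s) (fpt isFibGrpd_ofSp n t) :=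
      (K735.Pts.mk_eq_mk_iff isFibGrpd_ofSp).1 hs
    obtain ⟨r, a, b, -⟩ := h1
    obtain ⟨c, ⟨hc1, hc2⟩, -⟩ := hu r.obj (b ≫ fptArr isFibGrpd_ofSp n t) (a ≫ fptArr isFibGrpd_ofSp (etaOf E) s)
    refine ⟨bmap (ofSp M) c (ptt r), ?_⟩
    have k2 : bmap (ofSp M) (c ≫ p) (ptt r) = bmap (ofSp M) (b ≫ fptArr isFibGrpd_ofSp n t) (ptt r) := by rw [hc1]
    rw [bmap_comp, bmap_comp] at k2
    refine k2.trans ?_
    change bmap (ofSp M) (fptArr isFibGrpd_ofSp n t) (bmap (ofSp M) b (ptt r)) = t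
    rw [eq_ptt _ (bmap (ofSp M) b (ptt r)), bmap_fptArr_ptt]
  · rintro ⟨t', rfl⟩
    refine ⟨bmap (ofSp M) q t', ?_⟩
    rw [pt_map, pt_map]

/-- The image of an étale chart is open. -/
theorem isCl_compl_levSet {M : Sp S} (E : EtOver M) : IsCl (isFibGrpd_ofSp (M := M)) (levSet E)ᶜ := by
  intro n hn
  obtain ⟨m', p, q, hp, -, -, hu⟩ := K907.EtFib.exists_prod E n
  have h1 : prei (isFibGrpd_ofSp (M := M)) (levSet E)ᶜ n = (Set.range (bmap (ofSp M) p))ᶜ := by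
    ext t
    exact not_congr (mem_levSet_iff E p q hu t)
  rw [h1]
  have h2 : IsOpen (Set.range (bmap (ofSp M) p)) := by
    haveI : Etale (bmap (ofSp M) p) := hp
    exact (bmap (ofSp M) p).isOpenMap.isOpen_range
  exact h2.isClosed_compl

theorem isEtaleAt_of_rep {𝒳' 𝒳 : AlgSt.Cat S} (h𝒳' : AlgSt.IsAlgStack Scheme.fppfPrecoverage 𝒳') {f : 𝒳' ⥤ᵇ 𝒳}
    (hfe : StPt.IsEtaleRep f) (p : FPt 𝒳') : StPt.IsEtaleAt Scheme.fppfPrecoverage f (AlgSt.Points.mk p) := by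
  refine ⟨fun _ => True, K899.OpenCrit.isOpenSubstack h𝒳' ?_, ⟨p, rfl, trivial⟩, ?_⟩
  · intro x
    exact ⟨⊤, fun y φ => ⟨fun _ => fun _ _ => trivial, fun _ => trivial⟩⟩
  · exact (K734.Rep.repByAlgSpWith_precomp_iff K738.Unr.isEquivOver_subIncl_top f).2 hfe

theorem result
    (S : Scheme.{u}) [QuasiSeparatedSpace S]
    (𝒳' 𝒳 : AlgSt.Cat S) (h𝒳' : AlgSt.IsAlgStack Scheme.fppfPrecoverage 𝒳') (h𝒳 : AlgSt.IsAlgStack Scheme.fppfPrecoverage 𝒳)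
    (hq' : AlgSt.IsQuasiCompact 𝒳') (hq : AlgSt.IsQuasiCompact 𝒳)
    (hd' : StPt.HasAffineDiag 𝒳') (hd : StPt.HasAffineDiag 𝒳)
    (X' X : AlgSp.Space S) (hX' : AlgSp.IsQuasiSeparatedSp X'.obj) (hX : AlgSp.IsQuasiSeparatedSp X.obj)
    (π' : 𝒳' ⥤ᵇ AlgSt.ofSp X'.obj) (π : 𝒳 ⥤ᵇ AlgSt.ofSp X.obj)
    (hπ'c : AlgSt.IsQuasiCompactMor Scheme.fppfPrecoverage π') (hπ's : AlgSt.IsQuasiSeparatedMor π') (hπ' : StMod.IsGoodModuli π')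
    (hπc : AlgSt.IsQuasiCompactMor Scheme.fppfPrecoverage π) (hπs : AlgSt.IsQuasiSeparatedMor π) (hπ : StMod.IsGoodModuli π)
    (f : 𝒳' ⥤ᵇ 𝒳) (hf : AlgSt.RepByAlgSpWith AlgSp.IsSeparatedMor f) (g : X'.obj ⟶ X.obj)
    (e : BasedFunctor.comp f π ≅ BasedFunctor.comp π' (AlgSt.ofSpMap g))
    (hfe : StPt.IsEtaleRep f)
    (hclosed : ∀ W : Set (AlgSt.Points 𝒳'), IsClosed W → W.Nonempty → ∃ x ∈ W, IsClosed {x})
    (ha : ∀ p : AlgSt.FPt 𝒳', IsClosed ({AlgSt.Points.mk p} : Set (AlgSt.Points 𝒳')) →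
      IsClosed ({AlgSt.Points.mk (p.map f)} : Set (AlgSt.Points 𝒳)) ∧ StPt.IsStabIsoAt f p.obj) :
    AlgSp.IsEtaleMor g ∧ FibCat.IsTwoCartOver f π' e := by
  refine K908.LunaN2.isTwoCartOver_of_charts 𝒳' 𝒳 h𝒳' h𝒳 X' X hX' hX π' π f g e (fun n t => ?_)
  have hF' := h𝒳'.isStack.1
  let y : AlgSt.Points (ofSp X'.obj) := pt isFibGrpd_ofSp n t
  obtain ⟨x, hx⟩ := K907.GoodFp.isSurjective h𝒳' X' hX' π' hπ'c hπ's hπ' y
  have hW := isClosed_of_isCl hF' (isCl_preimage hF' isFibGrpd_ofSp π' (isCl_clo isFibGrpd_ofSp y))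
  obtain ⟨x₀, hx₀, hc₀⟩ := hclosed _ hW ⟨x, by
    change AlgSt.Points.map π' x ∈ clo isFibGrpd_ofSp y
    rw [hx]
    exact mem_clo _ y⟩
  obtain ⟨p₀, rfl⟩ := exists_rep x₀
  obtain ⟨q, φ, hqa, hqp⟩ := exists_algClosed hF' p₀
  haveI := hqa
  rw [← hqp] at hc₀ hx₀
  obtain ⟨hc', hst⟩ := ha q hc₀
  obtain ⟨E', E, m, a', hE', hE, hm, hR⟩ := exists_level S 𝒳' 𝒳 h𝒳' h𝒳 hq' hq hd' hd X' X hX' hX π' π
    hπ'c hπ's hπ' hπc hπs hπ f hf g e q (isEtaleAt_of_rep h𝒳' hfe q) hst hc₀ hc'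
  obtain ⟨n', a, b, ha, -, -, hu⟩ := K907.EtFib.exists_prod E' n
  refine ⟨E', E, m, n', a, b, hE', hE, hm, hR, ha, ?_⟩
  refine (mem_levSet_iff E' a b hu t).1 ?_
  by_contra hne
  have h1 : AlgSt.Points.map π' (AlgSt.Points.mk q) ∈ (levSet E')ᶜ := hx₀ _ (isCl_compl_levSet E') hne
  apply h1
  refine ⟨str π' a' (ptt q), ?_⟩
  rw [← K862.Over.map_pt' isFibGrpd_ofSp hF' a', ← mk_eq_pt_self hF' q (ptt q)]

end K862.Main64
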