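import Groth.Agent.StMod.K862.FinLoc
import Groth.Agent.StMod.K862.LocFin
import Groth.Agent.StMod.K862.Main64
import Groth.Agent.StMod.K872.FinLev
import Groth.Agent.StMod.K563.FinCl
import Groth.Agent.StMod.K563.ClosedLN

/-!
# Quasi-finite morphisms of stacks with finite morphism of good moduli spaces
-/

set_option autoImplicit false
set_option linter.unusedVariables false
set_option linter.style.haveILetI false
set_option backward.isDefEq.respectTransparency false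
set_option backward.isDefEq.respectTransparency.types false

universe v₂ w₂ v₁ w₁ u

open CategoryTheory CategoryTheory.Limits AlgebraicGeometry Opposite AlgSt AlgSp
open StMod hiding fibCat

namespace K862.FinRow

open K862.Rep K862.FSq K862.Lev K862.Integ K862.Move K862.PushO K862.Over K862.FunC K862.Step1
  K862.Step3 K862.LevCl K862.Asm K862.FinLoc K862.LocFin K862.Main64 K908.Aff
  K907.Disj K907.FibTerm K906 K906.SpGeo K907.Sec K907.Tens K907.GM K907.Atl K907.Pt K907.Closed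

variable {S : Scheme.{u}}

section Lift

variable {M' M : Sp S} {g : M' ⟶ M}
  {𝒳' : BasedCategory.{v₁, w₁} (Over S)} {𝒳 : BasedCategory.{v₂, w₂} (Over S)}
  {f : 𝒳' ⥤ᵇ 𝒳} {π' : 𝒳' ⥤ᵇ ofSp M'} {π : 𝒳 ⥤ᵇ ofSp M} (e : BasedFunctor.comp f π ≅ BasedFunctor.comp π' (ofSpMap g))

/-- Universal arrows of `f` lift to universal arrows of `fibSq` over a cartesian level. -/
theorem isTerm_lift {η' : (ofSp M').obj} {η : (ofSp M).obj} (m : (ofSpMap g).obj η' ⟶ η)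
    (hU : ∀ (T : (ofSp M').obj) (β : (ofSpMap g).obj T ⟶ η), ∃! γ : T ⟶ η', (ofSpMap g).map γ ≫ m = β)
    (ξ : (fibCat π η).obj) {y : 𝒳'.obj} (α : f.obj y ⟶ FObj.pt ξ) (hα : IsTerm f α) :
    ∃ (γ : π'.obj y ⟶ η') (α' : (fibSq e m).obj (⟨y, γ⟩ : FObj π' η') ⟶ ξ), α'.hom = α ∧ IsTerm (fibSq e m) α' := by
  haveI := fun x => isIso_eArr e x
  obtain ⟨γ, hγ, huniq⟩ := hU (π'.obj y) (inv (eArr e y) ≫ π.map α ≫ FObj.arr ξ)
  refine ⟨γ, FObj.mkHom α ?_, rfl, ?_⟩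
  · change π.map α ≫ FObj.arr ξ = eArr e y ≫ (ofSpMap g).map γ ≫ m
    rw [hγ, IsIso.hom_inv_id_assoc]
  · intro θ β
    obtain ⟨χ, hχ, hχu⟩ := hα (FObj.pt θ) β.hom
    have hcomm : π'.map χ ≫ γ = FObj.arr θ := by
      obtain ⟨γ₁, -, hγ₁⟩ := hU (π'.obj (FObj.pt θ)) ((ofSpMap g).map (FObj.arr θ) ≫ m)
      rw [hγ₁ (FObj.arr θ) rfl]
      refine hγ₁ _ ?_
      change (ofSpMap g).map (π'.map χ ≫ γ) ≫ m = _
      have h1 : eArr e (FObj.pt θ) ≫ (ofSpMap g).map (π'.map χ) = π.map (f.map χ) ≫ eArr e y := (eArr_nat e χ).symm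
      have h2 : (ofSpMap g).map (π'.map χ) = inv (eArr e (FObj.pt θ)) ≫ π.map (f.map χ) ≫ eArr e y := by
        rw [← h1, IsIso.inv_hom_id_assoc]
      have h3 : π.map β.hom ≫ FObj.arr ξ = eArr e (FObj.pt θ) ≫ (ofSpMap g).map (FObj.arr θ) ≫ m := β.comm
      rw [Functor.map_comp, Category.assoc, hγ, h2, Category.assoc, Category.assoc, IsIso.hom_inv_id_assoc]
      have h4 : π.map (f.map χ) ≫ π.map α = π.map β.hom := by
        rw [← Functor.map_comp]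
        exact congrArg (fun k => π.map k) hχ
      rw [reassoc_of% h4, h3, IsIso.inv_hom_id_assoc]
    refine ⟨FObj.mkHom χ hcomm, FObj.hom_ext hχ, fun χ' hχ' => FObj.hom_ext (hχu _ ?_)⟩
    exact congrArg FObj.Hom.hom hχ'

theorem isRep_fibSq {P : MorphismProperty Scheme.{u}} {η' : (ofSp M').obj} {η : (ofSp M).obj} (m : (ofSpMap g).obj η' ⟶ η)
    (hU : ∀ (T : (ofSp M').obj) (β : (ofSpMap g).obj T ⟶ η), ∃! γ : T ⟶ η', (ofSpMap g).map γ ≫ m = β)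
    (hf : IsRep P f) : IsRep P (fibSq e m) := by
  intro ξ hξ
  obtain ⟨y, α, hα, hP⟩ := hf (FObj.pt ξ) hξ
  obtain ⟨γ, α', h1, h2⟩ := isTerm_lift e m hU ξ α hα
  refine ⟨_, α', h2, ?_⟩
  change P (str f α'.hom)
  rw [h1]
  exact hP

end Lift

/-- Closed points with the same functions are equal. -/
theorem eq_of_isCl {𝒴 : BasedCategory.{v₁, w₁} (Over S)} (h𝒴 : FibCat.IsFibGrpd 𝒴.p) (P : Pres 𝒴)
    (hex : K907.Free.Exact 𝒴) {A : Type u} [CommRing A] (s : Fn A 𝒴) (hs : K907.Free.IsFn s) (y₁ y₂ : 𝒴.obj)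
    (hy₁ : IsAffine (sch 𝒴 y₁)) (hy₂ : IsAffine (sch 𝒴 y₂)) (t₁ : ↥(sch 𝒴 y₁)) (t₂ : ↥(sch 𝒴 y₂))
    (h₁ : IsCl h𝒴 {pt h𝒴 y₁ t₁}) (h₂ : IsCl h𝒴 {pt h𝒴 y₂ t₂})
    (h : ∀ a : A, s.σ y₁ a ∈ ((sch 𝒴 y₁).toSpecΓ t₁).asIdeal → s.σ y₂ a ∈ ((sch 𝒴 y₂).toSpecΓ t₂).asIdeal) :
    pt h𝒴 y₁ t₁ = pt h𝒴 y₂ t₂ := by
  by_contra hne
  obtain ⟨Q, r, c₁, hr, hc₁⟩ := exists_sep h𝒴 (smCov_of_pres.{0} P) h₁ h₂ (by
    rw [Set.disjoint_singleton]
    exact hne)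
  obtain ⟨c, hc⟩ := hex r hr c₁
  obtain ⟨b, hb⟩ := hs.2 c
  have hval : ∀ ξ : 𝒴.obj, IsAffine (sch 𝒴 ξ) →
      (∀ t' : ↥(sch 𝒴 ξ), pt h𝒴 ξ t' = pt h𝒴 y₁ t₁ → s.σ ξ b ∈ ((sch 𝒴 ξ).toSpecΓ t').asIdeal) ∧
      (∀ t' : ↥(sch 𝒴 ξ), pt h𝒴 ξ t' = pt h𝒴 y₂ t₂ → 1 - s.σ ξ b ∈ ((sch 𝒴 ξ).toSpecΓ t').asIdeal) := by
    intro ξ hξ
    have h3 := hc₁ ξ hξ (vO c ξ) (by
      rw [← hc]
      rfl)
    have h4 : vO c ξ = s.σ ξ b := by
      rw [← hb]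
      rfl
    rw [h4] at h3
    exact ⟨fun t' ht' => h3.1 t' ht', fun t' ht' => h3.2 t' ht'⟩
  have h5 := h b ((hval y₁ hy₁).1 t₁ rfl)
  have h6 := (hval y₂ hy₂).2 t₂ rfl
  have h7 := Ideal.add_mem _ h5 h6
  rw [add_sub_cancel] at h7
  exact ((sch 𝒴 y₂).toSpecΓ t₂).isPrime.ne_top ((Ideal.eq_top_iff_one _).2 h7)

theorem isUnit_of_forall {X : Scheme.{u}} (r : Γ(X, ⊤)) (h : ∀ x : X, r ∉ (X.toSpecΓ x).asIdeal) : IsUnit r :=
  X.toRingedSpace.isUnit_of_isUnit_germ ⊤ r fun x hx => by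
    have h1 := (K563.NormFun.mem_basicOpen_iff x r).2 (h x)
    exact (Scheme.mem_basicOpen_top _ _ _).1 h1

section Locus

variable {M' M : Sp S} {g : M' ⟶ M}
  {𝒳' : BasedCategory.{v₁, w₁} (Over S)} {𝒳 : BasedCategory.{v₂, w₂} (Over S)}
  {f : 𝒳' ⥤ᵇ 𝒳} {π' : 𝒳' ⥤ᵇ ofSp M'} {π : 𝒳 ⥤ᵇ ofSp M} (e : BasedFunctor.comp f π ≅ BasedFunctor.comp π' (ofSpMap g))

/-- Membership in the ideal of a point. -/
theorem mem_asIdeal_map {𝒴 : BasedCategory.{v₁, w₁} (Over S)} {A : Type u} [CommRing A] (s : Fn A 𝒴) {y' y : 𝒴.obj}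
    (φ : y' ⟶ y) (t : ↥(sch 𝒴 y')) (a : A) :
    s.σ y a ∈ ((sch 𝒴 y).toSpecΓ (bmap 𝒴 φ t)).asIdeal ↔ s.σ y' a ∈ ((sch 𝒴 y').toSpecΓ t).asIdeal := by
  rw [K563.NormFun.toSpecΓ_apply]
  have h1 : (bmap 𝒴 φ).appTop (s.σ y a) = s.σ y' a := congrArg (fun k => k a) (s.comm φ)
  rw [h1]

/-- From the finiteness over a basic open of a level to points of `𝒳`. -/
theorem good_of_locus (h𝒳 : FibCat.IsFibGrpd 𝒳.p) (E' : EtOver M') (E : EtOver M)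
    (m : (ofSpMap g).obj (etaOf E') ⟶ etaOf E)
    (hU : ∀ (T : (ofSp M').obj) (β : (ofSpMap g).obj T ⟶ etaOf E), ∃! γ : T ⟶ etaOf E', (ofSpMap g).map γ ≫ m = β)
    (a₀ : Γ(sch (ofSp M) (etaOf E), ⊤))
    (hfin : ∀ (ξ : (fibCat π (etaOf E)).obj), IsAffine (sch (fibCat π (etaOf E)) ξ) → IsUnit ((fn π E).σ ξ a₀) →
      ∀ (y : (fibCat π' (etaOf E')).obj) (α : (fibSq e m).obj y ⟶ ξ), IsTerm (fibSq e m) α → IsFinite (str (fibSq e m) α))
    (q : FPt 𝒳) (a : π.obj q.obj ⟶ etaOf E)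
    (ha : (fn π E).σ (⟨q.obj, a⟩ : FObj π (etaOf E)) a₀ ∉ ((sch 𝒳 q.obj).toSpecΓ (ptt q)).asIdeal)
    (ξ : 𝒳.obj) (s : ↥(sch 𝒳 ξ)) (hs : pt h𝒳 ξ s = AlgSt.Points.mk q) : Good f ξ s := by
  have h𝒴 : FibCat.IsFibGrpd (fibCat π (etaOf E)).p := isFibGrpd_fibCat h𝒳
  have hrel : FPt.Rel q (fpt h𝒳 ξ s) := (K735.Pts.mk_eq_mk_iff h𝒳).1 hs.symm
  obtain ⟨r, α₁, β₁, -⟩ := hrel
  let θ : (fibCat π (etaOf E)).obj := ⟨r.obj, π.map α₁ ≫ a⟩
  let y₀ : (fibCat π (etaOf E)).obj := ⟨q.obj, a⟩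
  let ψ₀ : θ ⟶ y₀ := FObj.mkHom α₁ rfl
  obtain ⟨y, φ, hterm, het, -, -⟩ := exists_fibObj h𝒳 π E ξ
  obtain ⟨χ, hχ, -⟩ := hterm θ (β₁ ≫ fptArr h𝒳 ξ s)
  have hχ' : χ.hom ≫ φ = β₁ ≫ fptArr h𝒳 ξ s := hχ
  let y₁ : (fibCat π (etaOf E)).obj := y
  let t₁ : ↥(sch (fibCat π (etaOf E)) y₁) := bmap 𝒳 χ.hom (ptt r)
  have hst : bmap 𝒳 φ t₁ = s := by
    have k2 : bmap 𝒳 (χ.hom ≫ φ) (ptt r) = bmap 𝒳 (β₁ ≫ fptArr h𝒳 ξ s) (ptt r) := by rw [hχ']
    rw [bmap_comp, bmap_comp] at k2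
    refine k2.trans ?_
    change bmap 𝒳 (fptArr h𝒳 ξ s) (bmap 𝒳 β₁ (ptt r)) = s
    rw [eq_ptt _ (bmap 𝒳 β₁ (ptt r)), bmap_fptArr_ptt]
  have hne : (fn π E).σ y₁ a₀ ∉ ((sch (fibCat π (etaOf E)) y₁).toSpecΓ t₁).asIdeal := by
    intro h1
    have h2 : (fn π E).σ θ a₀ ∈ ((sch (fibCat π (etaOf E)) θ).toSpecΓ (ptt r)).asIdeal :=
      (mem_asIdeal_map (fn π E) χ (ptt r) a₀).1 h1
    have h3 := (mem_asIdeal_map (fn π E) ψ₀ (ptt r) a₀).2 h2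
    have h4 : bmap (fibCat π (etaOf E)) ψ₀ (ptt r) = ptt q := eq_ptt q _
    rw [h4] at h3
    exact ha h3
  obtain ⟨V, hV, htV, hVU⟩ := exists_isAffineOpen_mem_and_subset (X := sch (fibCat π (etaOf E)) y₁) (x := t₁)
    (U := (sch (fibCat π (etaOf E)) y₁).basicOpen ((fn π E).σ y₁ a₀)) ((K563.NormFun.mem_basicOpen_iff _ _).2 hne)
  obtain ⟨ζ, ψ, h1, h2⟩ := K908.Fib.exists_restr (hX := h𝒴) y₁ V
  have hζ : IsAffine (sch (fibCat π (etaOf E)) ζ) := K908.Fib.isAffine_of_opensRange ψ (by rw [h2]; exact hV)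
  have hu : IsUnit ((fn π E).σ ζ a₀) := by
    refine isUnit_of_forall _ fun z hz => ?_
    have h3 := (mem_asIdeal_map (fn π E) ψ z a₀).2 hz
    have h4 : bmap (fibCat π (etaOf E)) ψ z ∈ (sch (fibCat π (etaOf E)) y₁).basicOpen ((fn π E).σ y₁ a₀) := by
      apply hVU
      have h5 : bmap (fibCat π (etaOf E)) ψ z ∈ (bmap (fibCat π (etaOf E)) ψ).opensRange := ⟨z, rfl⟩
      rw [h2] at h5
      exact h5
    exact (K563.NormFun.mem_basicOpen_iff _ _).1 h4 h3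
  have htr : t₁ ∈ (bmap (fibCat π (etaOf E)) ψ).opensRange := by rw [h2]; exact htV
  obtain ⟨z₁, hz₁⟩ := htr
  refine ⟨FObj.pt ζ, ψ.hom ≫ φ, hζ, ?_, ⟨z₁, ?_⟩, fun y₂ α hα => ?_⟩
  · rw [bmap_comp]
    haveI : IsOpenImmersion (bmap 𝒳 ψ.hom) := h1
    haveI := het
    infer_instance
  · rw [bmap_comp]
    change bmap 𝒳 φ (bmap (fibCat π (etaOf E)) ψ z₁) = s
    have hz₁' : bmap (fibCat π (etaOf E)) ψ z₁ = t₁ := hz₁
    rw [hz₁', hst]
  · obtain ⟨γ, α', h5, h6⟩ := isTerm_lift e m hU ζ α hα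
    have h7 := hfin ζ hζ hu _ α' h6
    change IsFinite (str f α'.hom) at h7
    rw [h5] at h7
    exact h7

end Locus

/-- Points of an affine scheme are determined by their ideals. -/
theorem eq_of_asIdeal {X : Scheme.{u}} [IsAffine X] {x y : X}
    (h : ∀ r : Γ(X, ⊤), r ∈ (X.toSpecΓ x).asIdeal ↔ r ∈ (X.toSpecΓ y).asIdeal) : x = y := by
  have h4 : Function.Injective X.toSpecΓ := by
    have : IsIso X.toSpecΓ := inferInstance
    exact X.toSpecΓ.homeomorph.injective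
  apply h4
  apply PrimeSpectrum.ext
  ext r
  exact h r

theorem exists_asIdeal {X : Scheme.{u}} [IsAffine X] (n : Ideal Γ(X, ⊤)) [hn : n.IsPrime] :
    ∃ x : X, (X.toSpecΓ x).asIdeal = n := by
  have h4 : Function.Surjective X.toSpecΓ := by
    have : IsIso X.toSpecΓ := inferInstance
    exact X.toSpecΓ.homeomorph.surjective
  obtain ⟨x, hx⟩ := h4 ⟨n, hn⟩
  exact ⟨x, by rw [hx]⟩

/-- The main theorem: a quasi-finite separated morphism of stacks with good moduli spaces is finite if the morphism of the good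
moduli spaces is finite and closed points are mapped to closed points. -/
theorem isRep_finite (S : Scheme.{u}) [QuasiSeparatedSpace S] (𝒳' 𝒳 : AlgSt.Cat S)
    (h𝒳' : AlgSt.IsAlgStack Scheme.fppfPrecoverage 𝒳') (h𝒳 : AlgSt.IsAlgStack Scheme.fppfPrecoverage 𝒳)
    (M' M : AlgSp.Space S) (hM' : AlgSp.IsQuasiSeparatedSp M'.obj) (hM : AlgSp.IsQuasiSeparatedSp M.obj)
    (π' : 𝒳' ⥤ᵇ AlgSt.ofSp M'.obj) (π : 𝒳 ⥤ᵇ AlgSt.ofSp M.obj)
    (hqc' : AlgSt.IsQuasiCompactMor Scheme.fppfPrecoverage π') (hqs' : AlgSt.IsQuasiSeparatedMor π')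
    (h' : StMod.IsGoodModuli π')
    (hqc : AlgSt.IsQuasiCompactMor Scheme.fppfPrecoverage π) (hqs : AlgSt.IsQuasiSeparatedMor π) (h : StMod.IsGoodModuli π)
    (f : 𝒳' ⥤ᵇ 𝒳) (g : M'.obj ⟶ M.obj) (e : BasedFunctor.comp f π ≅ BasedFunctor.comp π' (AlgSt.ofSpMap g))
    (hf : IsRep QfSep f) (hg : AlgSp.IsFiniteMor g)
    (hcl' : ∀ W : Set (AlgSt.Points 𝒳'), IsClosed W → W.Nonempty → ∃ x ∈ W, IsClosed ({x} : Set (AlgSt.Points 𝒳')))
    (hcl : ∀ W : Set (AlgSt.Points 𝒳), IsClosed W → W.Nonempty → ∃ x ∈ W, IsClosed ({x} : Set (AlgSt.Points 𝒳)))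
    (hc : ∀ x : AlgSt.Points 𝒳', IsClosed ({x} : Set (AlgSt.Points 𝒳')) →
      IsClosed ({AlgSt.Points.map f x} : Set (AlgSt.Points 𝒳))) : IsRep @IsFinite f := by
  have hF' := h𝒳'.isStack.1
  have hF := h𝒳.isStack.1
  have cc' := K735.Top.chartCont_of_isAlgStack h𝒳'
  have cc := K735.Top.chartCont_of_isAlgStack h𝒳
  obtain ⟨A⟩ := K906.nonempty_smAtlas h𝒳.isStack.1 h𝒳.atlas
  have hd := K563.QsDiag.diag_isQuasiCompactMor h𝒳 M.property hM π hqs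
  refine isRep_finite_of_good hF hF' hf ?_
  by_contra hne
  push Not at hne
  obtain ⟨ξ₀, hξ₀, s₀, hs₀⟩ := hne
  have hbad : IsClosed (bad hF f) := isClosed_of_isCl hF (isCl_bad hF hF' A hf)
  obtain ⟨t, ⟨ξ, hξ, s, hst, hs⟩, htc⟩ := hcl _ hbad ⟨pt hF ξ₀ s₀, ξ₀, hξ₀, s₀, rfl, hs₀⟩
  apply hs
  -- a geometric point over `t`
  obtain ⟨p₀, hp₀⟩ := exists_rep t
  obtain ⟨q, -, hqa, hqp⟩ := exists_algClosed hF p₀
  haveI := hqa
  have hqt : AlgSt.Points.mk q = t := hqp.trans hp₀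
  let i : (π.obj q.obj).base.left ≅ Spec (CommRingCat.of q.K) :=
    (Over.forget S).mapIso (eqToIso ((π.w_obj q.obj).trans q.lies))
  obtain ⟨E, a, hE⟩ := K908.LunaN4.exists_etOver_nhd M.property (π.obj q.obj) i
  obtain ⟨E', m, hE', hmf, hU⟩ := K872.FinLev.exists_finLev g hg E hE
  obtain ⟨hex, ⟨P⟩⟩ := K907.GM.exact_and_pres h𝒳 hM hqc hqs h.1 E hE
  have hFE : FibCat.IsFibGrpd (fibCat π (etaOf E)).p := isFibGrpd_fibCat hF
  have hFE' : FibCat.IsFibGrpd (fibCat π' (etaOf E')).p := isFibGrpd_fibCat hF'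
  have hrep : IsRep QfSep (fibSq e m) := isRep_fibSq e m hU hf
  let y₀ : (fibCat π (etaOf E)).obj := ⟨q.obj, a⟩
  have hq₀ : IsAffine (sch 𝒳 q.obj) := K872.ClosedPt.isAffine_fpt q
  have hxt : IsCl hF {t} := K907.Rows.isCl_of_isClosed hF cc htc
  have hx₀ : IsCl hFE {pt hFE y₀ (ptt q)} := by
    refine isCl_level hF A hd hM π E hE hxt _ ?_
    rintro d rfl
    rw [map_pt' hF hFE (p := fibPt π (etaOf E)) (y := y₀) (ξ := q.obj) (𝟙 q.obj) (ptt q), ← hqt,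
      mk_eq_pt_self hF q (ptt q)]
    congr 1
    exact eq_ptt q _
  -- the prime of `x₀`
  let m₀ : Ideal Γ(E.obj.left.left, ⊤) := (((sch 𝒳 q.obj).toSpecΓ (ptt q)).asIdeal).comap ((fn π E).σ y₀)
  haveI : m₀.IsPrime := by
    haveI := ((sch 𝒳 q.obj).toSpecΓ (ptt q)).isPrime
    exact Ideal.IsPrime.comap _
  have hm₀ : ∀ r : Γ(sch (ofSp M.obj) (etaOf E), ⊤), r ∈ m₀ ↔
      r ∈ ((sch (ofSp M.obj) (etaOf E)).toSpecΓ (str π a (ptt q))).asIdeal := fun r =>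
    (K563.NormFun.toSpecΓ_apply (str π a) (ptt q) r).symm
  haveI := hE
  haveI := hE'
  have hint : (m.hom.left.appTop.hom : Γ(E.obj.left.left, ⊤) →+* Γ(E'.obj.left.left, ⊤)).IsIntegral := by
    haveI : IsAffine (etaOf E).base.left := hE
    haveI : IsAffine (etaOf E').base.left := hE'
    haveI : IsIntegralHom (m.hom.left : E'.obj.left.left ⟶ E.obj.left.left) := by
      haveI : IsFinite (m.hom.left : E'.obj.left.left ⟶ E.obj.left.left) := hmf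
      infer_instance
    exact IsIntegralHom.isIntegral_app (f := (m.hom.left : E'.obj.left.left ⟶ E.obj.left.left)) ⊤ (isAffineOpen_top _)
  have hlf := exists_finite_locus (A := Γ(E.obj.left.left, ⊤)) (B := Γ(E'.obj.left.left, ⊤)) m.hom.left.appTop.hom hint
    hFE hFE' hrep P hex (fn π E) (fn π' E') (isFn π' E' h'.2) (fun y r => pullFn_fibSq e m y r) hx₀ m₀ ?_
  · obtain ⟨a₀, ha₀, hfin⟩ := hlf
    exact good_of_locus e hF E' E m hU a₀ hfin q a (fun hmem => ha₀ hmem) ξ s (hst.trans hqt.symm)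
  · intro n hn hnm
    obtain ⟨x', hx'⟩ := exists_asIdeal (X := E'.obj.left.left) n
    -- the point of `M'`
    let μ' : AlgSt.Points (ofSp M'.obj) := pt isFibGrpd_ofSp (etaOf E') x'
    have hmx : str (ofSpMap g) m x' = str π a (ptt q) := by
      apply @eq_of_asIdeal (sch (ofSp M.obj) (etaOf E)) hE
      intro r
      refine Iff.trans ?_ (hm₀ r)
      refine (K563.NormFun.toSpecΓ_apply (str (ofSpMap g) m) x' r).trans ?_
      rw [str_ofSpMap]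
      change m.hom.left.appTop r ∈ ((E'.obj.left.left).toSpecΓ x').asIdeal ↔ r ∈ m₀
      rw [hx', ← hnm]
      rfl
    have hπt : AlgSt.Points.map π t = pt isFibGrpd_ofSp (etaOf E) (str π a (ptt q)) := by
      rw [← hqt, mk_eq_pt_self hF q (ptt q), map_pt' isFibGrpd_ofSp hF a (ptt q)]
    have hμ : AlgSt.Points.map (ofSpMap g) μ' = AlgSt.Points.map π t := by
      rw [hπt, ← hmx]
      exact map_pt' isFibGrpd_ofSp isFibGrpd_ofSp (p := ofSpMap g) (y := etaOf E') m x'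
    have hμc : IsClosed ({AlgSt.Points.map π t} : Set (AlgSt.Points (ofSp M.obj))) := by
      have h1 := K563.ClosedLN.isClosedMap h𝒳 M hM π hqc hqs h {t} htc
      rwa [Set.image_singleton] at h1
    have hμ'c : IsClosed ({μ'} : Set (AlgSt.Points (ofSp M'.obj))) :=
      K563.FinCl.isCl_of_finite hM g hg μ' (by rw [hμ]; exact hμc)
    obtain ⟨x₁, hx₁⟩ := K907.GoodFp.isSurjective h𝒳' M' hM' π' hqc' hqs' h' μ'
    have hW : IsClosed (AlgSt.Points.map π' ⁻¹' {μ'}) :=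
      isClosed_of_isCl hF' (isCl_preimage hF' isFibGrpd_ofSp π' (K907.Rows.isCl_of_isClosed isFibGrpd_ofSp
        (K735.Top.chartCont_of_isAlgStack (K740.SpDM.isAlgStack_ofSp M'.property)) hμ'c))
    obtain ⟨x₂, hx₂, hx₂c⟩ := hcl' _ hW ⟨x₁, hx₁⟩
    have hx₂' : AlgSt.Points.map π' x₂ = μ' := hx₂
    have he : AlgSt.Points.map π (AlgSt.Points.map f x₂) = AlgSt.Points.map π t := by
      rw [← K735.Pts.map_comp, K735.Pts.map_congr e x₂, K735.Pts.map_comp, hx₂', hμ]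
    have hx₂t : AlgSt.Points.map f x₂ = t :=
      K907.Rows.eq_of_isClosed hF (K907.Rows.hasCov h𝒳) M.property π h _ _ (hc x₂ hx₂c) htc he
    obtain ⟨q₂, hq₂⟩ := exists_rep x₂
    have hrel : FPt.Rel (q₂.map π') (fpt isFibGrpd_ofSp (etaOf E') x') :=
      (K735.Pts.mk_eq_mk_iff isFibGrpd_ofSp).1 (by
        have h1 : AlgSt.Points.map π' (AlgSt.Points.mk q₂) = μ' := by rw [hq₂, hx₂']
        exact h1)
    obtain ⟨r, a₁, b₁, -⟩ := hrel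
    obtain ⟨z, φz, iz, hiz, hc₁⟩ := exists_lift_fun hF' isFibGrpd_ofSp π' (x := q₂.obj) a₁
    let yz : (fibCat π' (etaOf E')).obj := ⟨z, iz ≫ b₁ ≫ fptArr isFibGrpd_ofSp (etaOf E') x'⟩
    have hisoz : IsIso (str π' iz) := baseOver_isIso π' iz
    obtain ⟨tz, htz⟩ : ∃ tz : ↥(sch 𝒳' z), str π' iz tz = ptt r :=
      (str π' iz).homeomorph.surjective (ptt r)
    have hzaff : IsAffine (sch 𝒳' z) := by
      haveI := K872.ClosedPt.isAffine_fpt r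
      exact IsAffine.of_isIso (str π' iz)
    have hstr : str π' (FObj.arr yz) tz = x' := by
      change str π' (iz ≫ b₁ ≫ fptArr isFibGrpd_ofSp (etaOf E') x') tz = x'
      rw [str_comp, Scheme.Hom.comp_apply, htz, bmap_comp, Scheme.Hom.comp_apply]
      rw [eq_ptt _ (bmap (ofSp M'.obj) b₁ (ptt r)), bmap_fptArr_ptt]
    have hnz : ∀ b : Γ(E'.obj.left.left, ⊤), (fn π' E').σ yz b ∈ ((sch 𝒳' z).toSpecΓ tz).asIdeal ↔ b ∈ n := by
      intro b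
      have h1 := K563.NormFun.toSpecΓ_apply (str π' (FObj.arr yz)) tz b
      rw [hstr] at h1
      have h2 : b ∈ ((E'.obj.left.left).toSpecΓ x').asIdeal ↔ b ∈ n := by rw [hx']
      exact h1.symm.trans h2
    refine ⟨yz, tz, hzaff, ?_, fun b hb => (hnz b).2 hb⟩
    let w : (fibCat π (etaOf E)).obj := (fibSq e m).obj yz
    have hwaff : IsAffine (sch (fibCat π (etaOf E)) w) := isAffine_pobj (p := fibSq e m) (θ := yz) hzaff
    have hw1 : AlgSt.Points.map (fibSq e m) (pt hFE' yz tz) = pt hFE w (str (fibSq e m) (𝟙 w) tz) :=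
      map_pt' hFE hFE' (𝟙 w) tz
    have hcl₁ : IsCl hFE {pt hFE w (str (fibSq e m) (𝟙 w) tz)} := by
      refine isCl_level hF A hd hM π E hE hxt _ ?_
      rintro d rfl
      rw [← hw1]
      have h1 : ∀ d : AlgSt.Points (fibCat π' (etaOf E')),
          AlgSt.Points.map (fibPt π (etaOf E)) (AlgSt.Points.map (fibSq e m) d) =
            AlgSt.Points.map f (AlgSt.Points.map (fibPt π' (etaOf E')) d) := by
        intro d
        obtain ⟨d, rfl⟩ := exists_rep d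
        rfl
      rw [h1, map_pt' hF' hFE' (p := fibPt π' (etaOf E')) (y := yz) (ξ := q₂.obj) φz tz]
      have h2 : pt hF' q₂.obj (str (fibPt π' (etaOf E')) (y := yz) (ξ := q₂.obj) φz tz) = x₂ := by
        rw [← hq₂, mk_eq_pt_self hF' q₂ (ptt q₂)]
        congr 1
        exact eq_ptt q₂ _
      rw [h2, hx₂t]
    rw [hw1]
    refine eq_of_isCl hFE P hex (fn π E) (isFn π E h.2) w y₀ hwaff hq₀ _ _ hcl₁ hx₀ ?_
    intro r hr
    rw [K563.NormFun.toSpecΓ_apply] at hr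
    have h3 : (str (fibSq e m) (𝟙 w)).appTop ((fn π E).σ w r) = (fn π' E').σ yz (m.hom.left.appTop r) := by
      rw [← pullFn_fibSq e m yz r]
      exact (pullFn_σ (fn π E) (𝟙 w) r).symm
    rw [h3] at hr
    have h4 := (hnz _).1 hr
    have h5 : r ∈ m₀ := by
      rw [← hnm]
      exact h4
    exact h5

end K862.FinRow
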