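import Groth.Agent.StMod.K862.Rep

/-!
# The functor between the fibre categories of a 2-commutative square

For a square `e : f ≫ π ≅ π' ≫ G` of categories over `(Sch/S)` and an arrow `m : G η' ⟶ η` the functor
`fibSq e m : fibCat π' η' ⥤ᵇ fibCat π η`, `(ξ', α') ↦ (f ξ', e ≫ G α' ≫ m)`.
-/

set_option autoImplicit false
set_option linter.unusedVariables false
set_option linter.style.haveILetI false
set_option backward.isDefEq.respectTransparency false
set_option backward.isDefEq.respectTransparency.types false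

universe v₄ w₄ v₃ w₃ v₂ w₂ v₁ w₁ u

open CategoryTheory CategoryTheory.Limits AlgebraicGeometry Opposite StMod AlgSt

namespace K862.FSq

open K862.Rep K908.Aff K907.Disj K907.FibTerm K906

variable {S : Scheme.{u}} {𝒳' : BasedCategory.{v₁, w₁} (Over S)} {𝒳 : BasedCategory.{v₂, w₂} (Over S)}
  {𝒩' : BasedCategory.{v₃, w₃} (Over S)} {𝒩 : BasedCategory.{v₄, w₄} (Over S)}
  {f : 𝒳' ⥤ᵇ 𝒳} {π' : 𝒳' ⥤ᵇ 𝒩'} {π : 𝒳 ⥤ᵇ 𝒩} {G : 𝒩' ⥤ᵇ 𝒩}

/-- The component of `e` at an object. -/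
def eArr (e : BasedFunctor.comp f π ≅ BasedFunctor.comp π' G) (ξ : 𝒳'.obj) : π.obj (f.obj ξ) ⟶ G.obj (π'.obj ξ) :=
  e.hom.toNatTrans.app ξ

theorem eArr_nat (e : BasedFunctor.comp f π ≅ BasedFunctor.comp π' G) {ξ' ξ : 𝒳'.obj} (φ : ξ' ⟶ ξ) :
    π.map (f.map φ) ≫ eArr e ξ = eArr e ξ' ≫ G.map (π'.map φ) :=
  e.hom.toNatTrans.naturality φ

instance isIso_eArr (e : BasedFunctor.comp f π ≅ BasedFunctor.comp π' G) (ξ : 𝒳'.obj) : IsIso (eArr e ξ) :=
  inferInstanceAs (IsIso (((BasedNatTrans.forgetful _ _).mapIso e).app ξ).hom)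

theorem isHomLift_eArr (e : BasedFunctor.comp f π ≅ BasedFunctor.comp π' G) (ξ : 𝒳'.obj) :
    𝒩.p.IsHomLift (𝟙 (𝒳'.p.obj ξ)) (eArr e ξ) :=
  BasedNatTrans.isHomLift e.hom rfl

theorem baseOver_eArr (e : BasedFunctor.comp f π ≅ BasedFunctor.comp π' G) (ξ : 𝒳'.obj) {η : 𝒩.obj}
    (β : G.obj (π'.obj ξ) ⟶ η) :
    baseOver π (f.obj ξ) (eArr e ξ ≫ β) = eqToHom (f.w_obj ξ) ≫ eqToHom (π'.w_obj ξ).symm ≫ baseOver G (π'.obj ξ) β := by
  have h := isHomLift_eArr e ξ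
  have h2 := IsHomLift.fac' 𝒩.p (𝟙 (𝒳'.p.obj ξ)) (eArr e ξ)
  rw [baseOver, baseOver, Functor.map_comp, h2, Category.id_comp, eqToHom_trans]
  simp only [eqToHom_trans_assoc]

theorem str_eArr (e : BasedFunctor.comp f π ≅ BasedFunctor.comp π' G) (ξ : 𝒳'.obj) {η : 𝒩.obj}
    (β : G.obj (π'.obj ξ) ⟶ η) :
    str π (eArr e ξ ≫ β) = (eqSch f ξ).inv ≫ (eqSch π' ξ).hom ≫ str G β := by
  have h := congrArg (fun t => t.left) (baseOver_eArr e ξ β)
  exact h

variable (e : BasedFunctor.comp f π ≅ BasedFunctor.comp π' G)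

/-- The functor between the fibre categories of a square. -/
def fibSq {η' : 𝒩'.obj} {η : 𝒩.obj} (m : G.obj η' ⟶ η) : fibCat π' η' ⥤ᵇ fibCat π η where
  toFunctor :=
    { obj := fun a => ⟨f.obj a.pt, eArr e a.pt ≫ G.map a.arr ≫ m⟩
      map := fun {a b} φ => FObj.mkHom (f.map φ.hom) (by
        change π.map (f.map φ.hom) ≫ eArr e b.pt ≫ G.map b.arr ≫ m = eArr e a.pt ≫ G.map a.arr ≫ m
        rw [← Category.assoc, eArr_nat, Category.assoc, ← Category.assoc (G.map _), ← Functor.map_comp, φ.comm])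
      map_id := fun a => FObj.hom_ext (f.map_id a.pt)
      map_comp := fun φ ψ => FObj.hom_ext (f.map_comp (FObj.Hom.hom φ) (FObj.Hom.hom ψ)) }
  w := CategoryTheory.Functor.ext (fun a => by
      have h : 𝒳.p.obj (f.obj (FObj.pt a)) = 𝒳'.p.obj (FObj.pt a) := f.w_obj (FObj.pt a)
      exact h) (fun a b φ => by
    have h := Functor.congr_hom f.w (FObj.Hom.hom φ)
    exact h)

variable {η' : 𝒩'.obj} {η : 𝒩.obj} (m : G.obj η' ⟶ η)

@[simp] theorem fibSq_obj_pt (a : (fibCat π' η').obj) : ((fibSq e m).obj a).pt = f.obj (FObj.pt a) := rfl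

@[simp] theorem fibSq_obj_arr (a : (fibCat π' η').obj) :
    ((fibSq e m).obj a).arr = eArr e (FObj.pt a) ≫ G.map (FObj.arr a) ≫ m := rfl

@[simp] theorem fibSq_map_hom {a b : (fibCat π' η').obj} (φ : a ⟶ b) :
    ((fibSq e m).map φ).hom = f.map (FObj.Hom.hom φ) := rfl

theorem str_fibSq {a : (fibCat π' η').obj} {b : (fibCat π η).obj} (α : (fibSq e m).obj a ⟶ b) :
    str (fibSq e m) α = str f (FObj.Hom.hom α) := rfl

/-- The function of the target of the square through a universal arrow. -/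
theorem str_comm {a : (fibCat π' η').obj} {b : (fibCat π η).obj} (α : (fibSq e m).obj a ⟶ b) :
    str f (FObj.Hom.hom α) ≫ str π (FObj.arr b) = str π' (FObj.arr a) ≫ str G m := by
  have h1 : str π (FObj.arr ((fibSq e m).obj a)) = bmap 𝒳 α.hom ≫ str π (FObj.arr b) := by
    rw [← α.comm, str_map]
  have h2 : str π (FObj.arr ((fibSq e m).obj a)) =
      (eqSch f (FObj.pt a)).inv ≫ (eqSch π' (FObj.pt a)).hom ≫ str G (G.map (FObj.arr a) ≫ m) :=
    str_eArr e (FObj.pt a) _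
  rw [str_map, ← Category.assoc (eqSch π' _).hom, ← str_eq] at h2
  rw [str_eq, Category.assoc, ← h1, h2, Iso.hom_inv_id_assoc]

end K862.FSq
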