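import Groth.Agent.StMod.K862.Step3

/-!
# Third step, second part: shrinking to the locus of degree one
-/

set_option autoImplicit false
set_option linter.unusedVariables false
set_option linter.style.haveILetI false
set_option backward.isDefEq.respectTransparency false
set_option backward.isDefEq.respectTransparency.types false

universe v₂ w₂ v₁ w₁ u

open CategoryTheory CategoryTheory.Limits AlgebraicGeometry Opposite StMod AlgSt AlgSp Polynomial TensorProduct

namespace K862.Step3b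

open K862.Rep K862.FSq K862.Lev K862.Integ K862.Move K862.PushO K862.Over K862.FunC K862.FinIdem K862.Step1 K862.Step2
  K862.Step3 K908.Aff
  K907.Disj K907.FibTerm K906 K906.SpGeo K907.Sec K907.Tens K907.GM K907.Atl K907.Pt K907.Closed

variable {S : Scheme.{u}} {M' M : Sp S} {g : M' ⟶ M}
  {𝒳' : BasedCategory.{v₁, w₁} (Over S)} {𝒳 : BasedCategory.{v₂, w₂} (Over S)}
  {f : 𝒳' ⥤ᵇ 𝒳} {π' : 𝒳' ⥤ᵇ ofSp M'} {π : 𝒳 ⥤ᵇ ofSp M} (e : BasedFunctor.comp f π ≅ BasedFunctor.comp π' (ofSpMap g))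

/-- Isomorphisms of affine schemes from functions. -/
theorem isIso_of_appTop {X Y : Scheme.{u}} [IsAffine X] [IsAffine Y] (F : X ⟶ Y) (h : Function.Bijective F.appTop) :
    IsIso F := by
  let ε : Γ(Y, ⊤) ≃+* Γ(X, ⊤) := RingEquiv.ofBijective F.appTop.hom h
  obtain ⟨a, ha⟩ := exists_hom_aff (X := Y) (Y := X) (ε.symm.toRingHom)
  have ha' : ∀ r, a.appTop r = ε.symm r := fun r => congrArg (fun z => z r) ha
  refine ⟨a, hom_ext_aff fun r => ?_, hom_ext_aff fun r => ?_⟩
  · rw [appTop_comp, ha', Scheme.Hom.id_appTop]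
    exact ε.apply_symm_apply r
  · rw [appTop_comp, ha', Scheme.Hom.id_appTop]
    exact ε.symm_apply_apply r

/-- If the functor of fibre categories is an isomorphism then the base change map is. -/
theorem isIso_of_isRep (h𝒳' : FibCat.IsFibGrpd 𝒳'.p) (h𝒳 : FibCat.IsFibGrpd 𝒳.p) (hu' : UnitIsIso π') (hu : UnitIsIso π)
    (E' : EtOver M') (E : EtOver M) (hE' : IsAffine E'.obj.left.left) (hE : IsAffine E.obj.left.left)
    (m : (ofSpMap g).obj (etaOf E') ⟶ etaOf E) (hrep : IsRep (MorphismProperty.isomorphisms Scheme.{u}) (fibSq e m)) :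
    IsIso m.hom.left := by
  have h𝒴' : FibCat.IsFibGrpd (fibCat π' (etaOf E')).p := isFibGrpd_fibCat h𝒳'
  have h𝒴 : FibCat.IsFibGrpd (fibCat π (etaOf E)).p := isFibGrpd_fibCat h𝒳
  -- values on universal arrows
  have hval : ∀ (y : (fibCat π' (etaOf E')).obj) (ξ : (fibCat π (etaOf E)).obj) (α : (fibSq e m).obj y ⟶ ξ)
      (a : Γ(E.obj.left.left, ⊤)),
      (str (fibSq e m) α).appTop ((fn π E).σ ξ a) = (fn π' E').σ y (m.hom.left.appTop a) := by
    intro y ξ α a
    rw [← pullFn_fibSq e m y a]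
    exact (pullFn_σ (fn π E) α a).symm
  have hinj : Function.Injective m.hom.left.appTop := by
    intro a₁ a₂ haa
    apply (isFn π E hu).1
    refine K907.Free.globSect_ext_aff h𝒴 (OQ (fibCat π (etaOf E))) fun ξ hξ => ?_
    obtain ⟨y, α, hα, hiso⟩ := hrep ξ hξ
    haveI : IsIso (str (fibSq e m) α) := hiso
    have h1 : (str (fibSq e m) α).appTop ((fn π E).σ ξ a₁) = (str (fibSq e m) α).appTop ((fn π E).σ ξ a₂) := by
      rw [hval, hval, haa]
    have h2 : Function.Injective (str (fibSq e m) α).appTop := by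
      haveI : IsIso (str (fibSq e m) α).appTop := inferInstance
      exact (ConcreteCategory.bijective_of_isIso (str (fibSq e m) α).appTop).1
    exact h2 h1
  have hsurj : Function.Surjective m.hom.left.appTop := by
    intro b
    have ex : ∀ ξ : (K908.AMod.ASieve.all (fibCat π (etaOf E))).cat.obj, ∃ c : Γ(sch (fibCat π (etaOf E)) ξ.obj, ⊤),
        ∀ (y : (fibCat π' (etaOf E')).obj) (α : (fibSq e m).obj y ⟶ ξ.obj),
          (str (fibSq e m) α).appTop c = (fn π' E').σ y b := by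
      intro ξ
      obtain ⟨y, α, hα, hiso⟩ := hrep ξ.obj ξ.property
      haveI : IsIso (str (fibSq e m) α) := hiso
      obtain ⟨c, hc⟩ := (ConcreteCategory.bijective_of_isIso (str (fibSq e m) α).appTop).2 ((fn π' E').σ y b)
      refine ⟨c, fun y₁ α₁ => ?_⟩
      obtain ⟨χ, hχ, -⟩ := hα y₁ α₁
      have h1 : str (fibSq e m) α₁ = bmap (fibCat π' (etaOf E')) χ ≫ str (fibSq e m) α := by
        rw [← hχ, str_map]
      rw [h1]
      exact (appTop_comp _ _ _).trans ((congrArg _ hc).trans (congrArg (fun z => z b) ((fn π' E').comm χ)))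
    choose c hc using ex
    obtain ⟨t, ht⟩ := K908.QHom.exists_globSect (C := K908.AMod.ASieve.all (fibCat π (etaOf E))) K908.Fam.zloc_all
      (OQ (fibCat π (etaOf E))) c (by
        intro ζ' ζ φ
        obtain ⟨y, α, hα, hiso⟩ := hrep ζ'.obj ζ'.property
        haveI : IsIso (str (fibSq e m) α) := hiso
        apply (ConcreteCategory.bijective_of_isIso (str (fibSq e m) α).appTop).1
        change (str (fibSq e m) α).appTop ((bmap _ φ.hom).appTop (c ζ)) = _
        rw [hc ζ' y α, ← hc ζ y (α ≫ φ.hom)]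
        have h1 : str (fibSq e m) (α ≫ φ.hom) = str (fibSq e m) α ≫ bmap _ φ.hom := str_comp _ _ _
        rw [h1]
        exact (appTop_comp _ _ _).symm)
    obtain ⟨a, ha⟩ := (isFn π E hu).2 t
    refine ⟨a, ?_⟩
    apply (isFn π' E' hu').1
    refine K907.Free.globSect_ext_aff h𝒴' (OQ (fibCat π' (etaOf E'))) fun y hy => ?_
    change (fn π' E').σ y (m.hom.left.appTop a) = (fn π' E').σ y b
    have hz : IsAffine (sch (fibCat π (etaOf E)) ((fibSq e m).obj y)) := isAffine_pobj (p := fibSq e m) hy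
    let z : (K908.AMod.ASieve.all (fibCat π (etaOf E))).cat.obj := ⟨(fibSq e m).obj y, hz⟩
    have h1 : (fn π E).σ ((fibSq e m).obj y) a = c z := by
      have h2 := ht z
      have h3 : t.1 z.obj = (fn π E).σ ((fibSq e m).obj y) a := by
        rw [← ha]
        rfl
      exact h3.symm.trans h2
    have h4 := hval y _ (𝟙 ((fibSq e m).obj y)) a
    rw [h1] at h4
    have h5 := hc z y (𝟙 ((fibSq e m).obj y))
    exact h4.symm.trans h5
  exact @isIso_of_appTop E'.obj.left.left E.obj.left.left hE' hE m.hom.left ⟨hinj, hsurj⟩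

/-- Third step: a level where the functor of fibre categories is an isomorphism. -/
theorem step3 (h𝒳' : FibCat.IsFibGrpd 𝒳'.p) (h𝒳 : FibCat.IsFibGrpd 𝒳.p) (hu' : UnitIsIso π') (hu : UnitIsIso π)
    (E' : EtOver M') (E : EtOver M) (hE' : IsAffine E'.obj.left.left) (hE : IsAffine E.obj.left.left)
    (hex' : K907.Free.Exact (fibCat π' (etaOf E'))) (P' : Pres (fibCat π' (etaOf E')))
    (hex : K907.Free.Exact (fibCat π (etaOf E))) (P : Pres (fibCat π (etaOf E)))
    (m : (ofSpMap g).obj (etaOf E') ⟶ etaOf E) (hrep : IsRep (@IsFinite ⊓ @Etale) (fibSq e m))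
    (q : FPt 𝒳') [IsAlgClosed q.K] (a' : π'.obj q.obj ⟶ etaOf E') (hst : StPt.IsStabIsoAt f q.obj)
    (hcl : IsCl (isFibGrpd_fibCat h𝒳) {Points.map (fibSq e m) (Points.mk (ptq q a'))})
    (hsame : SameVal e m a') :
    ∃ (E₁' : EtOver M') (E₁ : EtOver M) (m₁ : (ofSpMap g).obj (etaOf E₁') ⟶ etaOf E₁) (_ : π'.obj q.obj ⟶ etaOf E₁'),
      IsAffine E₁'.obj.left.left ∧ IsAffine E₁.obj.left.left ∧ IsIso m₁.hom.left ∧
      IsRep (MorphismProperty.isomorphisms Scheme.{u}) (fibSq e m₁) := by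
  have h𝒴' : FibCat.IsFibGrpd (fibCat π' (etaOf E')).p := isFibGrpd_fibCat h𝒳'
  have h𝒴 : FibCat.IsFibGrpd (fibCat π (etaOf E)).p := isFibGrpd_fibCat h𝒳
  let y₀ : (fibCat π' (etaOf E')).obj := ⟨q.obj, a'⟩
  have hx₀ : IsAffine (sch 𝒳' q.obj) := K872.ClosedPt.isAffine_fpt q
  have hfx : IsAffine (sch 𝒳 (f.obj q.obj)) := isAffine_pobj hx₀
  obtain ⟨y, α, hα, hiso⟩ := isIso_base e h𝒳' h𝒳 hu' E' E hE' hE hex' P' P m hrep q a' hst hcl hsame
  obtain ⟨a, ha, hA⟩ := K864.RankOne.exists_rank_one h𝒴' h𝒴 P (fn π E) (isFn π E hu) hex (fibSq e m) hrep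
    (u := (fibSq e m).obj y₀) hfx α hα hiso
  -- the function `a` is invertible at the base point
  have hval : (str (fibSq e m) (𝟙 ((fibSq e m).obj y₀))).appTop ((fn π E).σ ((fibSq e m).obj y₀) a) =
      (fn π' E').σ y₀ (m.hom.left.appTop a) := by
    rw [← pullFn_fibSq e m y₀ a]
    exact (pullFn_σ (fn π E) (𝟙 ((fibSq e m).obj y₀)) a).symm
  have hunit : IsUnit ((str π' a' ≫ m.hom.left).appTop a) := by
    have h1 : IsUnit ((str (fibSq e m) (𝟙 ((fibSq e m).obj y₀))).appTop ((fn π E).σ ((fibSq e m).obj y₀) a)) :=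
      ha.map (str (fibSq e m) (𝟙 ((fibSq e m).obj y₀))).appTop.hom
    rw [hval] at h1
    exact (appTop_comp (str π' a') m.hom.left a) ▸ h1
  let A : CommRingCat := Γ(E.obj.left.left, ⊤)
  let aa : A := a
  let A₁ := Localization.Away aa
  let φ : A →+* A₁ := algebraMap A A₁
  have hφ : φ.Etale := by
    have h1 : Algebra.Etale A A₁ := Algebra.Etale.of_isLocalizationAway aa
    exact (RingHom.etale_algebraMap).2 h1
  let ι₁ : A₁ →+* Γ(sch 𝒳' q.obj, ⊤) := IsLocalization.Away.lift (S := A₁) aa (g := (str π' a' ≫ m.hom.left).appTop.hom) hunit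
  haveI := hE'
  haveI := hE
  obtain ⟨E₁', E₁, u', w, m₁, θ, a₁', hE₁', hE₁, hw, hθ, hcomm, hpb, ha₁, -⟩ := exists_moveA E' E m a' φ hφ ι₁ (by
    intro r
    exact IsLocalization.Away.lift_eq (S := A₁) aa hunit r)
  have hR : IsRep (MorphismProperty.isomorphisms Scheme.{u}) (fibSq e m₁) := by
    intro ξ hξ
    obtain ⟨y₁, β, hβ, -, -⟩ := hrep ((fibMap π w).obj ξ) hξ
    have hu₁ : IsUnit ((fn π E).σ ((fibMap π w).obj ξ) a) := by
      rw [fn_fibMap w ξ a]
      have h1 : IsUnit (φ a) := IsLocalization.Away.algebraMap_isUnit (S := A₁) aa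
      have h2 : IsUnit (w.hom.left.appTop a) := by
        rw [← hθ a]
        exact h1.map θ
      exact h2.map ((fn π E₁).σ ξ)
    have hiso₁ := hA ((fibMap π w).obj ξ) hξ hu₁ y₁ β hβ
    haveI : IsIso (str f β.hom) := hiso₁
    obtain ⟨y₂, i, α₁, hi, hα₁, hc⟩ := exists_isTerm_bcLev e hcomm hpb ξ y₁ β hβ
    haveI : IsIso (bmap 𝒳' i.hom) := hi
    refine ⟨y₂, α₁, hα₁, ?_⟩
    have h1 : str f α₁.hom = bmap 𝒳' i.hom ≫ str f β.hom := by
      rw [← hc]
      exact str_map f i.hom β.hom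
    have h2 : IsIso (str f α₁.hom) := by
      rw [h1]
      infer_instance
    exact h2
  exact ⟨E₁', E₁, m₁, a₁', hE₁', hE₁, isIso_of_isRep e h𝒳' h𝒳 hu' hu E₁' E₁ hE₁' hE₁ m₁ hR, hR⟩

end K862.Step3b
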