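import Groth.Agent.StMod.K862.LevCl
import Groth.Agent.StMod.K862.Step3b
import Groth.Agent.StMod.K908.LunaN4
import Groth.Agent.StMod.K907.GoodE
import Groth.Agent.AlgSt.K738.RepSep
import Groth.Agent.AlgSp.K605.LimImg

/-!
# The level where the functor of fibre categories is an isomorphism
-/

set_option autoImplicit false
set_option linter.unusedVariables false
set_option linter.style.haveILetI false
set_option backward.isDefEq.respectTransparency false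
set_option backward.isDefEq.respectTransparency.types false

universe v₂ w₂ v₁ w₁ u

open CategoryTheory CategoryTheory.Limits AlgebraicGeometry Opposite StMod AlgSt AlgSp

namespace K862.Asm

open K862.Rep K862.FSq K862.Lev K862.Integ K862.Move K862.PushO K862.Over K862.FunC K862.FinIdem K862.Step1 K862.Step2
  K862.Step3 K862.Step3b K862.LevCl K908.Aff
  K907.Disj K907.FibTerm K906 K906.SpGeo K907.Sec K907.Tens K907.GM K907.Atl K907.Pt K907.Closed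

variable {S : Scheme.{u}}

/-- Field-valued points over algebraically closed fields. -/
theorem exists_algClosed {𝒵 : BasedCategory.{v₁, w₁} (Over S)} (h : FibCat.IsFibGrpd 𝒵.p) (p : FPt 𝒵) :
    ∃ (q : FPt 𝒵) (_ : q.obj ⟶ p.obj), IsAlgClosed q.K ∧ AlgSt.Points.mk q = AlgSt.Points.mk p := by
  let Ω := AlgebraicClosure p.K
  let j : Spec (CommRingCat.of Ω) ⟶ Spec (CommRingCat.of p.K) := Spec.map (CommRingCat.ofHom (algebraMap p.K Ω))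
  let V : Over S := Over.mk (j ≫ p.str)
  let F : V ⟶ 𝒵.p.obj p.obj := (Over.homMk j rfl : V ⟶ Over.mk p.str) ≫ eqToHom p.lies.symm
  obtain ⟨y, φ, hφ⟩ := h.exists_lift (x := p.obj) F
  have e : 𝒵.p.obj y = V := IsHomLift.domain_eq 𝒵.p F φ
  let q : FPt 𝒵 := { K := Ω, str := j ≫ p.str, obj := y, lies := e }
  exact ⟨q, φ, inferInstanceAs (IsAlgClosed Ω), AlgSt.Points.sound ⟨q, 𝟙 _, φ, trivial⟩⟩

/-- Stabilizer preservation passes to objects over. -/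
theorem isStabIsoAt_of_hom {𝒵 : BasedCategory.{v₁, w₁} (Over S)} {𝒲 : BasedCategory.{v₂, w₂} (Over S)} {f : 𝒵 ⥤ᵇ 𝒲}
    {x y : 𝒵.obj} (φ : y ⟶ x) (h : StPt.IsStabIsoAt f x) : StPt.IsStabIsoAt f y := fun _ ψ => h (ψ ≫ φ)

/-- The diagonal of a stack with affine diagonal is quasi-compact. -/
theorem qc_of_affineDiag {𝒵 : BasedCategory.{v₁, w₁} (Over S)} (hd : StPt.HasAffineDiag 𝒵) :
    AlgSt.RepByAlgSpWith AlgSp.IsQuasiCompactMor (FibCat.diag (FibCat.toSelf 𝒵)) :=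
  K738.repByAlgSpWith_mono hd fun {F U} q hq =>
    K605.LimImg.isQuasiCompactMor_of_isAffineMor F.property (IsAlgSpace.yon_obj U) hq

/-- Points of a level over a closed point are closed. -/
theorem isCl_level [QuasiSeparatedSpace S] {𝒵 : BasedCategory.{v₁, w₁} (Over S)} (h𝒵 : FibCat.IsFibGrpd 𝒵.p)
    (A : SmAtlas 𝒵)
    (hd : AlgSt.RepByAlgSpWith AlgSp.IsQuasiCompactMor (FibCat.diag (FibCat.toSelf 𝒵))) {M : Sp S}
    (hM : IsQuasiSeparatedSp M) (π : 𝒵 ⥤ᵇ ofSp M) (E : EtOver M) (hE : IsAffine E.obj.left.left) {x : AlgSt.Points 𝒵}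
    (hx : IsCl h𝒵 {x}) (D : Set (AlgSt.Points (K906.fibCat π (etaOf E))))
    (hD : ∀ d ∈ D, AlgSt.Points.map (fibPt π (etaOf E)) d = x) : IsCl (isFibGrpd_fibCat h𝒵) D := by
  refine isCl_over' h𝒵 (isFibGrpd_fibCat h𝒵) (p := fibPt π (etaOf E)) A (fun j => exists_rel h𝒵 A hd j)
    ((isRep_fibPt h𝒵 hM π E hE).mono ?_) hx D hD
  rintro X Y F ⟨h1, h2, h3⟩
  exact qfSep_of_etale _ ⟨h1, h3, h2⟩

/-- The level where the functor of fibre categories is an isomorphism. -/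
theorem exists_level (S : Scheme.{u}) [QuasiSeparatedSpace S]
    (𝒳' 𝒳 : AlgSt.Cat S) (h𝒳' : AlgSt.IsAlgStack Scheme.fppfPrecoverage 𝒳') (h𝒳 : AlgSt.IsAlgStack Scheme.fppfPrecoverage 𝒳)
    (hq' : AlgSt.IsQuasiCompact 𝒳') (hq : AlgSt.IsQuasiCompact 𝒳)
    (hd' : StPt.HasAffineDiag 𝒳') (hd : StPt.HasAffineDiag 𝒳)
    (X' X : AlgSp.Space S) (hX' : AlgSp.IsQuasiSeparatedSp X'.obj) (hX : AlgSp.IsQuasiSeparatedSp X.obj)
    (π' : 𝒳' ⥤ᵇ AlgSt.ofSp X'.obj) (π : 𝒳 ⥤ᵇ AlgSt.ofSp X.obj)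
    (hπ'c : AlgSt.IsQuasiCompactMor Scheme.fppfPrecoverage π') (hπ's : AlgSt.IsQuasiSeparatedMor π') (hπ' : StMod.IsGoodModuli π')
    (hπc : AlgSt.IsQuasiCompactMor Scheme.fppfPrecoverage π) (hπs : AlgSt.IsQuasiSeparatedMor π) (hπ : StMod.IsGoodModuli π)
    (f : 𝒳' ⥤ᵇ 𝒳) (hf : AlgSt.RepByAlgSpWith AlgSp.IsSeparatedMor f) (g : X'.obj ⟶ X.obj)
    (e : BasedFunctor.comp f π ≅ BasedFunctor.comp π' (AlgSt.ofSpMap g))
    (q : AlgSt.FPt 𝒳') [IsAlgClosed q.K] (ha : StPt.IsEtaleAt Scheme.fppfPrecoverage f (AlgSt.Points.mk q))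
    (hb : StPt.IsStabIsoAt f q.obj)
    (hc : IsClosed ({AlgSt.Points.mk q} : Set (AlgSt.Points 𝒳')))
    (hc' : IsClosed ({AlgSt.Points.mk (q.map f)} : Set (AlgSt.Points 𝒳))) :
    ∃ (E' : EtOver X'.obj) (E : EtOver X.obj) (m : (ofSpMap g).obj (etaOf E') ⟶ etaOf E) (_ : π'.obj q.obj ⟶ etaOf E'),
      IsAffine E'.obj.left.left ∧ IsAffine E.obj.left.left ∧ IsIso m.hom.left ∧
      IsRep (MorphismProperty.isomorphisms Scheme.{u}) (fibSq e m) := by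
  have hF' := h𝒳'.isStack.1
  have hF := h𝒳.isStack.1
  have hL' := fun (E : EtOver X'.obj) (hE : IsAffine E.obj.left.left) => K907.GM.exact_and_pres h𝒳' hX' hπ'c hπ's hπ'.1 E hE
  have hL := fun (E : EtOver X.obj) (hE : IsAffine E.obj.left.left) => K907.GM.exact_and_pres h𝒳 hX hπc hπs hπ.1 E hE
  obtain ⟨A⟩ := K906.nonempty_smAtlas h𝒳.isStack.1 h𝒳.atlas
  have hx : IsCl hF {AlgSt.Points.mk (q.map f)} :=
    K907.Rows.isCl_of_isClosed hF (K735.Top.chartCont_of_isAlgStack h𝒳) hc'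
  have hcl : ∀ (E' : EtOver X'.obj) (E : EtOver X.obj) (hE : IsAffine E.obj.left.left)
      (m : (ofSpMap g).obj (etaOf E') ⟶ etaOf E) (a' : π'.obj q.obj ⟶ etaOf E'),
      IsCl (isFibGrpd_fibCat hF) {AlgSt.Points.map (fibSq e m) (AlgSt.Points.mk (ptq q a'))} := by
    intro E' E hE m a'
    refine isCl_level hF A (qc_of_affineDiag hd) hX π E hE hx _ ?_
    rintro d rfl
    rfl
  obtain ⟨E₀', E₀, m₀, a₀, hE₀', hE₀, hR₀⟩ := K908.LunaN4.exists_level0 S 𝒳' 𝒳 h𝒳' h𝒳 hq' hq hd' hd X' X hX' hX π' π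
    hπ'c hπ's hπ' hπc hπs hπ f hf g e q ha hc
  have hx₀ : IsAffine (sch 𝒳' q.obj) := K872.ClosedPt.isAffine_fpt q
  obtain ⟨hex₀, ⟨P₀⟩⟩ := hL E₀ hE₀
  obtain ⟨E₁', E₁, m₁, a₁, hE₁', hE₁, hR₁⟩ := step1 e hF' hF hπ'.2 hπ.2 E₀' E₀ hE₀' hE₀ hex₀ P₀ m₀ hR₀ (K := q.K)
    hx₀ (kapR q) a₀ (ptt q) (by
      have h1 := hcl E₀' E₀ hE₀ m₀ a₀
      rwa [mk_eq_pt_self (isFibGrpd_fibCat hF') (ptq q a₀) (ptt q)] at h1)
  obtain ⟨hex₁, ⟨P₁⟩⟩ := hL E₁ hE₁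
  obtain ⟨E₂', E₂, m₂, a₂, hE₂', hE₂, hR₂, hS⟩ := step2 e hF' hF hπ'.2 hπ.2 E₁' E₁ hE₁' hE₁ hex₁ P₁ m₁ hR₁ (K := q.K)
    hx₀ (kapR q) a₁
  obtain ⟨hex₂', ⟨P₂'⟩⟩ := hL' E₂' hE₂'
  obtain ⟨hex₂, ⟨P₂⟩⟩ := hL E₂ hE₂
  exact step3 e hF' hF hπ'.2 hπ.2 E₂' E₂ hE₂' hE₂ hex₂' P₂' hex₂ P₂ m₂ hR₂ q a₂ hb (hcl E₂' E₂ hE₂ m₂ a₂) hS

end K862.Asm
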