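import Groth.Agent.StMod.K862.Integ
import Groth.Agent.Desc.MorDescent

/-!
# The part of `V` cut out by an idempotent polynomial in `c` is finite over the base
-/

set_option autoImplicit false
set_option linter.unusedVariables false
set_option linter.style.haveILetI false
set_option backward.isDefEq.respectTransparency false
set_option backward.isDefEq.respectTransparency.types false

universe t v'' w'' v' w' v w u

open CategoryTheory CategoryTheory.Limits AlgebraicGeometry Opposite StMod AlgSt Polynomial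

namespace K862.FinIdem

open K862.Rep K862.PushO K862.Over K862.Split K862.FunC K862.Integ K908.Aff K907.Disj K907.FibTerm K906 K907.Pt K907.Closed K907.Atl
  K907.QDesc K907.Sec K907.Free K908.Push K563.NormFun K907.Alg K907.Tens

/-- An open immersion with closed image is a closed immersion. -/
theorem isClosedImmersion_of_open {X Y : Scheme.{u}} (f : X ⟶ Y) [IsOpenImmersion f] (h : IsClosed (Set.range f)) :
    IsClosedImmersion f := .of_isPreimmersion _ h

theorem isClosed_basicOpen {X : Scheme.{u}} {b : Γ(X, ⊤)} (hb : b ^ 2 - b = 0) : IsClosed (X.basicOpen b : Set X) := by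
  have h1 : (X.basicOpen b : Set X) = ((X.basicOpen (1 - b) : X.Opens) : Set X)ᶜ := by
    ext x
    have h2 := mem_basicOpen_iff x b
    have h3 := mem_basicOpen_iff x (1 - b)
    change x ∈ X.basicOpen b ↔ ¬ (x ∈ X.basicOpen (1 - b))
    rw [h2, h3, not_not]
    have hmul : b * (1 - b) = 0 := by linear_combination -hb
    have hor : b ∈ (X.toSpecΓ x).asIdeal ∨ 1 - b ∈ (X.toSpecΓ x).asIdeal :=
      (X.toSpecΓ x).isPrime.mem_or_mem (by rw [hmul]; exact Ideal.zero_mem _)
    have hnot : ¬ (b ∈ (X.toSpecΓ x).asIdeal ∧ 1 - b ∈ (X.toSpecΓ x).asIdeal) := by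
      rintro ⟨h4, h5⟩
      refine (X.toSpecΓ x).isPrime.ne_top ((Ideal.eq_top_iff_one _).2 ?_)
      have := Ideal.add_mem _ h4 h5
      rwa [add_sub_cancel] at this
    tauto
  rw [h1]
  exact (X.basicOpen (1 - b)).isOpen.isClosed_compl

/-- The part of `V` cut out by an idempotent of a scheme integral over the base. -/
theorem isFinite_of_idem {V U W V₁ : Scheme.{u}} (j : V ⟶ W) (w : W ⟶ U) [IsOpenImmersion j] [IsIntegralHom w]
    [LocallyOfFiniteType (j ≫ w)] (b : Γ(W, ⊤)) (hb : b ^ 2 - b = 0) (hbr : (W.basicOpen b : Set W) ⊆ Set.range j)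
    (k : V₁ ⟶ V) [IsOpenImmersion k] (hk : Set.range k = (V.basicOpen (j.appTop b) : Set V)) : IsFinite (k ≫ j ≫ w) := by
  have h1 : Set.range (k ≫ j) = (W.basicOpen b : Set W) := by
    rw [Scheme.Hom.comp_base, TopCat.coe_comp, Set.range_comp, hk]
    have h2 : (V.basicOpen (j.appTop b) : Set V) = j ⁻¹' (W.basicOpen b : Set W) := by
      have h3 : j ⁻¹ᵁ (W.basicOpen b) = V.basicOpen (j.appTop b) := by
        rw [Scheme.preimage_basicOpen]
        rfl
      rw [← h3]
      rfl
    rw [h2, Set.image_preimage_eq_inter_range]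
    exact Set.inter_eq_left.2 hbr
  haveI : IsClosedImmersion (k ≫ j) := isClosedImmersion_of_open _ (by
    rw [h1]
    exact isClosed_basicOpen hb)
  rw [IsFinite.iff_isIntegralHom_and_locallyOfFiniteType]
  constructor
  · rw [← Category.assoc]
    infer_instance
  · infer_instance

/-- Functions on the normalization are determined on `V`. -/
theorem toNorm_injective {V U : Scheme.{u}} (f : V ⟶ U) [QuasiCompact f] [QuasiSeparated f] [IsAffine U] :
    Function.Injective f.toNormalization.appTop := by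
  haveI : IsAffine f.normalization := isAffine_of_isAffineHom f.fromNormalization
  have h := congrArg (fun I => I.ideal ⟨⊤, isAffineOpen_top _⟩) f.ker_toNormalization
  simp only [Scheme.Hom.ker_apply, Scheme.IdealSheafData.ideal_bot, Pi.bot_apply] at h
  exact (RingHom.injective_iff_ker_eq_bot _).2 h

variable {S : Scheme.{u}} {𝒳 : BasedCategory.{v, w} (Over S)} {𝒴 : BasedCategory.{v', w'} (Over S)}
variable (h𝒳 : FibCat.IsFibGrpd 𝒳.p) (h𝒴 : FibCat.IsFibGrpd 𝒴.p) {p : 𝒴 ⥤ᵇ 𝒳}

/-- The value of an idempotent polynomial. -/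
theorem eval_sq_sub {R T : Type u} [CommRing R] [CommRing T] (q e : R[X]) (h : q ∣ e ^ 2 - e) (τ : R →+* T) (c : T)
    (hc : q.eval₂ τ c = 0) : (e.eval₂ τ c) ^ 2 - e.eval₂ τ c = 0 := by
  obtain ⟨r, hr⟩ := h
  have := congrArg (fun z => z.eval₂ τ c) hr
  simp only [eval₂_sub, eval₂_pow, eval₂_mul, hc, zero_mul] at this
  exact this

theorem eval_X_mul {R T : Type u} [CommRing R] [CommRing T] (q e d : R[X]) (h : q ∣ e - X * d) (τ : R →+* T) (c : T)
    (hc : q.eval₂ τ c = 0) : e.eval₂ τ c = c * d.eval₂ τ c := by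
  obtain ⟨r, hr⟩ := h
  have := congrArg (fun z => z.eval₂ τ c) hr
  simp only [eval₂_sub, eval₂_mul, eval₂_X, hc, zero_mul] at this
  exact sub_eq_zero.1 this

include h𝒳 h𝒴 in
/-- Finiteness of the part of `V_θ` where `e(c)` is invertible, for `θ` over the atlas. -/
theorem isFinite_part (ch : Ch p) {ζ : 𝒳.obj} (hζ : IsAffine (sch 𝒳 ζ)) (c : (OQ 𝒴).obj.GlobSect)
    (hc : vO c (ch.y ζ hζ) ∈ N (str p (ch.α ζ hζ)) (cpl ch ζ hζ))
    {A₀ : Type u} [CommRing A₀] (s : Fn A₀ 𝒳) (q : A₀[X]) (hq : ∀ θ : 𝒴.obj, q.eval₂ ((pullFn p s).σ θ) (vO c θ) = 0)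
    {A₁ : Type u} [CommRing A₁] (ι : A₀ →+* A₁) (e d : A₁[X]) (he : q.map ι ∣ e ^ 2 - e) (hd : q.map ι ∣ e - X * d)
    {θ : 𝒳.obj} (b : θ ⟶ ζ) (hθ : IsAffine (sch 𝒳 θ)) (τ : A₁ →+* Γ(sch 𝒳 θ, ⊤)) (hτ : τ.comp ι = s.σ θ)
    {y : 𝒴.obj} {α : p.obj y ⟶ θ} (hα : IsTerm p α) {V₁ : Scheme.{u}} (k : V₁ ⟶ sch 𝒴 y) [IsOpenImmersion k]
    (hk : Set.range k = ((sch 𝒴 y).basicOpen (e.eval₂ ((str p α).appTop.hom.comp τ) (vO c y)) : Set (sch 𝒴 y))) :
    IsFinite (k ≫ str p α) := by
  haveI := (ch.qf ζ hζ).1.1.1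
  haveI := (ch.qf ζ hζ).1.1.2
  haveI := hζ
  haveI := hθ
  obtain ⟨ψ, hψ⟩ := exists_hom b (α' := α) (ch.term ζ hζ)
  have sq := isPullback_of_isTerm h𝒳 h𝒴 hα (ch.term ζ hζ) hψ
  rw [mem_N_iff] at hc
  obtain ⟨g, hg1, hg2⟩ := hc
  let F := str p (ch.α ζ hζ)
  let W' := pullback F.fromNormalization (bmap 𝒳 b)
  let j : sch 𝒴 y ⟶ W' := pullback.lift (bmap 𝒴 ψ ≫ F.toNormalization) (str p α) (by
    rw [Category.assoc, Scheme.Hom.toNormalization_fromNormalization, sq.w])
  have hj1 : j ≫ pullback.fst _ _ = bmap 𝒴 ψ ≫ F.toNormalization := pullback.lift_fst _ _ _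
  have hj2 : j ≫ pullback.snd _ _ = str p α := pullback.lift_snd _ _ _
  have sq2 : IsPullback (bmap 𝒴 ψ) j F.toNormalization (pullback.fst F.fromNormalization (bmap 𝒳 b)) := by
    refine IsPullback.of_bot ?_ hj1.symm (IsPullback.of_hasPullback F.fromNormalization (bmap 𝒳 b))
    rw [hj2, Scheme.Hom.toNormalization_fromNormalization]
    exact sq
  haveI : IsOpenImmersion j := MorphismProperty.of_isPullback (P := @IsOpenImmersion) sq2 inferInstance
  haveI : LocallyOfFiniteType (str p α) := MorphismProperty.of_isPullback (P := @LocallyOfFiniteType) sq inferInstance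
  haveI : IsIntegralHom (pullback.snd F.fromNormalization (bmap 𝒳 b)) := inferInstance
  haveI : LocallyOfFiniteType (j ≫ pullback.snd F.fromNormalization (bmap 𝒳 b)) := by rw [hj2]; infer_instance
  -- the function on `W'`
  let g' : Γ(W', ⊤) := (pullback.fst F.fromNormalization (bmap 𝒳 b)).appTop g
  have hg' : j.appTop g' = vO c y := by
    change j.appTop ((pullback.fst F.fromNormalization (bmap 𝒳 b)).appTop g) = _
    rw [← appTop_comp, hj1, appTop_comp, hg1, vO_map]
  let τ' : A₁ →+* Γ(W', ⊤) := (pullback.snd F.fromNormalization (bmap 𝒳 b)).appTop.hom.comp τ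
  have hq0 : q.eval₂ (F.fromNormalization.appTop.hom.comp (s.σ ζ)) g = 0 := by
    apply toNorm_injective F
    rw [map_zero, ← hq (ch.y ζ hζ), ← hg1]
    refine (hom_eval₂ q _ F.toNormalization.appTop.hom g).trans ?_
    congr 1
    ext a
    rw [pullFn_σ s (ch.α ζ hζ)]
    change F.toNormalization.appTop (F.fromNormalization.appTop (s.σ ζ a)) = _
    rw [← appTop_comp, Scheme.Hom.toNormalization_fromNormalization]
  have hq1 : (q.map ι).eval₂ τ' g' = 0 := by
    rw [eval₂_map]
    have h1 := congrArg (pullback.fst F.fromNormalization (bmap 𝒳 b)).appTop.hom hq0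
    rw [hom_eval₂, map_zero] at h1
    rw [← h1]
    congr 1
    ext a
    change (pullback.snd F.fromNormalization (bmap 𝒳 b)).appTop (τ (ι a)) =
      (pullback.fst F.fromNormalization (bmap 𝒳 b)).appTop (F.fromNormalization.appTop (s.σ ζ a))
    rw [← appTop_comp, pullback.condition, appTop_comp]
    congr 1
    have h2 : τ (ι a) = s.σ θ a := congrArg (fun z => z a) hτ
    rw [h2, ← s.comm b]
    rfl
  have key := isFinite_of_idem j (pullback.snd F.fromNormalization (bmap 𝒳 b)) (e.eval₂ τ' g')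
    (eval_sq_sub _ _ he τ' g' hq1) ?_ k ?_
  · rwa [hj2] at key
  · intro z hz
    have h1 : z ∈ W'.basicOpen g' := by
      rw [eval_X_mul _ _ _ hd τ' g' hq1] at hz
      change z ∈ W'.basicOpen (g' * d.eval₂ τ' g') at hz
      rw [Scheme.basicOpen_mul] at hz
      exact hz.1
    have h2 : (pullback.fst F.fromNormalization (bmap 𝒳 b)) z ∈ Set.range F.toNormalization := by
      by_contra hcon
      have h3 := hg2 _ hcon
      rw [mem_basicOpen_iff] at h1
      exact h1 ((toSpecΓ_apply _ z g).1 h3)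
    rw [← Set.image_univ, ← Set.mem_preimage, K563.NormCl.preimage_image sq2] at h2
    obtain ⟨v, -, hv⟩ := h2
    exact ⟨v, hv⟩
  · rw [hk]
    have h1 : j.appTop (e.eval₂ τ' g') = e.eval₂ ((str p α).appTop.hom.comp τ) (vO c y) := by
      refine (hom_eval₂ e _ j.appTop.hom g').trans ?_
      rw [show j.appTop.hom g' = vO c y from hg']
      congr 1
      ext a
      change j.appTop ((pullback.snd F.fromNormalization (bmap 𝒳 b)).appTop (τ a)) = (str p α).appTop (τ a)
      rw [← appTop_comp, hj2]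
    rw [h1]

end K862.FinIdem
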