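import Groth.Agent.StMod.K862.Move
import Groth.Agent.StMod.K862.FinIdem
import Groth.Agent.StMod.K469.EtPoly
import Groth.Agent.Desc.LQF

/-!
# First step: after an étale localization the functor of fibre categories is finite étale
-/

set_option autoImplicit false
set_option linter.unusedVariables false
set_option linter.style.haveILetI false
set_option backward.isDefEq.respectTransparency false
set_option backward.isDefEq.respectTransparency.types false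

universe v₂ w₂ v₁ w₁ u

open CategoryTheory CategoryTheory.Limits AlgebraicGeometry Opposite StMod AlgSt AlgSp Polynomial

namespace K862.Step1

open K862.Rep K862.FSq K862.Lev K862.Integ K862.Move K862.PushO K862.Over K862.FunC K862.FinIdem K908.Aff K907.Disj K907.FibTerm
  K906 K906.SpGeo K907.Sec K907.Tens K907.GM K907.Atl K907.Pt K907.Closed

variable {S : Scheme.{u}} {M' M : Sp S} {g : M' ⟶ M}
  {𝒳' : BasedCategory.{v₁, w₁} (Over S)} {𝒳 : BasedCategory.{v₂, w₂} (Over S)}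
  {f : 𝒳' ⥤ᵇ 𝒳} {π' : 𝒳' ⥤ᵇ ofSp M'} {π : 𝒳 ⥤ᵇ ofSp M} (e : BasedFunctor.comp f π ≅ BasedFunctor.comp π' (ofSpMap g))

theorem str_ofSpMap {η' : (ofSp M').obj} {η : (ofSp M).obj} (m : (ofSpMap g).obj η' ⟶ η) : str (ofSpMap g) m = m.hom.left := by
  exact Category.id_comp m.hom.left

theorem pullFn_fibSq {E' : EtOver M'} {E : EtOver M} (m : (ofSpMap g).obj (etaOf E') ⟶ etaOf E)
    (y : (fibCat π' (etaOf E')).obj) (a : Γ(E.obj.left.left, ⊤)) :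
    (pullFn (fibSq e m) (fn π E)).σ y a = (fn π' E').σ y (m.hom.left.appTop a) := by
  rw [pullFn_σ (p := fibSq e m) (fn π E) (𝟙 _)]
  have h := str_comm e m (a := y) (𝟙 _)
  rw [str_ofSpMap] at h
  change (str f (FObj.Hom.hom (𝟙 ((fibSq e m).obj y)))).appTop ((str π (FObj.arr ((fibSq e m).obj y))).appTop a) =
    (str π' (FObj.arr y)).appTop (m.hom.left.appTop a)
  rw [← appTop_comp, h, appTop_comp]
  rfl

theorem fn_fibMap {E E₁ : EtOver M} (w : etaOf E₁ ⟶ etaOf E) (y : (fibCat π (etaOf E₁)).obj)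
    (a : Γ(E.obj.left.left, ⊤)) : (fn π E).σ ((fibMap π w).obj y) a = (fn π E₁).σ y (w.hom.left.appTop a) := by
  change (str π (FObj.arr y ≫ w)).appTop a = (str π (FObj.arr y)).appTop (w.hom.left.appTop a)
  rw [str_arr, appTop_comp]
  rfl

/-- Universal arrows after a base change and an open localization of a level. -/
theorem exists_part (h𝒳' : FibCat.IsFibGrpd 𝒳'.p) {η'' η₁' η' : (ofSp M').obj} {η₁ η : (ofSp M).obj} {u : η'' ⟶ η₁'}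
    (hu : IsOpenImmersion u.hom.left) {u' : η₁' ⟶ η'} {m₁ : (ofSpMap g).obj η₁' ⟶ η₁} {m : (ofSpMap g).obj η' ⟶ η}
    {w : η₁ ⟶ η} (hcomm : (ofSpMap g).map u' ≫ m = m₁ ≫ w)
    (hpb : IsPullback u'.hom.left m₁.hom.left m.hom.left w.hom.left)
    (ξ : (fibCat π η₁).obj) (y : (fibCat π' η').obj) (α : (fibSq e m).obj y ⟶ (fibMap π w).obj ξ)
    (hα : IsTerm (fibSq e m) α) :
    ∃ (t : sch 𝒳' (FObj.pt y) ⟶ η₁'.base.left) (y₂ : (fibCat π' η'').obj)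
      (α₂ : (fibSq e ((ofSpMap g).map u ≫ m₁)).obj y₂ ⟶ ξ) (k : sch 𝒳' (FObj.pt y₂) ⟶ sch 𝒳' (FObj.pt y)),
      t ≫ u'.hom.left = str π' (FObj.arr y) ∧ t ≫ m₁.hom.left = str f α.hom ≫ str π (FObj.arr ξ) ∧
      IsTerm (fibSq e ((ofSpMap g).map u ≫ m₁)) α₂ ∧ IsOpenImmersion k ∧ Set.range k = t ⁻¹' Set.range u.hom.left ∧
      k ≫ str f α.hom = str f α₂.hom ∧ k ≫ t = str π' (FObj.arr y₂) ≫ u.hom.left := by
  obtain ⟨y₁, i₀, α₁, hi₀, hα₁, hiα₀⟩ := exists_isTerm_bcLev e hcomm hpb ξ y α hα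
  obtain ⟨y₂, k₀, α₂, hk₀, hkr₀, hα₂, hkα₀⟩ := exists_isTerm_openLev e h𝒳' u m₁ ξ y₁ α₁ hα₁
  obtain ⟨i, hi, hic, hiα⟩ : ∃ i : FObj.pt y₁ ⟶ FObj.pt y, IsIso (bmap 𝒳' i) ∧
      bmap 𝒳' i ≫ str π' (FObj.arr y) = str π' (FObj.arr y₁) ≫ u'.hom.left ∧ f.map i ≫ α.hom = α₁.hom := by
    refine ⟨i₀.hom, hi₀, ?_, hiα₀⟩
    have h := i₀.comm
    change π'.map i₀.hom ≫ FObj.arr y = FObj.arr y₁ ≫ u' at h
    have h' : bmap 𝒳' i₀.hom ≫ str π' (FObj.arr y) = str π' (π'.map i₀.hom ≫ FObj.arr y) := (str_map π' i₀.hom _).symm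
    exact h'.trans ((congrArg (str π') h).trans (str_arr _ _))
  obtain ⟨k, hk, hkc, hkα, hkr⟩ : ∃ k : FObj.pt y₂ ⟶ FObj.pt y₁, IsOpenImmersion (bmap 𝒳' k) ∧
      bmap 𝒳' k ≫ str π' (FObj.arr y₁) = str π' (FObj.arr y₂) ≫ u.hom.left ∧ f.map k ≫ α₁.hom = α₂.hom ∧
      Set.range (bmap 𝒳' k) = (str π' (FObj.arr y₁)) ⁻¹' Set.range u.hom.left := by
    refine ⟨k₀.hom, hk₀, ?_, hkα₀, hkr₀⟩
    have h := k₀.comm
    change π'.map k₀.hom ≫ FObj.arr y₁ = FObj.arr y₂ ≫ u at h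
    have h' : bmap 𝒳' k₀.hom ≫ str π' (FObj.arr y₁) = str π' (π'.map k₀.hom ≫ FObj.arr y₁) := (str_map π' k₀.hom _).symm
    exact h'.trans ((congrArg (str π') h).trans (str_arr _ _))
  have h1 := str_comm e m₁ α₁
  rw [str_ofSpMap] at h1
  have h2 : bmap 𝒳' i ≫ str f α.hom = str f α₁.hom := by
    have h' : bmap 𝒳' i ≫ str f α.hom = str f (f.map i ≫ α.hom) := (str_map f i _).symm
    exact h'.trans (congrArg (str f) hiα)
  have h2' : bmap 𝒳' k ≫ str f α₁.hom = str f α₂.hom := by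
    have h' : bmap 𝒳' k ≫ str f α₁.hom = str f (f.map k ≫ α₁.hom) := (str_map f k _).symm
    exact h'.trans (congrArg (str f) hkα)
  refine ⟨inv (bmap 𝒳' i) ≫ str π' (FObj.arr y₁), y₂, α₂, bmap 𝒳' k ≫ bmap 𝒳' i, ?_, ?_, hα₂, inferInstance, ?_, ?_, ?_⟩
  · rw [Category.assoc, ← hic, IsIso.inv_hom_id_assoc]
  · rw [Category.assoc, ← h1, ← h2, Category.assoc, IsIso.inv_hom_id_assoc]
    rfl
  · ext z
    constructor
    · rintro ⟨v, rfl⟩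
      change (inv (bmap 𝒳' i) ≫ str π' (FObj.arr y₁)) ((bmap 𝒳' k ≫ bmap 𝒳' i) v) ∈ Set.range u.hom.left
      rw [← Scheme.Hom.comp_apply, Category.assoc, IsIso.hom_inv_id_assoc, Scheme.Hom.comp_apply]
      have h4 : bmap 𝒳' k v ∈ Set.range (bmap 𝒳' k) := ⟨v, rfl⟩
      rw [hkr] at h4
      exact h4
    · intro hz
      change (inv (bmap 𝒳' i) ≫ str π' (FObj.arr y₁)) z ∈ Set.range u.hom.left at hz
      rw [Scheme.Hom.comp_apply, ← Set.mem_preimage, ← hkr] at hz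
      obtain ⟨v, hv⟩ := hz
      refine ⟨v, ?_⟩
      rw [Scheme.Hom.comp_apply, hv, ← Scheme.Hom.comp_apply, IsIso.inv_hom_id]
      rfl
  · rw [Category.assoc, h2, h2']
  · rw [Category.assoc, IsIso.hom_inv_id_assoc, hkc]

/-- The value of a function at a point over the closed point: `1 - c` vanishes on `D`. -/
theorem one_sub_mem {𝒳 : BasedCategory.{v₂, w₂} (Over S)} {𝒴 : BasedCategory.{v₁, w₁} (Over S)} {p : 𝒴 ⥤ᵇ 𝒳}
    (h𝒳 : FibCat.IsFibGrpd 𝒳.p) (h𝒴 : FibCat.IsFibGrpd 𝒴.p) (P : Pres 𝒳) {y : 𝒴.obj} {α : p.obj y ⟶ P.ζ} (hα : IsTerm p α)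
    (D : Set (Points 𝒴)) (c : (OQ 𝒴).obj.GlobSect)
    (hc : ∀ v : ↥(sch 𝒴 y), pt h𝒴 y v ∈ D → vO c y ∈ ((sch 𝒴 y).toSpecΓ v).asIdeal)
    (y₀ : 𝒴.obj) (hy₀ : IsAffine (sch 𝒴 y₀)) (t : ↥(sch 𝒴 y₀)) (ht : pt h𝒴 y₀ t ∈ D) :
    vO c y₀ ∈ ((sch 𝒴 y₀).toSpecΓ t).asIdeal := by
  obtain ⟨z, φ, d, hz, hφ1, hφ2⟩ := P.cov (p.obj y₀) (isAffine_pobj hy₀)
  obtain ⟨y₁, ψ, i, hi, -, -, -, h6⟩ := exists_lift_cov h𝒳 h𝒴 φ
  obtain ⟨χ, -⟩ := exists_hom (𝟙 P.ζ) (α' := i ≫ d) hα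
  have h8 : Surjective (bmap 𝒴 ψ) := h6 @Surjective inferInstance hφ2
  obtain ⟨t₁, rfl⟩ := (bmap 𝒴 ψ).surjective t
  have h1 := hc (bmap 𝒴 χ t₁) (by
    rw [pt_map]
    rwa [pt_map] at ht)
  rw [K563.NormFun.toSpecΓ_apply, vO_map] at h1
  rwa [K563.NormFun.toSpecΓ_apply, vO_map]

/-- Integrality of a function in `N`. -/
theorem isIntegralElem_of_mem_N {V U : Scheme.{u}} (F : V ⟶ U) [QuasiCompact F] [QuasiSeparated F] [IsAffine U]
    {Z : Set F.normalization} {h : Γ(V, ⊤)} (hh : h ∈ K563.NormFun.N F Z) : F.appTop.hom.IsIntegralElem h := by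
  rw [mem_N_iff] at hh
  obtain ⟨c, rfl, -⟩ := hh
  have h1 : F.fromNormalization.appTop.hom.IsIntegralElem c :=
    IsIntegralHom.isIntegral_app (f := F.fromNormalization) ⊤ (isAffineOpen_top _) c
  obtain ⟨q, hq, hq0⟩ := h1
  refine ⟨q, hq, ?_⟩
  have h2 := congrArg F.toNormalization.appTop.hom hq0
  rw [hom_eval₂, map_zero] at h2
  refine Eq.trans ?_ h2
  congr 1
  ext a
  change F.appTop a = F.toNormalization.appTop (F.fromNormalization.appTop a)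
  rw [← appTop_comp, Scheme.Hom.toNormalization_fromNormalization]

theorem qfSep_of_etale : (@Etale ⊓ (@IsSeparated ⊓ @QuasiCompact) : MorphismProperty Scheme.{u}) ≤ QfSep := by
  rintro X Y F ⟨h1, h2, h3⟩
  haveI := h1
  exact ⟨⟨Groth.Agent.Desc.LQF.of_etale F, inferInstance⟩, h3, h2⟩

/-- First step. -/
theorem step1 (h𝒳' : FibCat.IsFibGrpd 𝒳'.p) (h𝒳 : FibCat.IsFibGrpd 𝒳.p) (hu' : UnitIsIso π') (hu : UnitIsIso π)
    (E' : EtOver M') (E : EtOver M) (hE' : IsAffine E'.obj.left.left) (hE : IsAffine E.obj.left.left)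
    (hex : K907.Free.Exact (fibCat π (etaOf E))) (P : Pres (fibCat π (etaOf E)))
    (m : (ofSpMap g).obj (etaOf E') ⟶ etaOf E) (hrep : IsRep (@Etale ⊓ (@IsSeparated ⊓ @QuasiCompact)) (fibSq e m))
    {K : Type u} [Field K] [IsAlgClosed K] {x₀ : 𝒳'.obj} (hx₀ : IsAffine (sch 𝒳' x₀)) (kap : Γ(sch 𝒳' x₀, ⊤) ≃+* K)
    (a' : π'.obj x₀ ⟶ etaOf E') (t₀ : ↥(sch 𝒳' x₀))
    (hcl : IsCl (isFibGrpd_fibCat h𝒳) {Points.map (fibSq e m) (pt (isFibGrpd_fibCat h𝒳') (⟨x₀, a'⟩ : FObj π' (etaOf E')) t₀)}) :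
    ∃ (E₁' : EtOver M') (E₁ : EtOver M) (m₁ : (ofSpMap g).obj (etaOf E₁') ⟶ etaOf E₁) (_ : π'.obj x₀ ⟶ etaOf E₁'),
      IsAffine E₁'.obj.left.left ∧ IsAffine E₁.obj.left.left ∧ IsRep (@IsFinite ⊓ @Etale) (fibSq e m₁) := by
  have h𝒴' : FibCat.IsFibGrpd (fibCat π' (etaOf E')).p := isFibGrpd_fibCat h𝒳'
  have h𝒴 : FibCat.IsFibGrpd (fibCat π (etaOf E)).p := isFibGrpd_fibCat h𝒳
  let y₀ : (fibCat π' (etaOf E')).obj := ⟨x₀, a'⟩
  have hp : IsRep QfSep (fibSq e m) := hrep.mono qfSep_of_etale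
  obtain ⟨ch⟩ := nonempty_ch hp
  obtain ⟨c, hc1, hc2⟩ := exists_fun h𝒴 h𝒴' ch {pt h𝒴' y₀ t₀} hp P hex hcl (by
    rintro d rfl
    rfl)
  haveI := P.affζ
  obtain ⟨q, hq, hq0⟩ := exists_monic h𝒴 h𝒴' (hp.mono qfSep_le) P hex (fn π E) (isFn π E hu) c (ch.term P.ζ P.affζ)
    (isIntegralElem_of_mem_N _ hc1)
  obtain ⟨c₀, hc₀⟩ := (isFn π' E' hu').2 c
  have hc₀' : ∀ y : (fibCat π' (etaOf E')).obj, (fn π' E').σ y c₀ = vO c y := fun y => by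
    rw [← hc₀]
    rfl
  let A := Γ(E.obj.left.left, ⊤)
  let ι : A →+* K := kap.toRingHom.comp ((pullFn (fibSq e m) (fn π E)).σ y₀)
  let γ : K := kap (vO c y₀)
  have hγ0 : γ ≠ 0 := by
    intro h0
    have h1 : vO c y₀ = 0 := by
      apply kap.injective
      rw [map_zero]
      exact h0
    have h2 := one_sub_mem h𝒴 h𝒴' P (ch.term P.ζ P.affζ) {pt h𝒴' y₀ t₀} (oneSec _ - c) (by
      intro v hv
      rw [mem_N_iff] at hc2
      obtain ⟨g₂, hg₂, hg₂'⟩ := hc2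
      have h3 := hg₂' _ ⟨v, hv, rfl⟩
      rw [K563.NormFun.toSpecΓ_apply, hg₂] at h3
      exact h3) y₀ hx₀ t₀ rfl
    rw [vO_sub, h1, sub_zero] at h2
    exact (((sch (fibCat π' (etaOf E')) y₀).toSpecΓ t₀).isPrime.ne_top ((Ideal.eq_top_iff_one _).2 h2))
  have hγ : q.eval₂ ι γ = 0 := by
    have h1 := congrArg kap.toRingHom (hq0 y₀)
    rw [hom_eval₂, map_zero] at h1
    exact h1
  obtain ⟨A₁, _, _, hA₁, ι₁, hι₁, e₁, he1, he2, -, he3⟩ := K469.EtPoly.exists_etale_poly ι q hq γ hγ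
  obtain ⟨d₁, hd₁⟩ := he3 hγ0
  let ι₁' : A₁ →+* Γ(sch 𝒳' x₀, ⊤) := kap.symm.toRingHom.comp ι₁
  have hφ : (algebraMap A A₁).Etale := RingHom.etale_algebraMap.2 hA₁
  obtain ⟨E₁', E₁, u', w, m₁, θ, a₁', hE₁', hE₁, hw, hθ, hcomm, hpb, ha₁', hval⟩ :=
    exists_moveA E' E m a' (algebraMap A A₁) hφ ι₁' (by
      intro a
      change kap.symm (ι₁ (algebraMap A A₁ a)) = _
      rw [RingEquiv.symm_apply_eq]
      have h1 : ι₁ (algebraMap A A₁ a) = ι a := congrArg (fun z => z a) hι₁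
      rw [h1]
      change kap ((pullFn (fibSq e m) (fn π E)).σ y₀ a) = _
      rw [pullFn_fibSq, appTop_comp]
      rfl)
  let b : Γ(E₁'.obj.left.left, ⊤) := e₁.eval₂ (m₁.hom.left.appTop.hom.comp θ.toRingHom) (u'.hom.left.appTop c₀)
  have hb : IsUnit ((str π' a₁').appTop b) := by
    have h1 : (str π' a₁').appTop b = e₁.eval₂ ι₁' (vO c y₀) := by
      refine (hom_eval₂ e₁ _ (str π' a₁').appTop.hom _).trans ?_
      congr 1
      · ext r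
        have h2 := hval r
        rw [appTop_comp] at h2
        exact h2
      · change (str π' a₁').appTop (u'.hom.left.appTop c₀) = _
        rw [← hc₀' y₀]
        change _ = (str π' a').appTop c₀
        rw [← ha₁', str_arr, appTop_comp]
        rfl
    have h2 : kap ((str π' a₁').appTop b) = 1 := by
      rw [h1]
      have h3 := hom_eval₂ e₁ ι₁' kap.toRingHom (vO c y₀)
      refine h3.trans ?_
      rw [← he2]
      congr 1
      ext r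
      exact kap.apply_symm_apply _
    have h3 : IsUnit (kap ((str π' a₁').appTop b)) := by
      rw [h2]
      exact isUnit_one
    exact (MulEquiv.isUnit_map kap).1 h3
  haveI := hE₁'
  obtain ⟨E₂', u, a₂', hE₂', hu₂, hur, ha₂'⟩ := exists_moveB E₁' a₁' b hb
  refine ⟨E₂', E₁, (ofSpMap g).map u ≫ m₁, a₂', hE₂', hE₁, ?_⟩
  -- the part of a universal arrow
  have part : ∀ (ξ : (fibCat π (etaOf E₁)).obj), IsAffine (sch 𝒳 (FObj.pt ξ)) →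
      ∃ (y : (fibCat π' (etaOf E')).obj) (α : (fibSq e m).obj y ⟶ (fibMap π w).obj ξ) (y₂ : (fibCat π' (etaOf E₂')).obj)
        (α₂ : (fibSq e ((ofSpMap g).map u ≫ m₁)).obj y₂ ⟶ ξ) (k : sch 𝒳' (FObj.pt y₂) ⟶ sch 𝒳' (FObj.pt y)),
        IsTerm (fibSq e m) α ∧ Etale (str f α.hom) ∧ IsTerm (fibSq e ((ofSpMap g).map u ≫ m₁)) α₂ ∧ IsOpenImmersion k ∧
        k ≫ str f α.hom = str f α₂.hom ∧
        Set.range k = ((sch 𝒳' (FObj.pt y)).basicOpen (e₁.eval₂ ((str f α.hom).appTop.hom.comp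
          ((str π (FObj.arr ξ)).appTop.hom.comp θ.toRingHom)) (vO c y)) : Set (sch 𝒳' (FObj.pt y))) := by
    intro ξ hξ
    obtain ⟨y, α, hα, hαe⟩ := hrep ((fibMap π w).obj ξ) hξ
    obtain ⟨t, y₂, α₂, k, ht1, ht2, hα₂, hk, hkr, hkα, hkt⟩ := exists_part e h𝒳' hu₂ hcomm hpb ξ y α hα
    refine ⟨y, α, y₂, α₂, k, hα, hαe.1, hα₂, hk, hkα, ?_⟩
    rw [hkr]
    have h1 : t ⁻¹' Set.range u.hom.left = (t ⁻¹ᵁ (E₁'.obj.left.left.basicOpen b) : Set (sch 𝒳' (FObj.pt y))) := by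
      rw [hur]
      rfl
    have h1' : t ⁻¹ᵁ (E₁'.obj.left.left.basicOpen b) = (sch 𝒳' (FObj.pt y)).basicOpen (t.appTop b) :=
      Scheme.preimage_basicOpen_top t b
    refine h1.trans ((congrArg (fun O : (sch 𝒳' (FObj.pt y)).Opens => (O : Set (sch 𝒳' (FObj.pt y)))) h1').trans ?_)
    refine congrArg (fun z => ((sch 𝒳' (FObj.pt y)).basicOpen z : Set (sch 𝒳' (FObj.pt y)))) ?_
    refine (hom_eval₂ e₁ _ t.appTop.hom _).trans ?_
    congr 1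
    · ext r
      exact (appTop_comp t m₁.hom.left (θ r)).symm.trans ((congrArg (fun z => z.appTop (θ r)) ht2).trans
        (appTop_comp (str f α.hom) (str π (FObj.arr ξ)) (θ r)))
    · exact ((appTop_comp t u'.hom.left c₀).symm.trans (congrArg (fun z => z.appTop c₀) ht1)).trans (hc₀' y)
  have fin : ∀ (ξ : (fibCat π (etaOf E₁)).obj) (hξ : IsAffine (sch 𝒳 (FObj.pt ξ))) (b₀ : (fibMap π w).obj ξ ⟶ P.ζ),
      ∃ (y₂ : (fibCat π' (etaOf E₂')).obj) (α₂ : (fibSq e ((ofSpMap g).map u ≫ m₁)).obj y₂ ⟶ ξ),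
        IsTerm (fibSq e ((ofSpMap g).map u ≫ m₁)) α₂ ∧ IsFinite (str f α₂.hom) := by
    intro ξ hξ b₀
    obtain ⟨y, α, y₂, α₂, k, h1, h2, h3, h4, h5, h6⟩ := part ξ hξ
    refine ⟨y₂, α₂, h3, ?_⟩
    rw [← h5]
    exact isFinite_part h𝒴 h𝒴' ch P.affζ c hc1 (fn π E) q hq0 (algebraMap A A₁) e₁ d₁ he1 hd₁ (θ := (fibMap π w).obj ξ) b₀ hξ
      ((str π (FObj.arr ξ)).appTop.hom.comp θ.toRingHom) (by
        ext a
        change (str π (FObj.arr ξ)).appTop (θ (algebraMap A A₁ a)) = (fn π E).σ ((fibMap π w).obj ξ) a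
        rw [fn_fibMap, hθ]
        rfl) h1 k h6
  intro ξ hξ
  obtain ⟨y, α, y₂, α₂, k, h1, h2, h3, h4, h5, h6⟩ := part ξ hξ
  refine ⟨y₂, α₂, h3, ?_, ?_⟩
  · -- descend finiteness
    obtain ⟨z, φ, d, hz, hφ1, hφ2⟩ := P.cov ((fibMap π w).obj ξ) hξ
    let ξ' : (fibCat π (etaOf E₁)).obj := ⟨FObj.pt z, π.map φ.hom ≫ FObj.arr ξ⟩
    let ψ : ξ' ⟶ ξ := FObj.mkHom φ.hom rfl
    let b₀ : (fibMap π w).obj ξ' ⟶ P.ζ := FObj.mkHom d.hom (by
      change π.map d.hom ≫ FObj.arr P.ζ = (π.map φ.hom ≫ FObj.arr ξ) ≫ w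
      rw [d.comm, ← φ.comm, Category.assoc]
      rfl)
    obtain ⟨y₃, α₃, h7, h8⟩ := fin ξ' hz b₀
    obtain ⟨χ, hχ⟩ := exists_hom ψ (α' := α₃) h3
    have sq := isPullback_of_isTerm (isFibGrpd_fibCat h𝒳) (isFibGrpd_fibCat h𝒳') h7 h3 hχ
    haveI := Groth.Agent.Desc.MorDescent.descendsAlong_isFinite.{u}
    have hφ1' : Smooth (bmap 𝒳 φ.hom) := hφ1
    have hφ2' : Surjective (bmap 𝒳 φ.hom) := hφ2
    haveI : IsAffine (sch 𝒳 (FObj.pt z)) := hz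
    haveI : IsAffine (sch 𝒳 (FObj.pt ξ)) := hξ
    haveI hqc : QuasiCompact (bmap 𝒳 φ.hom) :=
      (inferInstance : QuasiCompact (show sch 𝒳 (FObj.pt z) ⟶ sch 𝒳 (FObj.pt ξ) from bmap 𝒳 φ.hom))
    have hq : (@Surjective ⊓ @Flat ⊓ @QuasiCompact : MorphismProperty Scheme.{u}) (bmap (fibCat π (etaOf E₁)) ψ) :=
      ⟨⟨hφ2', (inferInstance : Flat (bmap 𝒳 φ.hom))⟩, hqc⟩
    exact MorphismProperty.of_isPullback_of_descendsAlong (P := @IsFinite)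
      (Q := (@Surjective ⊓ @Flat ⊓ @QuasiCompact : MorphismProperty Scheme.{u})) sq.flip hq h8
  · change Etale (str f α₂.hom)
    haveI := h2
    haveI := h4
    rw [← h5]
    infer_instance

end K862.Step1
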