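import Groth.Agent.StMod.K862.LevCl
import Groth.Agent.StMod.K862.FSq
import Groth.Agent.StMod.K862.Step1
import Groth.Agent.StMod.K908.LunaQc

/-!
# The locus where a representable morphism is finite

* `Good p ξ s` : `p` is finite on a smooth affine neighbourhood of `s` in `ξ`;
* `isCl_bad` : the complement is a closed set of points;
* `isRep_finite_of_good` : if all points are good then `p` is finite;
* `isTerm_lift`, `isRep_fibSq` : universal arrows of `fibSq` over a cartesian level.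
-/

set_option autoImplicit false
set_option linter.unusedVariables false
set_option linter.style.haveILetI false
set_option backward.isDefEq.respectTransparency false
set_option backward.isDefEq.respectTransparency.types false

universe v₄ w₄ v₃ w₃ v₂ w₂ v₁ w₁ u

open CategoryTheory CategoryTheory.Limits AlgebraicGeometry Opposite StMod AlgSt AlgSp

namespace K862.FinLoc

open K862.Rep K862.PushO K862.Over K862.LevCl K862.FSq K908.Aff K907.Disj K907.FibTerm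
  K906 K906.Grpd K906.SpGeo K907.Sec K907.Tens K907.Atl K907.Pt K907.Closed K907.Free

section Sch

theorem exists_pt_of_isPullback {P X Y Z : Scheme.{u}} {a : P ⟶ X} {b : P ⟶ Y} {f : X ⟶ Z} {g : Y ⟶ Z}
    (h : IsPullback a b f g) (x : X) (y : Y) (hxy : f x = g y) : ∃ z : P, a z = x ∧ b z = y := by
  obtain ⟨w, hw1, hw2⟩ := Scheme.Pullback.exists_preimage_pullback (f := f) (g := g) x y hxy
  refine ⟨h.isoPullback.inv w, ?_, ?_⟩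
  · rw [← hw1, ← Scheme.Hom.comp_apply, h.isoPullback_inv_fst]
  · rw [← hw2, ← Scheme.Hom.comp_apply, h.isoPullback_inv_snd]

/-- Finiteness descends along smooth covers. -/
theorem isFinite_of_cover {V U : Scheme.{u}} (F : V ⟶ U) [IsAffine U]
    (h : ∀ x : U, ∃ (U₁ V₁ : Scheme.{u}) (g : U₁ ⟶ U) (a : V₁ ⟶ V) (F₁ : V₁ ⟶ U₁), IsAffine U₁ ∧ Smooth g ∧
      x ∈ Set.range g ∧ IsPullback a F₁ F g ∧ IsFinite F₁) : IsFinite F := by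
  choose U₁ V₁ g a F₁ hU₁ hg hx hp hF using h
  have hop : ∀ x, IsOpen (Set.range (g x)) := fun x => by
    haveI := hg x
    exact (g x).isOpenMap.isOpen_range
  let O : U → U.Opens := fun x => ⟨Set.range (g x), hop x⟩
  have hO : iSup O = ⊤ := by
    ext x
    simp only [TopologicalSpace.Opens.coe_iSup, Set.mem_iUnion, TopologicalSpace.Opens.coe_top, Set.mem_univ, iff_true]
    exact ⟨x, hx x⟩
  refine IsZariskiLocalAtTarget.of_iSup_eq_top (P := @IsFinite) O hO fun x => ?_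
  haveI := hg x
  haveI := hU₁ x
  let g' : U₁ x ⟶ (O x) := IsOpenImmersion.lift (O x).ι (g x) (by
    rw [Scheme.Opens.range_ι]
    exact subset_rfl)
  have hg' : g' ≫ (O x).ι = g x := IsOpenImmersion.lift_fac _ _ _
  have hs : Smooth g' := by
    have h1 : Smooth (g' ≫ (O x).ι) := by rw [hg']; exact hg x
    exact MorphismProperty.of_postcomp (W := @Smooth) (W' := @IsOpenImmersion) g' (O x).ι inferInstance h1
  have hsur : Surjective g' := by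
    constructor
    rintro ⟨y, hy⟩
    obtain ⟨z, hz⟩ := hy
    refine ⟨z, ?_⟩
    apply (O x).ι.isOpenEmbedding.injective
    rw [← Scheme.Hom.comp_apply, hg', hz]
    rfl
  have hqc : QuasiCompact g' := by
    have h1 : QuasiCompact (g' ≫ (O x).ι) := by rw [hg']; infer_instance
    exact MorphismProperty.of_postcomp (W := @QuasiCompact) (W' := @QuasiSeparated) g' (O x).ι inferInstance h1
  have t := isPullback_morphismRestrict F (O x)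
  let a' : V₁ x ⟶ (F ⁻¹ᵁ (O x)) := t.flip.lift (a x) (F₁ x ≫ g') (by rw [Category.assoc, hg', (hp x).w])
  have ht1 : a' ≫ (F ⁻¹ᵁ (O x)).ι = a x := t.flip.lift_fst _ _ _
  have ht2 : a' ≫ (F ∣_ (O x)) = F₁ x ≫ g' := t.flip.lift_snd _ _ _
  have sq : IsPullback a' (F₁ x) (F ∣_ (O x)) g' :=
    IsPullback.of_right (h₁₂ := (F ⁻¹ᵁ (O x)).ι) (v₁₃ := F) (h₂₂ := (O x).ι) (by rw [ht1, hg']; exact hp x) ht2 t.flip
  haveI := Groth.Agent.Desc.MorDescent.descendsAlong_isFinite.{u}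
  exact MorphismProperty.of_isPullback_of_descendsAlong (P := @IsFinite)
    (Q := (@Surjective ⊓ @Flat ⊓ @QuasiCompact : MorphismProperty Scheme.{u})) sq.flip
    ⟨⟨hsur, inferInstance⟩, hqc⟩ (hF x)

end Sch

variable {S : Scheme.{u}} {𝒳 : BasedCategory.{v₂, w₂} (Over S)} {𝒴 : BasedCategory.{v₁, w₁} (Over S)}

/-- `p` is finite on a smooth affine neighbourhood of `s`. -/
def Good (p : 𝒴 ⥤ᵇ 𝒳) (ξ : 𝒳.obj) (s : ↥(sch 𝒳 ξ)) : Prop :=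
  ∃ (ξ₁ : 𝒳.obj) (φ : ξ₁ ⟶ ξ), IsAffine (sch 𝒳 ξ₁) ∧ Smooth (bmap 𝒳 φ) ∧ s ∈ Set.range (bmap 𝒳 φ) ∧
    ∀ (y : 𝒴.obj) (α : p.obj y ⟶ ξ₁), IsTerm p α → IsFinite (str p α)

variable (h𝒳 : FibCat.IsFibGrpd 𝒳.p) (h𝒴 : FibCat.IsFibGrpd 𝒴.p) {p : 𝒴 ⥤ᵇ 𝒳}

theorem Good.of_smooth {ξ' ξ : 𝒳.obj} (φ : ξ' ⟶ ξ) (hφ : Smooth (bmap 𝒳 φ)) {s : ↥(sch 𝒳 ξ')} (h : Good p ξ' s) :
    Good p ξ (bmap 𝒳 φ s) := by
  obtain ⟨ξ₁, ψ, h1, h2, ⟨s₁, rfl⟩, h3⟩ := h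
  refine ⟨ξ₁, ψ ≫ φ, h1, ?_, ⟨s₁, ?_⟩, h3⟩
  · rw [bmap_comp]
    infer_instance
  · rw [bmap_comp]
    rfl

include h𝒳 h𝒴 in
theorem Good.of_hom (hp : IsRep QfSep p) {ξ' ξ : 𝒳.obj} (hξ' : IsAffine (sch 𝒳 ξ')) (hξ : IsAffine (sch 𝒳 ξ)) (φ : ξ' ⟶ ξ)
    {s : ↥(sch 𝒳 ξ')} (h : Good p ξ (bmap 𝒳 φ s)) : Good p ξ' s := by
  obtain ⟨ξ₁, ψ, h1, h2, ⟨s₁, hs₁⟩, h3⟩ := h
  obtain ⟨w, k, l, H, hw, -⟩ := K908.LunaQc.exists_isPullback_aff h𝒳 ψ φ h1 hξ' hξ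
  have H' := Grpd.isPullback_bmap h𝒳 H
  obtain ⟨z, hz1, hz2⟩ := exists_pt_of_isPullback H' s₁ s hs₁
  refine ⟨w, l, hw, MorphismProperty.of_isPullback H' h2, ⟨z, hz2⟩, fun y α hα => ?_⟩
  obtain ⟨y₁, α₁, hα₁, -⟩ := hp ξ₁ h1
  obtain ⟨χ, hχ⟩ := exists_hom k (α' := α) hα₁
  have sq := isPullback_of_isTerm h𝒳 h𝒴 hα hα₁ hχ
  exact MorphismProperty.of_isPullback sq (h3 y₁ α₁ hα₁)

theorem isOpen_good (ξ : 𝒳.obj) : IsOpen {s : ↥(sch 𝒳 ξ) | Good p ξ s} := by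
  rw [isOpen_iff_forall_mem_open]
  rintro s ⟨ξ₁, φ, h1, h2, h3, h4⟩
  haveI := h2
  exact ⟨Set.range (bmap 𝒳 φ), fun s' hs' => ⟨ξ₁, φ, h1, h2, hs', h4⟩, (bmap 𝒳 φ).isOpenMap.isOpen_range, h3⟩

/-- The points near which `p` is not finite. -/
def bad (p : 𝒴 ⥤ᵇ 𝒳) : Set (AlgSt.Points 𝒳) :=
  {x | ∃ (ξ : 𝒳.obj) (_ : IsAffine (sch 𝒳 ξ)) (s : ↥(sch 𝒳 ξ)), pt h𝒳 ξ s = x ∧ ¬ Good p ξ s}

include h𝒴 in
theorem isCl_bad (A : SmAtlas 𝒳) (hp : IsRep QfSep p) : IsCl h𝒳 (bad h𝒳 p) := by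
  refine isCl_of_atlas h𝒳 (smCov_of_smAtlas A) fun i => ?_
  have h1 : prei h𝒳 (bad h𝒳 p) (A.Z i) = {s : ↥(sch 𝒳 (A.Z i)) | Good p (A.Z i) s}ᶜ := by
    ext t
    constructor
    · rintro ⟨ξ, hξ, s, hs, hbad⟩ hgood
      have hrel : FPt.Rel (fpt h𝒳 ξ s) (fpt h𝒳 (A.Z i) t) := (K735.Pts.mk_eq_mk_iff h𝒳).1 hs
      obtain ⟨r, a, b, -⟩ := hrel
      obtain ⟨z', θ, f, p₀, q₀, e₀, hz', hθ, hf1, hf2, hsp, he1, he2⟩ := A.span r.obj ξ i (a ≫ fptArr h𝒳 ξ s)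
        (b ≫ fptArr h𝒳 (A.Z i) t) (K872.ClosedPt.isAffine_fpt r)
      obtain ⟨t', ht'⟩ := (bmap 𝒳 f).surjective (ptt r)
      have k1 : bmap 𝒳 p₀ (bmap 𝒳 e₀ t') = s := by
        have k2 : bmap 𝒳 (e₀ ≫ p₀) t' = bmap 𝒳 (f ≫ a ≫ fptArr h𝒳 ξ s) t' := by rw [he1]
        rw [bmap_comp, bmap_comp, bmap_comp] at k2
        refine k2.trans ?_
        change bmap 𝒳 (fptArr h𝒳 ξ s) (bmap 𝒳 a (bmap 𝒳 f t')) = s
        rw [eq_ptt _ (bmap 𝒳 a (bmap 𝒳 f t')), bmap_fptArr_ptt]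
      have k3 : bmap 𝒳 q₀ (bmap 𝒳 e₀ t') = t := by
        have k2 : bmap 𝒳 (e₀ ≫ q₀) t' = bmap 𝒳 (f ≫ b ≫ fptArr h𝒳 (A.Z i) t) t' := by rw [he2]
        rw [bmap_comp, bmap_comp, bmap_comp] at k2
        refine k2.trans ?_
        change bmap 𝒳 (fptArr h𝒳 (A.Z i) t) (bmap 𝒳 b (bmap 𝒳 f t')) = t
        rw [eq_ptt _ (bmap 𝒳 b (bmap 𝒳 f t')), bmap_fptArr_ptt]
      have hgood' : Good p (A.Z i) t := hgood
      rw [← k3] at hgood'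
      have h2 := Good.of_hom h𝒳 h𝒴 hp hθ (A.affine i) q₀ hgood'
      have h3 := Good.of_smooth p₀ (A.smooth _ _ i p₀ q₀ hsp) h2
      rw [k1] at h3
      exact hbad h3
    · intro h
      exact ⟨A.Z i, A.affine i, t, rfl, h⟩
  rw [h1]
  exact (isOpen_good (A.Z i)).isClosed_compl

include h𝒳 h𝒴 in
/-- If all points are good then `p` is finite. -/
theorem isRep_finite_of_good (hp : IsRep QfSep p)
    (hg : ∀ (ξ : 𝒳.obj), IsAffine (sch 𝒳 ξ) → ∀ s : ↥(sch 𝒳 ξ), Good p ξ s) : IsRep @IsFinite p := by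
  intro ξ hξ
  obtain ⟨y, α, hα, -⟩ := hp ξ hξ
  haveI := hξ
  refine ⟨y, α, hα, isFinite_of_cover (str p α) fun s => ?_⟩
  obtain ⟨ξ₁, φ, h1, h2, h3, h4⟩ := hg ξ hξ s
  obtain ⟨y₁, ψ, α₁, hα₁, hc, sq⟩ := exists_isTerm_bc h𝒳 h𝒴 φ hα
  exact ⟨sch 𝒳 ξ₁, sch 𝒴 y₁, bmap 𝒳 φ, bmap 𝒴 ψ, str p α₁, h1, h2, h3, sq, h4 y₁ α₁ hα₁⟩

end K862.FinLoc
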