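import Groth.Agent.StMod.K862.Over
import Groth.Agent.StMod.K563.NormFun

/-!
# A function on `𝒴` vanishing outside `𝒴` in the normalization and equal to one over a closed point

For `p : 𝒴 ⟶ 𝒳` representable by quasi-finite separated schemes, `𝒳` with exact global sections, `x` a closed point of `𝒳` and
`D` a set of points of `𝒴` over `x` there is a global function `c` on `𝒴` which on the base change `V` of `𝒴` to the atlas comes
from a function on the normalization `W` vanishing on `W \ V`, and such that `1 - c` comes from a function on `W` vanishing on `D`.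
-/

set_option autoImplicit false
set_option linter.unusedVariables false
set_option linter.style.haveILetI false
set_option backward.isDefEq.respectTransparency false
set_option backward.isDefEq.respectTransparency.types false

universe t v'' w'' v' w' v w u

open CategoryTheory CategoryTheory.Limits AlgebraicGeometry Opposite StMod AlgSt

namespace K862.FunC

open K862.Rep K862.PushO K862.Over K862.Split K908.Aff K907.Disj K907.FibTerm K906 K907.Pt K907.Closed K907.Atl K907.QDesc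
  K907.Sec K907.Free K908.Push K563.NormFun Groth.Agent.CohqA.BaseChangeMod K907.Alg

section N

variable {V U : Scheme.{u}} (f : V ⟶ U) [QuasiCompact f] [QuasiSeparated f] (Z : Set f.normalization)

theorem mem_N_iff {h : Γ(V, ⊤)} : h ∈ N f Z ↔ ∃ g : Γ(f.normalization, ⊤), f.toNormalization.appTop g = h ∧
    ∀ z ∈ Z, g ∈ (f.normalization.toSpecΓ z).asIdeal := by
  constructor
  · rintro ⟨g, h1, h2⟩
    refine ⟨g, h1, fun z hz => ?_⟩
    by_contra hcon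
    exact h2 z hz ((mem_basicOpen_iff z g).2 hcon)
  · rintro ⟨g, h1, h2⟩
    exact ⟨g, h1, fun z hz hcon => (mem_basicOpen_iff z g).1 hcon (h2 z hz)⟩

theorem N_zero : (0 : Γ(V, ⊤)) ∈ N f Z := (mem_N_iff f Z).2 ⟨0, map_zero _, fun z _ => Ideal.zero_mem _⟩

theorem N_add {a b : Γ(V, ⊤)} (ha : a ∈ N f Z) (hb : b ∈ N f Z) : a + b ∈ N f Z := by
  rw [mem_N_iff] at ha hb ⊢
  obtain ⟨g, rfl, hg⟩ := ha
  obtain ⟨g', rfl, hg'⟩ := hb
  exact ⟨g + g', map_add _ _ _, fun z hz => Ideal.add_mem _ (hg z hz) (hg' z hz)⟩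

theorem N_mul {a : Γ(V, ⊤)} (r : Γ(f.normalization, ⊤)) (ha : a ∈ N f Z) : f.toNormalization.appTop r * a ∈ N f Z := by
  rw [mem_N_iff] at ha ⊢
  obtain ⟨g, rfl, hg⟩ := ha
  exact ⟨r * g, map_mul _ _ _, fun z hz => Ideal.mul_mem_left _ _ (hg z hz)⟩

theorem N_smul {a : Γ(V, ⊤)} (r : Γ(U, ⊤)) (ha : a ∈ N f Z) : f.appTop r * a ∈ N f Z := by
  have h : f.appTop r = f.toNormalization.appTop (f.fromNormalization.appTop r) := by
    have h1 : f.appTop = f.fromNormalization.appTop ≫ f.toNormalization.appTop := by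
      rw [← Scheme.Hom.comp_appTop]
      congr 1
      simp
    rw [h1]
    rfl
  rw [h]
  exact N_mul f Z _ ha

end N

variable {S : Scheme.{u}} {𝒳 : BasedCategory.{v, w} (Over S)} {𝒴 : BasedCategory.{v', w'} (Over S)}
variable (h𝒳 : FibCat.IsFibGrpd 𝒳.p) (h𝒴 : FibCat.IsFibGrpd 𝒴.p) {p : 𝒴 ⥤ᵇ 𝒳}

instance qc_inst {V U : Scheme.{u}} {f : V ⟶ U} [h : Fact (QfSep f)] : QuasiCompact f := h.1.2.1
instance sep_inst {V U : Scheme.{u}} {f : V ⟶ U} [h : Fact (QfSep f)] : IsSeparated f := h.1.2.2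

/-- A choice of universal arrows. -/
structure Ch (p : 𝒴 ⥤ᵇ 𝒳) where
  y : ∀ θ : 𝒳.obj, IsAffine (sch 𝒳 θ) → 𝒴.obj
  α : ∀ (θ : 𝒳.obj) (h : IsAffine (sch 𝒳 θ)), p.obj (y θ h) ⟶ θ
  term : ∀ (θ : 𝒳.obj) (h : IsAffine (sch 𝒳 θ)), IsTerm p (α θ h)
  qf : ∀ (θ : 𝒳.obj) (h : IsAffine (sch 𝒳 θ)), Fact (QfSep (str p (α θ h)))

theorem nonempty_ch (hp : IsRep QfSep p) : Nonempty (Ch p) := by
  choose y α h1 h2 using hp
  exact ⟨⟨y, α, h1, fun θ h => ⟨h2 θ h⟩⟩⟩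

attribute [instance] Ch.qf

variable {F : QCoh 𝒴} {A : QCoh 𝒳}

section Fam

variable (ch : Ch p) (E : K907.L1.PushEv p (OQ 𝒴).obj A.obj)

/-- The value of a section of the pushforward on the universal arrow. -/
noncomputable def vl (θ : 𝒳.obj) (h : IsAffine (sch 𝒳 θ)) : Γ(A.obj.obj θ, ⊤) →+ Γ(sch 𝒴 (ch.y θ h), ⊤) :=
  (evT (OQ 𝒴).obj (ch.α θ h)).comp (E.ev θ h).toAddMonoidHom

theorem vl_smul (θ : 𝒳.obj) (h : IsAffine (sch 𝒳 θ)) (r : Γ(sch 𝒳 θ, ⊤)) (a : Γ(A.obj.obj θ, ⊤)) :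
    vl ch E θ h (r • a) = (str p (ch.α θ h)).appTop r * vl ch E θ h a := by
  change evT _ _ (E.ev θ h (r • a)) = _
  rw [map_smul, evT_smul]
  rfl

theorem vl_map {θ' θ : 𝒳.obj} (h' : IsAffine (sch 𝒳 θ')) (h : IsAffine (sch 𝒳 θ)) (φ : θ' ⟶ θ)
    (ψ : ch.y θ' h' ⟶ ch.y θ h) (hψ : p.map ψ ≫ ch.α θ h = ch.α θ' h' ≫ φ) (a : Γ(A.obj.obj θ, ⊤)) :
    vl ch E θ' h' (A.obj.mapTop φ a) = (bmap 𝒴 ψ).appTop (vl ch E θ h a) := by
  change evT _ _ (E.ev θ' h' (A.obj.mapTop φ a)) = _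
  rw [E.comm φ h' h, evT_apply, relRes_val, val_eq (OQ 𝒴).obj _ ψ hψ]
  rfl

/-- The submodule of sections whose value lies in `N`. -/
noncomputable def sub (θ : 𝒳.obj) (h : IsAffine (sch 𝒳 θ)) (Z : Set (str p (ch.α θ h)).normalization) :
    Submodule Γ(sch 𝒳 θ, ⊤) Γ(A.obj.obj θ, ⊤) where
  carrier := {a | vl ch E θ h a ∈ N (str p (ch.α θ h)) Z}
  zero_mem' := by
    change vl ch E θ h 0 ∈ N (str p (ch.α θ h)) Z
    rw [map_zero]
    exact N_zero _ _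
  add_mem' {a b} ha hb := by
    change vl ch E θ h (a + b) ∈ N (str p (ch.α θ h)) Z
    rw [map_add]
    exact N_add _ _ ha hb
  smul_mem' r a ha := by
    change vl ch E θ h (r • a) ∈ N (str p (ch.α θ h)) Z
    rw [vl_smul]
    exact N_smul _ _ r ha

theorem mem_sub {θ : 𝒳.obj} {h : IsAffine (sch 𝒳 θ)} {Z : Set (str p (ch.α θ h)).normalization} {a : Γ(A.obj.obj θ, ⊤)} :
    a ∈ sub ch E θ h Z ↔ vl ch E θ h a ∈ N (str p (ch.α θ h)) Z := Iff.rfl

/-- Compatibility of closed subsets of the normalizations. -/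
def ZComp {θ' θ : 𝒳.obj} (h' : IsAffine (sch 𝒳 θ')) (h : IsAffine (sch 𝒳 θ)) (q : θ' ⟶ θ)
    (Z' : Set (str p (ch.α θ' h')).normalization) (Z : Set (str p (ch.α θ h)).normalization) : Prop :=
  ∀ (ψ : ch.y θ' h' ⟶ ch.y θ h) (_ : p.map ψ ≫ ch.α θ h = ch.α θ' h' ≫ q)
    (c : (str p (ch.α θ' h')).normalization ⟶ (str p (ch.α θ h)).normalization)
    (_ : IsPullback c (str p (ch.α θ' h')).fromNormalization (str p (ch.α θ h)).fromNormalization (bmap 𝒳 q))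
    (_ : (str p (ch.α θ' h')).toNormalization ≫ c = bmap 𝒴 ψ ≫ (str p (ch.α θ h)).toNormalization), c ⁻¹' Z = Z'

include h𝒳 h𝒴 in
theorem pull_sub {θ' θ : 𝒳.obj} (h' : IsAffine (sch 𝒳 θ')) (h : IsAffine (sch 𝒳 θ)) (q : θ' ⟶ θ) (hq : Smooth (bmap 𝒳 q))
    (hb : Function.Bijective (E.ev θ h)) (hb' : Function.Bijective (E.ev θ' h'))
    {Z' : Set (str p (ch.α θ' h')).normalization} {Z : Set (str p (ch.α θ h)).normalization} (hZ : IsClosed Z)
    (hc : ZComp ch h' h q Z' Z) : pull q (sub ch E θ h Z) = sub ch E θ' h' Z' := by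
  obtain ⟨ψ, hψ⟩ := exists_hom q (α' := ch.α θ' h') (ch.term θ h)
  have sq := isPullback_of_isTerm h𝒳 h𝒴 (ch.term θ' h') (ch.term θ h) hψ
  obtain ⟨c, hc1, hc2⟩ := K563.NormCl.exists_isPullback (str p (ch.α θ h)) (bmap 𝒳 q) (str p (ch.α θ' h')) (bmap 𝒴 ψ) sq
  have hcc := hc ψ hψ c hc1 hc2
  subst hcc
  have key := span_N (str p (ch.α θ h)) (str p (ch.α θ' h')) (bmap 𝒴 ψ) (bmap 𝒳 q) sq c hc2 hc1.w Z hZ
  have inj : Function.Injective (vl ch E θ' h') := by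
    have h1 := (bijective_evT (OQ 𝒴).obj (ch.term θ' h')).1.comp hb'.1
    exact h1
  have surj : Function.Surjective (vl ch E θ h) := by
    have h1 := (bijective_evT (OQ 𝒴).obj (ch.term θ h)).2.comp hb.2
    exact h1
  apply le_antisymm
  · rw [ext_le]
    intro a ha
    rw [resTop_apply, mem_sub, vl_map ch E h' h q ψ hψ, key]
    refine ⟨1, fun _ => 1, fun _ => vl ch E θ h a, fun _ => ha, ?_⟩
    simp
  · intro a ha
    rw [mem_sub, key] at ha
    obtain ⟨n, r, y, hy, hsum⟩ := ha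
    choose b hb using fun i => surj (y i)
    have e : a = ∑ i, r i • A.obj.mapTop q (b i) := by
      apply inj
      rw [hsum, map_sum]
      refine Finset.sum_congr rfl fun i _ => ?_
      rw [vl_smul, vl_map ch E h' h q ψ hψ, hb]
    rw [e]
    refine Submodule.sum_mem _ fun i _ => Submodule.smul_mem _ _ (mem_pull q ?_)
    rw [mem_sub, hb]
    exact hy i

end Fam

theorem pb_toNorm {V U V' U' : Scheme.{u}} (f : V ⟶ U) [QuasiCompact f] [QuasiSeparated f] (f' : V' ⟶ U')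
    [QuasiCompact f'] [QuasiSeparated f'] {a : V' ⟶ V} {b : U' ⟶ U} (h : IsPullback a f' f b)
    {c : f'.normalization ⟶ f.normalization} (hc : IsPullback c f'.fromNormalization f.fromNormalization b)
    (hc' : f'.toNormalization ≫ c = a ≫ f.toNormalization) :
    IsPullback a f'.toNormalization f.toNormalization c := by
  refine IsPullback.of_bot ?_ hc'.symm hc
  rw [Scheme.Hom.toNormalization_fromNormalization, Scheme.Hom.toNormalization_fromNormalization]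
  exact h

section Main

variable (ch : Ch p) (D : Set (Points 𝒴))

/-- The image of a set of points in the normalization. -/
def img (θ : 𝒳.obj) (h : IsAffine (sch 𝒳 θ)) : Set (str p (ch.α θ h)).normalization :=
  (str p (ch.α θ h)).toNormalization '' prei h𝒴 D (ch.y θ h)

/-- The complement of `V` in the normalization. -/
def cpl (θ : 𝒳.obj) (h : IsAffine (sch 𝒳 θ)) : Set (str p (ch.α θ h)).normalization :=
  (Set.range (str p (ch.α θ h)).toNormalization)ᶜ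

include h𝒳 h𝒴 in
theorem zcomp_img {θ' θ : 𝒳.obj} (h' : IsAffine (sch 𝒳 θ')) (h : IsAffine (sch 𝒳 θ)) (q : θ' ⟶ θ) :
    ZComp ch h' h q (img h𝒴 ch D θ' h') (img h𝒴 ch D θ h) := by
  intro ψ hψ c hc1 hc2
  have sq := isPullback_of_isTerm h𝒳 h𝒴 (ch.term θ' h') (ch.term θ h) hψ
  have h1 := pb_toNorm _ _ sq hc1 hc2
  unfold img
  rw [K563.NormCl.preimage_image h1, preimage_prei]

include h𝒳 h𝒴 in
theorem zcomp_cpl {θ' θ : 𝒳.obj} (h' : IsAffine (sch 𝒳 θ')) (h : IsAffine (sch 𝒳 θ)) (q : θ' ⟶ θ) :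
    ZComp ch h' h q (cpl ch θ' h') (cpl ch θ h) := by
  intro ψ hψ c hc1 hc2
  have sq := isPullback_of_isTerm h𝒳 h𝒴 (ch.term θ' h') (ch.term θ h) hψ
  have h1 := pb_toNorm _ _ sq hc1 hc2
  unfold cpl
  rw [Set.preimage_compl, ← Set.image_univ, K563.NormCl.preimage_image h1, Set.preimage_univ, Set.image_univ]

theorem isClosed_cpl (θ : 𝒳.obj) (h : IsAffine (sch 𝒳 θ)) : IsClosed (cpl ch θ h) := by
  haveI := (ch.qf θ h).1.1.1
  haveI := (ch.qf θ h).1.1.2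
  haveI := h
  have h3 : Topology.IsOpenEmbedding (str p (ch.α θ h)).toNormalization := (str p (ch.α θ h)).toNormalization.isOpenEmbedding
  exact h3.isOpen_range.isClosed_compl

theorem disjoint_img_cpl (θ : 𝒳.obj) (h : IsAffine (sch 𝒳 θ)) : Disjoint (cpl ch θ h) (img h𝒴 ch D θ h) := by
  rw [Set.disjoint_left]
  rintro z hz ⟨v, -, rfl⟩
  exact hz ⟨v, rfl⟩

/-- The constant function one. -/
noncomputable def oneSec (𝒴 : BasedCategory.{v', w'} (Over S)) : (OQ 𝒴).obj.GlobSect :=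
  ⟨fun x => (1 : Γ(sch 𝒴 x, ⊤)), fun x' x φ => by
    change (O 𝒴).mapTop φ (1 : Γ(sch 𝒴 x, ⊤)) = (1 : Γ(sch 𝒴 x', ⊤))
    rw [O_mapTop]
    exact map_one (bmap 𝒴 φ).appTop.hom⟩

/-- The value of a global section of the structure sheaf. -/
def vO (c : (OQ 𝒴).obj.GlobSect) (y : 𝒴.obj) : Γ(sch 𝒴 y, ⊤) := c.1 y

include h𝒳 h𝒴 in
/-- A global function vanishing outside `𝒴` in the normalization and equal to one over a closed point. -/
theorem exists_fun (hp : IsRep QfSep p) (P : Pres 𝒳) (hex : K907.Free.Exact 𝒳) {x : Points 𝒳} (hx : IsCl h𝒳 {x})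
    (hD : ∀ d ∈ D, Points.map p d = x) : ∃ c : (OQ 𝒴).obj.GlobSect,
      vO c (ch.y P.ζ P.affζ) ∈ N (str p (ch.α P.ζ P.affζ)) (cpl ch P.ζ P.affζ) ∧
      1 - vO c (ch.y P.ζ P.affζ) ∈ N (str p (ch.α P.ζ P.affζ)) (img h𝒴 ch D P.ζ P.affζ) := by
  obtain ⟨A, E, hE⟩ := exists_pushEv h𝒳 h𝒴 (hp.mono qfSep_le) P (OQ 𝒴)
  have hζ : SmCov (fun _ : PUnit.{u + 1} => P.ζ) := smCov_of_pres P
  have hbb : ∀ (θ : 𝒳.obj) (hθ : IsAffine (sch 𝒳 θ)) (q : θ ⟶ P.ζ), Smooth (bmap 𝒳 q) → Function.Bijective (E.ev θ hθ) :=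
    fun θ hθ q hq => hE θ hθ q inferInstance
  have hb0 : Function.Bijective (E.ev P.ζ P.affζ) := hE P.ζ P.affζ (𝟙 _) (by rw [bmap_id]; infer_instance)
  have hcl := isClosed_img h𝒳 h𝒴 P hx D hD (ch.term P.ζ P.affζ) (ch.qf P.ζ P.affζ).1
  let K : Fam (fun _ : PUnit.{u + 1} => P.ζ) A := fun _ => sub ch E P.ζ P.affζ (cpl ch P.ζ P.affζ)
  let I : Fam (fun _ : PUnit.{u + 1} => P.ζ) A := fun _ => sub ch E P.ζ P.affζ (img h𝒴 ch D P.ζ P.affζ)
  classical
  have hK : Compat K := hζ.compat (fun θ => if h : IsAffine (sch 𝒳 θ) then sub ch E θ h (cpl ch θ h) else ⊥) (by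
    intro θ j q hθ hq
    rw [dif_pos hθ]
    exact pull_sub h𝒳 h𝒴 ch E hθ P.affζ q hq hb0 (hbb θ hθ q hq) (isClosed_cpl ch _ _) (zcomp_cpl h𝒳 h𝒴 ch _ _ q))
  have hI : Compat I := hζ.compat (fun θ => if h : IsAffine (sch 𝒳 θ) then sub ch E θ h (img h𝒴 ch D θ h) else ⊥) (by
    intro θ j q hθ hq
    rw [dif_pos hθ]
    exact pull_sub h𝒳 h𝒴 ch E hθ P.affζ q hq hb0 (hbb θ hθ q hq) hcl (zcomp_img h𝒳 h𝒴 ch D _ _ q))
  obtain ⟨t, ht⟩ := exists_up h𝒳 E hζ hE (oneSec 𝒴)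
  have hvl : ∀ (a : A.obj.GlobSect) (c : (OQ 𝒴).obj.GlobSect), E.ev P.ζ P.affζ (a.1 P.ζ) = relOf c P.ζ →
      vl ch E P.ζ P.affζ (a.1 P.ζ) = vO c (ch.y P.ζ P.affζ) := by
    intro a c h
    change evT _ _ (E.ev P.ζ P.affζ (a.1 P.ζ)) = _
    rw [h]
    rfl
  have hinj : Function.Bijective (vl ch E P.ζ P.affζ) :=
    (bijective_evT (OQ 𝒴).obj (ch.term P.ζ P.affζ)).comp hb0
  have ht1 := hvl t (oneSec 𝒴) (ht P.ζ P.affζ (𝟙 _) (by rw [bmap_id]; infer_instance))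
  obtain ⟨c', hc'⟩ := exists_split h𝒳 hex hζ hK hI t (by
    rintro ⟨⟩
    haveI := P.affζ
    haveI : IsAffine (str p (ch.α P.ζ P.affζ)).normalization :=
      isAffine_of_isAffineHom (str p (ch.α P.ζ P.affζ)).fromNormalization
    have h1 := K907.Van.van_sup_eq_top (isClosed_cpl ch P.ζ P.affζ) hcl (disjoint_img_cpl h𝒴 ch D P.ζ P.affζ)
    obtain ⟨g, hg, g', hg', hgg⟩ := Submodule.mem_sup.1 (show (1 : Γ((str p (ch.α P.ζ P.affζ)).normalization, ⊤)) ∈ _ by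
      rw [h1]; trivial)
    obtain ⟨b, hb⟩ := hinj.2 ((str p (ch.α P.ζ P.affζ)).toNormalization.appTop g)
    obtain ⟨b', hb'⟩ := hinj.2 ((str p (ch.α P.ζ P.affζ)).toNormalization.appTop g')
    refine Submodule.mem_sup.2 ⟨b, ?_, b', ?_, ?_⟩
    · rw [mem_sub, hb, mem_N_iff]
      exact ⟨g, rfl, K907.Van.mem_van.1 hg⟩
    · rw [mem_sub, hb', mem_N_iff]
      exact ⟨g', rfl, K907.Van.mem_van.1 hg'⟩
    · apply hinj.1
      rw [map_add, hb, hb', ht1, ← map_add, hgg]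
      exact map_one _)
  obtain ⟨c, hc⟩ := exists_down h𝒴 E c'
  have h2 := hvl c' c (hc P.ζ P.affζ)
  have h3 := hc' PUnit.unit
  refine ⟨c, ?_, ?_⟩
  · have h4 := h3.1
    rw [mem_sub, h2] at h4
    exact h4
  · have h4 := h3.2
    rw [mem_sub, map_sub, h2, ht1] at h4
    exact h4

end Main

end K862.FunC
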