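import Groth.Agent.StMod.K862.FunC

/-!
# Purity: functions integral on the atlas are integral

* `pullFn p s` : the functions on `𝒳` as functions on `𝒴`;
* `exists_monic` : a global function on `𝒴` whose restriction to `V_ζ` is integral over `Γ(ζ)` satisfies a monic equation over the ring of
  global functions of `𝒳`.
-/

set_option autoImplicit false
set_option linter.unusedVariables false
set_option linter.style.haveILetI false
set_option backward.isDefEq.respectTransparency false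
set_option backward.isDefEq.respectTransparency.types false

universe t v'' w'' v' w' v w u

open CategoryTheory CategoryTheory.Limits AlgebraicGeometry Opposite StMod AlgSt Polynomial

namespace K862.Integ

open K862.Rep K862.PushO K862.Over K862.Split K862.FunC K908.Aff K907.Disj K907.FibTerm K906 K907.Pt K907.Closed K907.Atl K907.QDesc
  K907.Sec K907.Free K908.Push K563.NormFun Groth.Agent.CohqA.BaseChangeMod K907.Alg K907.Tens

variable {S : Scheme.{u}} {𝒳 : BasedCategory.{v, w} (Over S)} {𝒴 : BasedCategory.{v', w'} (Over S)}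
variable (h𝒳 : FibCat.IsFibGrpd 𝒳.p) (h𝒴 : FibCat.IsFibGrpd 𝒴.p) {p : 𝒴 ⥤ᵇ 𝒳}

theorem appTop_comp {X Y Z : Scheme.{u}} (f : X ⟶ Y) (g : Y ⟶ Z) (x : Γ(Z, ⊤)) :
    (f ≫ g).appTop x = f.appTop (g.appTop x) := by
  rw [Scheme.Hom.comp_appTop]
  rfl

/-- The functions of `𝒳` on `𝒴`. -/
noncomputable def pullFn (p : 𝒴 ⥤ᵇ 𝒳) {A : Type u} [CommRing A] (s : Fn A 𝒳) : Fn A 𝒴 where
  σ θ := (eqSch p θ).hom.appTop.hom.comp (s.σ (p.obj θ))
  comm {θ' θ} φ := by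
    ext a
    change (bmap 𝒴 φ).appTop ((eqSch p θ).hom.appTop (s.σ (p.obj θ) a)) = (eqSch p θ').hom.appTop (s.σ (p.obj θ') a)
    have h1 : s.σ (p.obj θ') a = (bmap 𝒳 (p.map φ)).appTop (s.σ (p.obj θ) a) := by
      rw [← s.comm (p.map φ)]
      rfl
    rw [h1, ← appTop_comp, ← appTop_comp, bmap_map, Iso.hom_inv_id_assoc]

theorem pullFn_σ {A : Type u} [CommRing A] (s : Fn A 𝒳) {y : 𝒴.obj} {ξ : 𝒳.obj} (α : p.obj y ⟶ ξ) (a : A) :
    (pullFn p s).σ y a = (str p α).appTop (s.σ ξ a) := by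
  have h1 : s.σ (p.obj y) a = (bmap 𝒳 α).appTop (s.σ ξ a) := by
    rw [← s.comm α]
    rfl
  change (eqSch p y).hom.appTop (s.σ (p.obj y) a) = _
  rw [h1, ← appTop_comp]
  rfl

/-- Powers of a global function. -/
noncomputable def powSec (c : (OQ 𝒴).obj.GlobSect) (n : ℕ) : (OQ 𝒴).obj.GlobSect :=
  ⟨fun x => (vO c x ^ n : Γ(sch 𝒴 x, ⊤)), fun x' x φ => by
    change (O 𝒴).mapTop φ (vO c x ^ n : Γ(sch 𝒴 x, ⊤)) = (vO c x' ^ n : Γ(sch 𝒴 x', ⊤))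
    rw [O_mapTop]
    have h1 : (bmap 𝒴 φ).appTop (vO c x) = vO c x' := by
      have h2 := c.2 φ
      exact h2
    rw [← h1]
    exact map_pow (bmap 𝒴 φ).appTop.hom _ _⟩

theorem vO_powSec (c : (OQ 𝒴).obj.GlobSect) (n : ℕ) (y : 𝒴.obj) : vO (powSec c n) y = vO c y ^ n := rfl

theorem vO_map (c : (OQ 𝒴).obj.GlobSect) {x' x : 𝒴.obj} (φ : x' ⟶ x) : (bmap 𝒴 φ).appTop (vO c x) = vO c x' := c.2 φ

theorem vO_add (c c' : (OQ 𝒴).obj.GlobSect) (y : 𝒴.obj) : vO (c + c') y = vO c y + vO c' y := rfl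

theorem vO_sub (c c' : (OQ 𝒴).obj.GlobSect) (y : 𝒴.obj) : vO (c - c') y = vO c y - vO c' y := rfl

include h𝒳 h𝒴 in
/-- A global function whose restriction to the chart is integral satisfies a monic equation. -/
theorem exists_monic (hp : IsRep QcSep p) (P : Pres 𝒳) (hex : K907.Free.Exact 𝒳) {A₀ : Type u} [CommRing A₀] (s : Fn A₀ 𝒳)
    (hs : IsFn s) (c : (OQ 𝒴).obj.GlobSect) {y : 𝒴.obj} {α : p.obj y ⟶ P.ζ} (hα : IsTerm p α)
    (hint : (str p α).appTop.hom.IsIntegralElem (vO c y)) :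
    ∃ q : A₀[X], q.Monic ∧ ∀ θ : 𝒴.obj, q.eval₂ ((pullFn p s).σ θ) (vO c θ) = 0 := by
  obtain ⟨A, E, hE⟩ := exists_pushEv h𝒳 h𝒴 hp P (OQ 𝒴)
  have hζ : SmCov (fun _ : PUnit.{u + 1} => P.ζ) := smCov_of_pres P
  have hc1 : Cov1 P.ζ := by
    intro x hx
    obtain ⟨z', f, d, h1, h2, h3⟩ := P.cov x hx
    exact ⟨z', f, d, h1, ⟨inferInstance, h3⟩⟩
  have hb0 : Function.Bijective (E.ev P.ζ P.affζ) := hE P.ζ P.affζ (𝟙 _) (by rw [bmap_id]; infer_instance)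
  obtain ⟨r, hr, hr0⟩ := hint
  choose t ht using fun n : ULift.{u} ℕ => exists_up h𝒳 E hζ hE (powSec c n.down)
  have hvl : ∀ n, evT (OQ 𝒴).obj α (E.ev P.ζ P.affζ ((t n).1 P.ζ)) = (vO c y ^ n.down : Γ(sch 𝒴 y, ⊤)) := by
    intro n
    rw [ht n P.ζ P.affζ (𝟙 _) (by rw [bmap_id]; infer_instance)]
    rfl
  have hinj : Function.Injective (fun a : Γ(A.obj.obj P.ζ, ⊤) => evT (OQ 𝒴).obj α (E.ev P.ζ P.affζ a)) :=
    (bijective_evT (OQ 𝒴).obj hα).1.comp hb0.1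
  let N := r.natDegree
  have hmem : (t ⟨N⟩).1 P.ζ ∈ Submodule.span Γ(sch 𝒳 P.ζ, ⊤)
      (Set.range fun i : ULift.{u} (Fin N) => (t ⟨i.down⟩).1 P.ζ) := by
    have h1 : (t ⟨N⟩).1 P.ζ = -∑ i : Fin N, r.coeff i • (t ⟨i⟩).1 P.ζ := by
      apply hinj
      change evT (OQ 𝒴).obj α (E.ev P.ζ P.affζ _) = evT (OQ 𝒴).obj α (E.ev P.ζ P.affζ _)
      rw [hvl, map_neg, map_neg, map_sum, map_sum]
      have h2 : ∀ i : Fin N, evT (OQ 𝒴).obj α (E.ev P.ζ P.affζ (r.coeff i • (t ⟨i⟩).1 P.ζ)) =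
          ((str p α).appTop (r.coeff i) * vO c y ^ (i : ℕ) : Γ(sch 𝒴 y, ⊤)) := by
        intro i
        rw [map_smul, evT_smul, hvl]
        rfl
      simp only [h2]
      have h3 := hr0
      rw [Polynomial.eval₂_eq_sum_range, Finset.sum_range_succ, hr.coeff_natDegree, map_one, one_mul,
        ← Fin.sum_univ_eq_sum_range (fun i => (str p α).appTop.hom (r.coeff i) * vO c y ^ i)] at h3
      exact eq_neg_of_add_eq_zero_right h3
    rw [h1]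
    exact Submodule.neg_mem _ (Submodule.sum_mem _ fun i _ => Submodule.smul_mem _ _
      (Submodule.subset_span ⟨⟨i⟩, rfl⟩))
  obtain ⟨a, ha⟩ := exists_linComb s h𝒳 hs hex hζ hc1 A (fun i : ULift.{u} (Fin N) => t ⟨i.down⟩) (t ⟨N⟩) hmem
  classical
  let q : A₀[X] := X ^ N - ∑ i : Fin N, C (a ⟨i⟩) * X ^ (i : ℕ)
  have hq : q.Monic := by
    refine monic_X_pow_sub ?_
    refine (Polynomial.degree_sum_le _ _).trans_lt ?_
    refine (Finset.sup_lt_iff (WithBot.bot_lt_coe N)).2 fun i _ => ?_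
    exact (degree_C_mul_X_pow_le _ _).trans_lt (WithBot.coe_lt_coe.2 (Nat.cast_lt.2 i.2))
  refine ⟨q, hq, ?_⟩
  have hqe : ∀ θ : 𝒴.obj, q.eval₂ ((pullFn p s).σ θ) (vO c θ) =
      vO c θ ^ N - ∑ i : Fin N, (pullFn p s).σ θ (a ⟨i⟩) * vO c θ ^ (i : ℕ) := by
    intro θ
    simp only [q, eval₂_sub, eval₂_pow, eval₂_X, eval₂_finsetSum, eval₂_mul, eval₂_C]
  let Q : (OQ 𝒴).obj.GlobSect := ⟨fun θ => (q.eval₂ ((pullFn p s).σ θ) (vO c θ) : Γ(sch 𝒴 θ, ⊤)), fun x' x φ => by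
    change (O 𝒴).mapTop φ (q.eval₂ ((pullFn p s).σ x) (vO c x) : Γ(sch 𝒴 x, ⊤)) = (q.eval₂ ((pullFn p s).σ x') (vO c x') : Γ(sch 𝒴 x', ⊤))
    rw [O_mapTop, ← vO_map c φ, ← (pullFn p s).comm φ]
    exact hom_eval₂ q _ (bmap 𝒴 φ).appTop.hom _⟩
  have hQ : Q = 0 := by
    refine globSect_ext_term h𝒳 h𝒴 hc1 hα (OQ 𝒴) ?_
    change (q.eval₂ ((pullFn p s).σ y) (vO c y) : Γ(sch 𝒴 y, ⊤)) = (0 : Γ(sch 𝒴 y, ⊤))
    rw [hqe]
    have h4 := congrArg (fun z => evT (OQ 𝒴).obj α (E.ev P.ζ P.affζ z)) (ha P.ζ P.affζ)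
    simp only [hvl] at h4
    rw [h4, Finsupp.sum_fintype _ _ (fun i => by rw [map_zero, zero_smul]), map_sum, map_sum, sub_eq_zero]
    rw [← Equiv.sum_comp Equiv.ulift.symm]
    refine Finset.sum_congr rfl fun i _ => ?_
    rw [map_smul, evT_smul, hvl, ← pullFn_σ s α]
    rfl
  intro θ
  exact congrArg (fun z : (OQ 𝒴).obj.GlobSect => vO z θ) hQ

end K862.Integ
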