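import Groth.Agent.StMod.K862.FSq
import Groth.Agent.StMod.K906.SpGeo
import Groth.Agent.StMod.K907.GM

/-!
# Levels: étale charts of a morphism of algebraic spaces and the induced functors of fibre categories

* `exists_ofSp_hom`, `exists_etHom` : arrows of `ofSp M` and étale objects from morphisms of schemes;
* `exists_bcLev`, `exists_isTerm_bcLev` : base change of a level;
* `exists_openLev`, `exists_isTerm_openLev` : basic open part of a level.
-/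

set_option autoImplicit false
set_option linter.unusedVariables false
set_option linter.style.haveILetI false
set_option backward.isDefEq.respectTransparency false
set_option backward.isDefEq.respectTransparency.types false

universe v₂ w₂ v₁ w₁ u

open CategoryTheory CategoryTheory.Limits AlgebraicGeometry Opposite StMod AlgSt AlgSp

namespace K862.Lev

open K862.Rep K862.FSq K908.Aff K907.Disj K907.FibTerm K906 K906.SpGeo

variable {S : Scheme.{u}} {M' M : Sp S}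

/-- Arrows of `ofSp M` from morphisms of schemes. -/
theorem exists_ofSp_hom {T η₁ η : (ofSp M).obj} (w : η₁ ⟶ η) (c : T ⟶ η) (t : T.base.left ⟶ η₁.base.left)
    (h : t ≫ w.hom.left = c.hom.left) : ∃ β : T ⟶ η₁, β.hom.left = t ∧ β ≫ w = c := by
  have h1 : t ≫ η₁.base.hom = T.base.hom := by
    rw [← Over.w w.hom, ← Category.assoc, h, Over.w]
  let t' : T.base ⟶ η₁.base := Over.homMk t h1
  have h2 : t' ≫ w.hom = c.hom := Over.OverMorphism.ext h
  refine ⟨⟨t', ?_⟩, rfl, Stk.EltObj.hom_ext h2⟩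
  rw [← w.map_sec, ← Functor.map_comp_apply, ← op_comp, h2, c.map_sec]

theorem ofSp_hom_ext {T η : (ofSp M).obj} {a b : T ⟶ η} (h : a.hom.left = b.hom.left) : a = b :=
  Stk.EltObj.hom_ext (Over.OverMorphism.ext h)

/-- Étale objects from étale morphisms of schemes. -/
theorem exists_etHom (E : EtOver M) {T : Scheme.{u}} (j : T ⟶ E.obj.left.left) [Etale j] :
    ∃ (E₁ : EtOver M) (w : etaOf E₁ ⟶ etaOf E) (i : T ≅ E₁.obj.left.left), i.hom ≫ w.hom.left = j := by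
  obtain ⟨η₁, w, i, hi, h⟩ : ∃ (η₁ : (ofSp M).obj) (w : η₁ ⟶ etaOf E) (i : T ≅ η₁.base.left),
      i.hom ≫ w.hom.left = j ∧ IsEt η₁ := by
    let η₁ : (ofSp M).obj := ⟨Over.mk (j ≫ E.obj.left.hom), M.obj.map (Over.homMk j : Over.mk (j ≫ E.obj.left.hom) ⟶
      E.obj.left).op (etaOf E).sec⟩
    let w : η₁ ⟶ etaOf E := ⟨Over.homMk j, rfl⟩
    have hj : Etale w.hom.left := ‹Etale j›
    exact ⟨η₁, w, Iso.refl _, Category.id_comp _, isEt_of_hom (isEt_etaOf E) w hj⟩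
  obtain ⟨E₁, rfl⟩ := exists_etaOf h
  exact ⟨E₁, w, i, hi⟩

variable {g : M' ⟶ M}

theorem map_hom {T' T : (ofSp M').obj} (c : T' ⟶ T) : ((ofSpMap g).map c).hom = c.hom := rfl

/-- Base change of a level. -/
theorem exists_bcLev (E' : EtOver M') (E : EtOver M) (m : (ofSpMap g).obj (etaOf E') ⟶ etaOf E) (E₁ : EtOver M)
    (w : etaOf E₁ ⟶ etaOf E) [hw : Etale w.hom.left] :
    ∃ (E₁' : EtOver M') (u' : etaOf E₁' ⟶ etaOf E') (m₁ : (ofSpMap g).obj (etaOf E₁') ⟶ etaOf E₁),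
      (ofSpMap g).map u' ≫ m = m₁ ≫ w ∧ IsPullback u'.hom.left m₁.hom.left m.hom.left w.hom.left := by
  have hw' : Etale w.hom.left := hw
  let a : E'.obj.left.left ⟶ E.obj.left.left := m.hom.left
  let b : E₁.obj.left.left ⟶ E.obj.left.left := w.hom.left
  haveI : Etale b := hw'
  obtain ⟨E₁', u', i, hi⟩ := exists_etHom E' (pullback.fst a b)
  obtain ⟨m₁, hm₁, hm₂⟩ := exists_ofSp_hom w ((ofSpMap g).map u' ≫ m) (i.inv ≫ pullback.snd a b) (by
    change (i.inv ≫ pullback.snd a b) ≫ b = u'.hom.left ≫ a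
    rw [Category.assoc, ← pullback.condition, ← hi, Category.assoc, Iso.inv_hom_id_assoc])
  refine ⟨E₁', u', m₁, hm₂.symm, ?_⟩
  refine IsPullback.of_iso (IsPullback.of_hasPullback a b) i (Iso.refl _) (Iso.refl _) (Iso.refl _) ?_ ?_ ?_ ?_
  · simpa using hi.symm
  · rw [hm₁]
    simp
  · simp [a]
  · simp [b]

theorem bcLev_up {η₁' η' : (ofSp M').obj} {η₁ η : (ofSp M).obj} {u' : η₁' ⟶ η'} {m₁ : (ofSpMap g).obj η₁' ⟶ η₁}
    {m : (ofSpMap g).obj η' ⟶ η} {w : η₁ ⟶ η} (hpb : IsPullback u'.hom.left m₁.hom.left m.hom.left w.hom.left)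
    {T : (ofSp M').obj} (α : T ⟶ η') (β : (ofSpMap g).obj T ⟶ η₁) (h : (ofSpMap g).map α ≫ m = β ≫ w) :
    ∃ γ : T ⟶ η₁', γ ≫ u' = α ∧ (ofSpMap g).map γ ≫ m₁ = β := by
  have h1 : α.hom.left ≫ m.hom.left = β.hom.left ≫ w.hom.left := congrArg (fun k => k.hom.left) h
  obtain ⟨γ, hγ1, hγ2⟩ := exists_ofSp_hom u' α (hpb.lift α.hom.left β.hom.left h1) (hpb.lift_fst _ _ _)
  refine ⟨γ, hγ2, ofSp_hom_ext ?_⟩
  change γ.hom.left ≫ m₁.hom.left = β.hom.left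
  rw [hγ1, hpb.lift_snd]

theorem bcLev_ext {η₁' η' : (ofSp M').obj} {η₁ η : (ofSp M).obj} {u' : η₁' ⟶ η'} {m₁ : (ofSpMap g).obj η₁' ⟶ η₁}
    {m : (ofSpMap g).obj η' ⟶ η} {w : η₁ ⟶ η} (hpb : IsPullback u'.hom.left m₁.hom.left m.hom.left w.hom.left)
    {T : (ofSp M').obj} {γ γ' : T ⟶ η₁'} (h1 : γ ≫ u' = γ' ≫ u')
    (h2 : (ofSpMap g).map γ ≫ m₁ = (ofSpMap g).map γ' ≫ m₁) : γ = γ' := by
  refine ofSp_hom_ext (hpb.hom_ext ?_ ?_)
  · exact congrArg (fun k => k.hom.left) h1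
  · exact congrArg (fun k => k.hom.left) h2

variable {𝒳' : BasedCategory.{v₁, w₁} (Over S)} {𝒳 : BasedCategory.{v₂, w₂} (Over S)}
  {f : 𝒳' ⥤ᵇ 𝒳} {π' : 𝒳' ⥤ᵇ ofSp M'} {π : 𝒳 ⥤ᵇ ofSp M} (e : BasedFunctor.comp f π ≅ BasedFunctor.comp π' (ofSpMap g))

/-- Base change of a level does not change the schemes under universal arrows. -/
theorem exists_isTerm_bcLev {η₁' η' : (ofSp M').obj} {η₁ η : (ofSp M).obj} {u' : η₁' ⟶ η'} {m₁ : (ofSpMap g).obj η₁' ⟶ η₁}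
    {m : (ofSpMap g).obj η' ⟶ η} {w : η₁ ⟶ η} (hcomm : (ofSpMap g).map u' ≫ m = m₁ ≫ w)
    (hpb : IsPullback u'.hom.left m₁.hom.left m.hom.left w.hom.left)
    (ξ : (fibCat π η₁).obj) (y : (fibCat π' η').obj) (α : (fibSq e m).obj y ⟶ (fibMap π w).obj ξ)
    (hα : IsTerm (fibSq e m) α) :
    ∃ (y₁ : (fibCat π' η₁').obj) (i : (fibMap π' u').obj y₁ ⟶ y) (α₁ : (fibSq e m₁).obj y₁ ⟶ ξ),
      IsIso (bmap (fibCat π' η') i) ∧ IsTerm (fibSq e m₁) α₁ ∧ f.map i.hom ≫ α.hom = α₁.hom := by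
  haveI := isIso_eArr e (FObj.pt y)
  have h1 : (ofSpMap g).map (FObj.arr y) ≫ m = (inv (eArr e (FObj.pt y)) ≫ π.map α.hom ≫ FObj.arr ξ) ≫ w := by
    have h2 := α.comm
    change π.map α.hom ≫ FObj.arr ξ ≫ w = eArr e (FObj.pt y) ≫ (ofSpMap g).map (FObj.arr y) ≫ m at h2
    rw [Category.assoc, Category.assoc, h2, IsIso.inv_hom_id_assoc]
  obtain ⟨γ, hγ1, hγ2⟩ := bcLev_up hpb (FObj.arr y) _ h1
  let y₁ : (fibCat π' η₁').obj := ⟨FObj.pt y, γ⟩
  let i : (fibMap π' u').obj y₁ ⟶ y := FObj.mkHom (𝟙 (FObj.pt y)) (by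
    change π'.map (𝟙 _) ≫ FObj.arr y = γ ≫ u'
    rw [CategoryTheory.Functor.map_id, Category.id_comp, hγ1])
  let α₁ : (fibSq e m₁).obj y₁ ⟶ ξ := FObj.mkHom α.hom (by
    change π.map α.hom ≫ FObj.arr ξ = eArr e (FObj.pt y) ≫ (ofSpMap g).map γ ≫ m₁
    rw [hγ2, IsIso.hom_inv_id_assoc])
  refine ⟨y₁, i, α₁, ?_, ?_, ?_⟩
  · change IsIso (bmap 𝒳' (𝟙 (FObj.pt y)))
    rw [bmap_id]
    infer_instance
  · intro θ β
    haveI := isIso_eArr e (FObj.pt θ)
    have hβ := β.comm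
    change π.map β.hom ≫ FObj.arr ξ = eArr e (FObj.pt θ) ≫ (ofSpMap g).map (FObj.arr θ) ≫ m₁ at hβ
    let β' : (fibSq e m).obj ((fibMap π' u').obj θ) ⟶ (fibMap π w).obj ξ := FObj.mkHom β.hom (by
      change π.map β.hom ≫ FObj.arr ξ ≫ w = eArr e (FObj.pt θ) ≫ (ofSpMap g).map (FObj.arr θ ≫ u') ≫ m
      rw [← Category.assoc, hβ, Functor.map_comp]
      simp only [Category.assoc]
      rw [hcomm])
    obtain ⟨χ, hχ, hu⟩ := hα _ β'
    have hχ' : f.map χ.hom ≫ α.hom = β.hom := congrArg FObj.Hom.hom hχ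
    have hc := χ.comm
    change π'.map χ.hom ≫ FObj.arr y = FObj.arr θ ≫ u' at hc
    refine ⟨FObj.mkHom χ.hom ?_, FObj.hom_ext hχ', ?_⟩
    · change π'.map χ.hom ≫ γ = FObj.arr θ
      refine bcLev_ext hpb ?_ ?_
      · rw [Category.assoc, hγ1, hc]
      · rw [Functor.map_comp, Category.assoc, hγ2, ← cancel_epi (eArr e (FObj.pt θ)), ← hβ, ← hχ',
          ← Category.assoc (eArr e _), ← eArr_nat, Category.assoc, IsIso.hom_inv_id_assoc, Functor.map_comp,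
          Category.assoc]
    · intro κ hκ
      have h3 : f.map κ.hom ≫ α.hom = β.hom := congrArg FObj.Hom.hom hκ
      have h4 : π'.map κ.hom ≫ FObj.arr y = FObj.arr θ ≫ u' := by
        have h5 := κ.comm
        change π'.map κ.hom ≫ γ = FObj.arr θ at h5
        rw [← h5, Category.assoc, hγ1]
      have h6 := hu (FObj.mkHom κ.hom h4 : (fibMap π' u').obj θ ⟶ y) (FObj.hom_ext h3)
      have h7 : κ.hom = χ.hom := congrArg FObj.Hom.hom h6
      exact FObj.hom_ext h7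
  · change f.map (𝟙 _) ≫ α.hom = α.hom
    rw [CategoryTheory.Functor.map_id, Category.id_comp]

/-- The open part of a level. -/
theorem exists_openLev (E' : EtOver M') (O : E'.obj.left.left.Opens) :
    ∃ (E'' : EtOver M') (u : etaOf E'' ⟶ etaOf E'), IsOpenImmersion u.hom.left ∧ Set.range u.hom.left = (O : Set E'.obj.left.left) := by
  obtain ⟨E'', u, i, hi⟩ := exists_etHom E' O.ι
  have h1 : u.hom.left = i.inv ≫ O.ι := by rw [← hi, Iso.inv_hom_id_assoc]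
  refine ⟨E'', u, ?_, ?_⟩
  · rw [h1]
    infer_instance
  · rw [h1, Scheme.Hom.comp_base, TopCat.coe_comp, Set.range_comp, Set.range_eq_univ.2, Set.image_univ]
    · exact Subtype.range_coe
    · exact i.inv.homeomorph.surjective

theorem str_arr {η₁ η : (ofSp M).obj} {ξ : 𝒳.obj} (a : π.obj ξ ⟶ η₁) (w : η₁ ⟶ η) :
    str π (a ≫ w) = str π a ≫ w.hom.left := by
  rw [str_comp]
  rfl

/-- The universal arrows of the open part of a level. -/
theorem exists_isTerm_openLev (h𝒳' : FibCat.IsFibGrpd 𝒳'.p) {η'' η' : (ofSp M').obj} {η : (ofSp M).obj} (u : η'' ⟶ η')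
    [hu : IsOpenImmersion u.hom.left] (m : (ofSpMap g).obj η' ⟶ η) (ξ : (fibCat π η).obj) (y : (fibCat π' η').obj)
    (α : (fibSq e m).obj y ⟶ ξ) (hα : IsTerm (fibSq e m) α) :
    ∃ (y₂ : (fibCat π' η'').obj) (k : (fibMap π' u).obj y₂ ⟶ y) (α₂ : (fibSq e ((ofSpMap g).map u ≫ m)).obj y₂ ⟶ ξ),
      IsOpenImmersion (bmap (fibCat π' η') k) ∧
      Set.range (bmap (fibCat π' η') k) = (str π' (FObj.arr y)) ⁻¹' Set.range u.hom.left ∧
      IsTerm (fibSq e ((ofSpMap g).map u ≫ m)) α₂ ∧ f.map k.hom ≫ α.hom = α₂.hom := by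
  haveI := h𝒳'
  obtain ⟨ζ, φ, hφ, hφr⟩ := K908.Fib.exists_restr (FObj.pt y) ((str π' (FObj.arr y)) ⁻¹ᵁ u.hom.left.opensRange)
  have hr : Set.range (bmap 𝒳' φ) = (str π' (FObj.arr y)) ⁻¹' Set.range u.hom.left := by
    have := congrArg (fun U : (sch 𝒳' (FObj.pt y)).Opens => (U : Set (sch 𝒳' (FObj.pt y)))) hφr
    exact this
  let c : π'.obj ζ ⟶ η' := π'.map φ ≫ FObj.arr y
  have hc : str π' c = bmap 𝒳' φ ≫ str π' (FObj.arr y) := str_map π' φ _
  have hcr : Set.range c.hom.left ⊆ Set.range u.hom.left := by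
    have h1 : c.hom.left = (eqSch π' ζ).inv ≫ str π' c := by
      rw [str_eq, Iso.inv_hom_id_assoc]
      rfl
    rw [h1, hc]
    rintro _ ⟨t, rfl⟩
    rw [Scheme.Hom.comp_apply, Scheme.Hom.comp_apply]
    have h2 : bmap 𝒳' φ ((eqSch π' ζ).inv t) ∈ Set.range (bmap 𝒳' φ) := ⟨_, rfl⟩
    rw [hr] at h2
    exact h2
  obtain ⟨γ, -, hγ⟩ := exists_ofSp_hom u c (IsOpenImmersion.lift u.hom.left c.hom.left hcr)
    (IsOpenImmersion.lift_fac _ _ _)
  have hmono : ∀ {T : (ofSp M').obj} (a b : T ⟶ η''), a ≫ u = b ≫ u → a = b := by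
    intro T a b h
    refine ofSp_hom_ext ?_
    rw [← cancel_mono u.hom.left]
    exact congrArg (fun k => k.hom.left) h
  let y₂ : (fibCat π' η'').obj := ⟨ζ, γ⟩
  let k : (fibMap π' u).obj y₂ ⟶ y := FObj.mkHom φ hγ.symm
  let α₂ : (fibSq e ((ofSpMap g).map u ≫ m)).obj y₂ ⟶ ξ := FObj.mkHom (f.map φ ≫ α.hom) (by
    have h2 := α.comm
    change π.map α.hom ≫ FObj.arr ξ = eArr e (FObj.pt y) ≫ (ofSpMap g).map (FObj.arr y) ≫ m at h2
    change π.map (f.map φ ≫ α.hom) ≫ FObj.arr ξ = eArr e ζ ≫ (ofSpMap g).map γ ≫ (ofSpMap g).map u ≫ m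
    rw [Functor.map_comp, Category.assoc, h2, ← Category.assoc, eArr_nat, Category.assoc,
      ← Category.assoc ((ofSpMap g).map γ), ← Functor.map_comp, hγ, Functor.map_comp, Category.assoc])
  refine ⟨y₂, k, α₂, hφ, hr, ?_, rfl⟩
  intro θ β
  have hβ := β.comm
  change π.map β.hom ≫ FObj.arr ξ = eArr e (FObj.pt θ) ≫ (ofSpMap g).map (FObj.arr θ) ≫ (ofSpMap g).map u ≫ m at hβ
  let β' : (fibSq e m).obj ((fibMap π' u).obj θ) ⟶ ξ := FObj.mkHom β.hom (by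
    change π.map β.hom ≫ FObj.arr ξ = eArr e (FObj.pt θ) ≫ (ofSpMap g).map (FObj.arr θ ≫ u) ≫ m
    rw [hβ, Functor.map_comp, Category.assoc])
  obtain ⟨χ, hχ, hun⟩ := hα _ β'
  have hχ' : f.map χ.hom ≫ α.hom = β.hom := congrArg FObj.Hom.hom hχ
  have hcomm := χ.comm
  change π'.map χ.hom ≫ FObj.arr y = FObj.arr θ ≫ u at hcomm
  have hrange : Set.range (bmap 𝒳' χ.hom) ⊆ Set.range (bmap 𝒳' φ) := by
    rw [hr]
    rintro _ ⟨t, rfl⟩
    have h3 : (bmap 𝒳' χ.hom ≫ str π' (FObj.arr y)) t = (str π' (FObj.arr θ) ≫ u.hom.left) t := by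
      rw [← str_map, hcomm, str_arr]
      rfl
    rw [Scheme.Hom.comp_apply, Scheme.Hom.comp_apply] at h3
    exact ⟨_, h3.symm⟩
  obtain ⟨κ, hκ⟩ := K908.Fib.exists_lift_open φ χ.hom hrange
  refine ⟨FObj.mkHom κ ?_, FObj.hom_ext ?_, ?_⟩
  · change π'.map κ ≫ γ = FObj.arr θ
    apply hmono
    rw [Category.assoc, hγ]
    change π'.map κ ≫ π'.map φ ≫ FObj.arr y = _
    rw [← Category.assoc, ← Functor.map_comp, hκ, hcomm]
  · change f.map κ ≫ f.map φ ≫ α.hom = β.hom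
    rw [← Category.assoc, ← Functor.map_comp, hκ, hχ']
  · intro κ' hκ'
    have h3 : f.map κ'.hom ≫ f.map φ ≫ α.hom = β.hom := congrArg FObj.Hom.hom hκ'
    have h4 : π'.map κ'.hom ≫ γ = FObj.arr θ := κ'.comm
    have h5 : π'.map (κ'.hom ≫ φ) ≫ FObj.arr y = FObj.arr θ ≫ u := by
      rw [Functor.map_comp, Category.assoc]
      change π'.map κ'.hom ≫ c = _
      rw [← hγ, ← Category.assoc, h4]
    have h6 := hun (FObj.mkHom (κ'.hom ≫ φ) h5 : (fibMap π' u).obj θ ⟶ y) (FObj.hom_ext (by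
      change f.map (κ'.hom ≫ φ) ≫ α.hom = β.hom
      rw [Functor.map_comp, Category.assoc, h3]))
    have h7 : κ'.hom ≫ φ = χ.hom := congrArg FObj.Hom.hom h6
    have h8 : κ'.hom = κ := by
      haveI := hφ
      exact K908.Fib.hom_ext_of_mono φ (h7.trans hκ.symm)
    exact FObj.hom_ext h8

end K862.Lev
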