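import Groth.Agent.StMod.K862.Lev
import Groth.Agent.StMod.K862.Integ

/-!
# Pointed levels and their moves

A pointed level: `E'`, `E` affine étale over `M'`, `M`, an arrow `m : g E' ⟶ E` and an arrow `a' : π' x₀ ⟶ E'` for a fixed
object `x₀` of `𝒳'` over `Spec K`.

* `exists_moveA` : base change of a pointed level along an étale algebra with a `K`-point;
* `exists_moveB` : basic open part of a pointed level.
-/

set_option autoImplicit false
set_option linter.unusedVariables false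
set_option linter.style.haveILetI false
set_option backward.isDefEq.respectTransparency false
set_option backward.isDefEq.respectTransparency.types false

universe v₂ w₂ v₁ w₁ u

open CategoryTheory CategoryTheory.Limits AlgebraicGeometry Opposite StMod AlgSt AlgSp

namespace K862.Move

open K862.Rep K862.FSq K862.Lev K862.Integ K908.Aff K907.Disj K907.FibTerm K906 K906.SpGeo

variable {S : Scheme.{u}} {M' M : Sp S} {g : M' ⟶ M}

theorem isoSpec_inv_appTop (X : Scheme.{u}) [IsAffine X] : X.isoSpec.inv.appTop = (Scheme.ΓSpecIso Γ(X, ⊤)).inv := by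
  have h1 : X.isoSpec.inv ≫ X.toSpecΓ = 𝟙 _ := X.isoSpec.inv_hom_id
  have h2 : X.toSpecΓ.appTop ≫ X.isoSpec.inv.appTop = 𝟙 _ := by
    rw [← Scheme.Hom.comp_appTop, h1]
    exact Scheme.Hom.id_appTop
  rw [Scheme.toSpecΓ_appTop] at h2
  rw [← cancel_epi (Scheme.ΓSpecIso Γ(X, ⊤)).hom, h2, Iso.hom_inv_id]

/-- The affine étale object attached to an étale algebra. -/
theorem exists_etAlg (E : EtOver M) [hE : IsAffine E.obj.left.left] {A₁ : Type u} [CommRing A₁]
    (φ : Γ(E.obj.left.left, ⊤) →+* A₁) (hφ : φ.Etale) :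
    ∃ (E₁ : EtOver M) (w : etaOf E₁ ⟶ etaOf E) (θ : A₁ ≃+* Γ(E₁.obj.left.left, ⊤)), IsAffine E₁.obj.left.left ∧
      Etale w.hom.left ∧ ∀ a : Γ(E.obj.left.left, ⊤), θ (φ a) = w.hom.left.appTop a := by
  let X := E.obj.left.left
  let j : Spec (CommRingCat.of A₁) ⟶ X := Spec.map (CommRingCat.ofHom φ) ≫ X.isoSpec.inv
  haveI : Etale (Spec.map (CommRingCat.ofHom φ)) := by
    rw [HasRingHomProperty.Spec_iff (P := @Etale)]
    exact hφ
  haveI : Etale j := inferInstance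
  obtain ⟨E₁, w, i, hi⟩ := exists_etHom E j
  let θ : A₁ ≃+* Γ(E₁.obj.left.left, ⊤) :=
    ((Scheme.ΓSpecIso (CommRingCat.of A₁)).commRingCatIsoToRingEquiv.symm).trans
      (Scheme.Γ.mapIso i.op.symm).commRingCatIsoToRingEquiv
  refine ⟨E₁, w, θ, IsAffine.of_isIso i.inv, ?_, ?_⟩
  · have h1 : w.hom.left = i.inv ≫ j := by rw [← hi, Iso.inv_hom_id_assoc]
    rw [h1]
    infer_instance
  · intro a
    have h1 : w.hom.left = i.inv ≫ j := by rw [← hi, Iso.inv_hom_id_assoc]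
    rw [h1, appTop_comp]
    change i.inv.appTop ((Scheme.ΓSpecIso (CommRingCat.of A₁)).inv (φ a)) = _
    congr 1
    change _ = (Spec.map (CommRingCat.ofHom φ) ≫ X.isoSpec.inv).appTop a
    rw [appTop_comp, isoSpec_inv_appTop]
    have h2 := Scheme.ΓSpecIso_inv_naturality (CommRingCat.ofHom φ)
    exact congrArg (fun z => z.hom a) h2

/-- Morphisms to an affine scheme are determined by global functions. -/
theorem hom_ext_aff {X Y : Scheme.{u}} [IsAffine Y] {a b : X ⟶ Y} (h : ∀ r : Γ(Y, ⊤), a.appTop r = b.appTop r) : a = b := by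
  apply ext_of_isAffine
  ext r
  exact h r

/-- A morphism from the spectrum of a field to an affine scheme. -/
theorem exists_hom_aff {X Y : Scheme.{u}} [IsAffine Y] (φ : Γ(Y, ⊤) →+* Γ(X, ⊤)) : ∃ a : X ⟶ Y, a.appTop.hom = φ := by
  refine ⟨X.toSpecΓ ≫ Spec.map (CommRingCat.ofHom φ) ≫ Y.isoSpec.inv, ?_⟩
  ext r
  have h2 : CommRingCat.ofHom φ ≫ (Scheme.ΓSpecIso Γ(X, ⊤)).inv =
      (Scheme.ΓSpecIso Γ(Y, ⊤)).inv ≫ Scheme.Hom.appTop (Spec.map (CommRingCat.ofHom φ)) :=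
    Scheme.ΓSpecIso_inv_naturality (CommRingCat.ofHom φ)
  rw [Scheme.Hom.comp_appTop, Scheme.Hom.comp_appTop, isoSpec_inv_appTop, ← h2, Category.assoc, Scheme.toSpecΓ_appTop,
    Iso.inv_hom_id, Category.comp_id]
  rfl

variable {𝒳' : BasedCategory.{v₁, w₁} (Over S)} {𝒳 : BasedCategory.{v₂, w₂} (Over S)}
  {f : 𝒳' ⥤ᵇ 𝒳} {π' : 𝒳' ⥤ᵇ ofSp M'} {π : 𝒳 ⥤ᵇ ofSp M} (e : BasedFunctor.comp f π ≅ BasedFunctor.comp π' (ofSpMap g))

theorem str_left {ξ : 𝒳'.obj} {η : (ofSp M').obj} (a : π'.obj ξ ⟶ η) : a.hom.left = (eqSch π' ξ).inv ≫ str π' a := by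
  rw [str_eq, Iso.inv_hom_id_assoc]
  rfl

/-- Base change of a pointed level. -/
theorem exists_moveA (E' : EtOver M') (E : EtOver M) [hE' : IsAffine E'.obj.left.left] [hE : IsAffine E.obj.left.left]
    (m : (ofSpMap g).obj (etaOf E') ⟶ etaOf E) {x₀ : 𝒳'.obj} (a' : π'.obj x₀ ⟶ etaOf E')
    {A₁ : Type u} [CommRing A₁] (φ : Γ(E.obj.left.left, ⊤) →+* A₁) (hφ : φ.Etale)
    (ι₁ : A₁ →+* Γ(sch 𝒳' x₀, ⊤)) (hι : ∀ a, ι₁ (φ a) = (str π' a' ≫ m.hom.left).appTop a) :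
    ∃ (E₁' : EtOver M') (E₁ : EtOver M) (u' : etaOf E₁' ⟶ etaOf E') (w : etaOf E₁ ⟶ etaOf E)
      (m₁ : (ofSpMap g).obj (etaOf E₁') ⟶ etaOf E₁) (θ : A₁ ≃+* Γ(E₁.obj.left.left, ⊤)) (a₁' : π'.obj x₀ ⟶ etaOf E₁'),
      IsAffine E₁'.obj.left.left ∧ IsAffine E₁.obj.left.left ∧ Etale w.hom.left ∧
      (∀ a : Γ(E.obj.left.left, ⊤), θ (φ a) = w.hom.left.appTop a) ∧
      (ofSpMap g).map u' ≫ m = m₁ ≫ w ∧ IsPullback u'.hom.left m₁.hom.left m.hom.left w.hom.left ∧ a₁' ≫ u' = a' ∧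
      ∀ r : A₁, (str π' a₁' ≫ m₁.hom.left).appTop (θ r) = ι₁ r := by
  obtain ⟨E₁, w, θ, hE₁, hw, hθ⟩ := exists_etAlg E φ hφ
  haveI := hw
  haveI := hE₁
  obtain ⟨E₁', u', m₁, hcomm, hpb⟩ := exists_bcLev E' E m E₁ w
  obtain ⟨t, ht⟩ := exists_hom_aff (X := sch 𝒳' x₀) (Y := E₁.obj.left.left) (ι₁.comp θ.symm.toRingHom)
  have ht' : ∀ r : A₁, t.appTop (θ r) = ι₁ r := by
    intro r
    have := congrArg (fun z => z (θ r)) ht
    refine this.trans ?_
    change ι₁ (θ.symm (θ r)) = _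
    rw [RingEquiv.symm_apply_apply]
  have h1 : t ≫ w.hom.left = str π' a' ≫ m.hom.left := by
    haveI : IsAffine (etaOf E).base.left := hE
    refine hom_ext_aff fun r => ?_
    rw [appTop_comp, ← hι, ← ht']
    congr 1
    exact (hθ r).symm
  obtain ⟨β, hβ1, hβ2⟩ := exists_ofSp_hom (T := (ofSpMap g).obj (π'.obj x₀)) w ((ofSpMap g).map a' ≫ m) ((eqSch π' x₀).inv ≫ t) (by
    rw [Category.assoc, h1, ← Category.assoc, ← str_left]
    rfl)
  obtain ⟨a₁', h2, h3⟩ := bcLev_up hpb a' β hβ2.symm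
  refine ⟨E₁', E₁, u', w, m₁, θ, a₁', ?_, hE₁, hw, hθ, hcomm, hpb, h2, ?_⟩
  · haveI : IsAffine (etaOf E').base.left := hE'
    haveI : IsAffine (etaOf E).base.left := hE
    haveI : IsAffine (etaOf E₁).base.left := hE₁
    haveI : IsAffine ((ofSpMap g).obj (etaOf E')).base.left := hE'
    exact K907.Sec.isAffine_of_isPullback hpb
  · intro r
    have h4 : str π' a₁' ≫ m₁.hom.left = t := by
      have h5 : a₁'.hom.left ≫ m₁.hom.left = (eqSch π' x₀).inv ≫ t := by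
        rw [← hβ1, ← h3]
        rfl
      rw [str_left, Category.assoc] at h5
      rwa [cancel_epi] at h5
    rw [h4]
    exact ht' r

/-- The basic open part of a pointed level. -/
theorem exists_moveB (E' : EtOver M') [hE' : IsAffine E'.obj.left.left] {x₀ : 𝒳'.obj} (a' : π'.obj x₀ ⟶ etaOf E')
    (b : Γ(E'.obj.left.left, ⊤)) (hb : IsUnit ((str π' a').appTop b)) :
    ∃ (E'' : EtOver M') (u : etaOf E'' ⟶ etaOf E') (a'' : π'.obj x₀ ⟶ etaOf E''), IsAffine E''.obj.left.left ∧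
      IsOpenImmersion u.hom.left ∧ Set.range u.hom.left = (E'.obj.left.left.basicOpen b : Set E'.obj.left.left) ∧
      a'' ≫ u = a' := by
  obtain ⟨E'', u, h1, h2⟩ := exists_openLev E' (E'.obj.left.left.basicOpen b)
  haveI := h1
  have h3 : Set.range a'.hom.left ⊆ Set.range u.hom.left := by
    rw [h2, str_left]
    rintro _ ⟨t, rfl⟩
    rw [Scheme.Hom.comp_apply]
    have h4 : (sch 𝒳' x₀).basicOpen ((str π' a').appTop b) = ⊤ := Scheme.basicOpen_of_isUnit _ hb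
    have h5 : (str π' a') ⁻¹ᵁ (E'.obj.left.left.basicOpen b) = (sch 𝒳' x₀).basicOpen ((str π' a').appTop b) :=
      Scheme.preimage_basicOpen_top _ _
    have h6 : (eqSch π' x₀).inv t ∈ (str π' a') ⁻¹ᵁ (E'.obj.left.left.basicOpen b) := by
      rw [h5, h4]
      trivial
    exact h6
  obtain ⟨a'', -, h4⟩ := exists_ofSp_hom u a' (IsOpenImmersion.lift u.hom.left a'.hom.left h3)
    (IsOpenImmersion.lift_fac _ _ _)
  refine ⟨E'', u, a'', ?_, h1, h2, h4⟩
  have h5 : IsAffineOpen (E'.obj.left.left.basicOpen b) := (isAffineOpen_top E'.obj.left.left).basicOpen b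
  have h6 : u.hom.left.opensRange = E'.obj.left.left.basicOpen b := TopologicalSpace.Opens.ext h2
  have h7 : IsAffineOpen u.hom.left.opensRange := by
    have := h5
    rw [← h6] at this
    exact this
  haveI : IsAffine (u.hom.left.opensRange : Scheme.{u}) := h7
  exact IsAffine.of_isIso u.hom.left.isoOpensRange.hom

end K862.Move
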