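import Groth.Agent.StMod.K862.PushO
import Groth.Agent.StMod.K563.NormCl
import Groth.Agent.StMod.K872.ClosedPt

/-!
# Points over a closed point

For `F : 𝒴' ⟶ 𝒴` representable by quasi-finite separated schemes, `y` a closed point of `𝒴` and `D` a set of points over `y`:

* `isClosed_img` : the image of the preimage of `D` in the normalization of the base in `V_ζ` is closed;
* `isCl_over` : `D` is closed.
-/

set_option autoImplicit false
set_option linter.unusedVariables false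
set_option linter.style.haveILetI false
set_option backward.isDefEq.respectTransparency false
set_option backward.isDefEq.respectTransparency.types false

universe t v'' w'' v' w' v w u

open CategoryTheory CategoryTheory.Limits AlgebraicGeometry Opposite StMod AlgSt

namespace K862.Over

open K862.Rep K862.PushO K908.Aff K907.Disj K907.FibTerm K906 K907.Pt K907.Closed K907.Atl

/-- A maximal point of a closed set. -/
theorem exists_maximal {T : Type u} [TopologicalSpace T] [QuasiSober T] [T0Space T] {C : Set T} (hC : IsClosed C)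
    (hne : C.Nonempty) : ∃ η ∈ C, ∀ x ∈ C, x ⤳ η → x = η := by
  obtain ⟨c, hc⟩ := hne
  haveI : QuasiSober C := hC.isClosedEmbedding_subtypeVal.quasiSober
  let Z : Set C := irreducibleComponent (⟨c, hc⟩ : C)
  have hZ : IsIrreducible Z := isIrreducible_irreducibleComponent
  have hZc : IsClosed Z := isClosed_irreducibleComponent
  obtain ⟨η, hη⟩ := QuasiSober.sober hZ hZc
  refine ⟨η.1, η.2, fun x hx hxη => ?_⟩
  let x' : C := ⟨x, hx⟩
  have h1 : x' ⤳ η := (subtype_specializes_iff _ _).2 hxη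
  have h2 : Z ⊆ closure {x'} := by
    rw [← hη.def]
    exact h1.closure_subset
  have h3 : closure {x'} ⊆ Z := by
    have h4 := (eq_irreducibleComponent (s := closure {x'}) (x := (⟨c, hc⟩ : C)) isIrreducible_singleton.closure.isPreirreducible h2)
    rw [h4]
  have h5 : x' ∈ closure {η} := by
    rw [hη.def]
    exact h3 (subset_closure rfl)
  have h6 : η ⤳ x' := specializes_iff_mem_closure.2 h5
  exact congrArg Subtype.val (h1.antisymm h6).eq

/-- quasi-finite, of finite type, separated, quasi-compact. -/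
abbrev QfSep : MorphismProperty Scheme.{u} :=
  (@LocallyQuasiFinite ⊓ @LocallyOfFiniteType) ⊓ (@QuasiCompact ⊓ @IsSeparated)

theorem qfSep_le : QfSep.{u} ≤ QcSep := fun _ _ _ h => h.2

variable {S : Scheme.{u}} {𝒳 : BasedCategory.{v, w} (Over S)} {𝒴 : BasedCategory.{v', w'} (Over S)}
variable (h𝒳 : FibCat.IsFibGrpd 𝒳.p) (h𝒴 : FibCat.IsFibGrpd 𝒴.p) {p : 𝒴 ⥤ᵇ 𝒳}

theorem map_pt' {y : 𝒴.obj} {ξ : 𝒳.obj} (α : p.obj y ⟶ ξ) (t : ↥(sch 𝒴 y)) :
    Points.map p (pt h𝒴 y t) = pt h𝒳 ξ (str p α t) := map_pt h𝒴 h𝒳 p α t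

/-- The preimage in a universal arrow of a set of points over `x` is stable under the relation. -/
theorem isClosed_img (P : Pres 𝒳) {x : Points 𝒳} (hx : IsCl h𝒳 {x}) (D : Set (Points 𝒴))
    (hD : ∀ d ∈ D, Points.map p d = x) {y : 𝒴.obj} {α : p.obj y ⟶ P.ζ} (hα : IsTerm p α)
    (hP : QfSep (str p α)) :
    haveI := hP.2.1
    haveI := hP.2.2
    IsClosed ((str p α).toNormalization '' prei h𝒴 D y) := by
  haveI := hP.2.1
  haveI := hP.2.2
  haveI := hP.1.1
  haveI := hP.1.2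
  haveI := P.affζ
  haveI := P.affρ
  haveI := P.smooth_s
  haveI := P.smooth_t
  rcases D.eq_empty_or_nonempty with hDe | ⟨d, hd⟩
  · have : prei h𝒴 D y = ∅ := by
      rw [hDe]
      rfl
    rw [this, Set.image_empty]
    exact isClosed_empty
  obtain ⟨y₁, a, α₁, h1, h2, h3⟩ := exists_isTerm_bc h𝒳 h𝒴 P.s hα
  obtain ⟨b, hb⟩ := exists_hom P.t (α' := α₁) hα
  have h4 := isPullback_of_isTerm h𝒳 h𝒴 h1 hα hb
  -- a maximal point of the orbit
  obtain ⟨c, hc⟩ := K872.ClosedPt.exists_pt_atlas h𝒳 P x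
  obtain ⟨η, hη, hmax⟩ := exists_maximal (hx P.ζ P.affζ) ⟨c, hc⟩
  refine K563.NormCl.isClosed_image_toNormalization (str p α) (bmap 𝒳 P.s) (bmap 𝒳 P.t) (str p α₁) (bmap 𝒴 a)
    (bmap 𝒴 b) h3 h4 (prei h𝒳 {x} P.ζ) (hx P.ζ P.affζ) ?_ η hη hmax ?_ (prei h𝒴 D y) ?_ ?_
  · rw [preimage_prei, preimage_prei]
  · intro z hz
    exact (K872.ClosedPt.pt_eq_pt_iff h𝒳 P z η).1 (hz.trans hη.symm)
  · intro v hv
    change pt h𝒳 P.ζ (str p α v) = x
    rw [← map_pt' h𝒳 h𝒴]
    exact hD _ hv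
  · rw [preimage_prei, preimage_prei]

/-- A set of points of `𝒴` over a closed point of `𝒳` is closed. -/
theorem isCl_over (P : Pres 𝒳) (hp : IsRep QfSep p) {x : Points 𝒳} (hx : IsCl h𝒳 {x}) (D : Set (Points 𝒴))
    (hD : ∀ d ∈ D, Points.map p d = x) : IsCl h𝒴 D := by
  obtain ⟨y, α, hα, hP⟩ := hp P.ζ P.affζ
  haveI := hP.2.1
  haveI := hP.2.2
  haveI := hP.1.1
  haveI := hP.1.2
  haveI := P.affζ
  have h1 := isClosed_img h𝒳 h𝒴 P hx D hD hα hP
  have h2 : IsClosed (prei h𝒴 D y) := by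
    have h3 : Topology.IsOpenEmbedding (str p α).toNormalization := (str p α).toNormalization.isOpenEmbedding
    rw [← Set.preimage_image_eq (prei h𝒴 D y) h3.injective]
    exact h1.preimage (str p α).toNormalization.continuous
  intro ξ hξ
  obtain ⟨z, f, d, hz, hf1, hf2⟩ := P.cov (p.obj ξ) (isAffine_pobj hξ)
  obtain ⟨ξ', φ, i, hi, -, -, h5, h6⟩ := exists_lift_cov h𝒳 h𝒴 f
  obtain ⟨χ, hχ⟩ := exists_hom (𝟙 P.ζ) (α' := i ≫ d) hα
  have h7 : Smooth (bmap 𝒴 φ) := h6 @Smooth inferInstance hf1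
  have h8 : Surjective (bmap 𝒴 φ) := h6 @Surjective inferInstance hf2
  have h9 : IsClosed ((bmap 𝒴 φ) ⁻¹' prei h𝒴 D ξ) := by
    rw [preimage_prei, ← preimage_prei h𝒴 D χ]
    exact h2.preimage (bmap 𝒴 χ).continuous
  have h10 : Topology.IsQuotientMap (bmap 𝒴 φ) :=
    (bmap 𝒴 φ).isOpenMap.isQuotientMap (bmap 𝒴 φ).continuous (bmap 𝒴 φ).surjective
  exact h10.isClosed_preimage.1 h9

end K862.Over
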