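import Groth.Agent.StMod.K907.Free

/-!
# Splitting a global section with respect to two compatible families of submodules

* `ext_inf` : flat base change commutes with intersections of submodules;
* `exists_split` : for `𝒳` with exact global sections and a smooth atlas `Z`, compatible families `K`, `I` of submodules of `F` and a
  global section `t` of `F` with `t ∈ K + I` on the atlas there is a global section `c` with `c ∈ K`, `t - c ∈ I`.
-/

set_option autoImplicit false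
set_option linter.unusedVariables false
set_option linter.style.haveILetI false
set_option backward.isDefEq.respectTransparency false
set_option backward.isDefEq.respectTransparency.types false

universe t w v u

open CategoryTheory CategoryTheory.Limits AlgebraicGeometry Opposite StMod

namespace K862.Split

open Groth.Agent.CohqA.BaseChangeMod K907.Alg K907.Sec K907.QDesc K907.Quot K907.Atl K907.Gen K907.Free

section Algebra

variable {A B : Type u} [CommRing A] [CommRing B]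

theorem isBC_prod {φ : A →+* B} {M W M₁ W₁ : Type u} [AddCommGroup M] [Module A M]
    [AddCommGroup W] [Module A W] [AddCommGroup M₁] [Module B M₁] [AddCommGroup W₁] [Module B W₁]
    {f : M →+ M₁} {g : W →+ W₁} (hf : IsBC φ f) (hg : IsBC φ g) : IsBC φ (f.prodMap g) := by
  refine ⟨fun r x => Prod.ext (hf.map_smul r x.1) (hg.map_smul r x.2), ?_⟩
  intro Q _ _ h hh
  obtain ⟨h₁, h1, u1⟩ := hf.lift Q (h.comp (AddMonoidHom.inl M W)) fun r x => by
    have := hh r (x, 0)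
    rw [Prod.smul_mk, smul_zero] at this
    exact this
  obtain ⟨h₂, h2, u2⟩ := hg.lift Q (h.comp (AddMonoidHom.inr M W)) fun r x => by
    have := hh r (0, x)
    rw [Prod.smul_mk, smul_zero] at this
    exact this
  refine ⟨h₁.coprod h₂, ?_, ?_⟩
  · rintro ⟨x, y⟩
    change h₁ (f x) + h₂ (g y) = h (x, y)
    rw [h1, h2]
    change h (x, 0) + h (0, y) = _
    rw [← map_add]
    simp
  · intro k hk
    apply LinearMap.prod_ext
    · rw [LinearMap.coprod_inl]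
      refine u1 _ fun x => ?_
      have := hk (x, 0)
      change k (f x, g 0) = h (x, 0) at this
      rw [map_zero] at this
      exact this
    · rw [LinearMap.coprod_inr]
      refine u2 _ fun x => ?_
      have := hk (0, x)
      change k (f 0, g x) = h (0, x) at this
      rw [map_zero] at this
      exact this

/-- Flat base change commutes with intersections. -/
theorem ext_inf {φ : A →+* B} (hφ : φ.Flat) {M M₁ : Type u} [AddCommGroup M] [Module A M] [AddCommGroup M₁] [Module B M₁]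
    {f : M →+ M₁} (hf : IsBC φ f) (N L : Submodule A M) :
    (ext f (N ⊓ L) : Submodule B M₁) = ext f N ⊓ ext f L := by
  have h1 := isBC_prod (isBC_quotMap hf N) (isBC_quotMap hf L)
  have h2 := ext_ker_eq hφ hf h1 (N.mkQ.prod L.mkQ)
    ((ext f N : Submodule B M₁).mkQ.prod (ext f L : Submodule B M₁).mkQ) (fun x => rfl)
  rw [LinearMap.ker_prod, LinearMap.ker_prod, Submodule.ker_mkQ, Submodule.ker_mkQ, Submodule.ker_mkQ,
    Submodule.ker_mkQ] at h2
  exact h2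

end Algebra

section Geometry

variable {S : Scheme.{u}} {𝒳 : BasedCategory.{v, w} (Over S)} {F : QCoh 𝒳}

theorem pull_inf {ξ' ξ : 𝒳.obj} (φ : ξ' ⟶ ξ) [IsAffine (sch 𝒳 ξ)] [IsAffine (sch 𝒳 ξ')] (h : Flat (bmap 𝒳 φ))
    (N L : Submodule Γ(sch 𝒳 ξ, ⊤) Γ(F.obj.obj ξ, ⊤)) : pull φ (N ⊓ L) = pull φ N ⊓ pull φ L :=
  ext_inf (ringMap_flat φ h) (isBC_resTop F φ) N L

variable {J : Type t} {Z : J → 𝒳.obj}

theorem compat_inf (h𝒳 : FibCat.IsFibGrpd 𝒳.p) (hZ : SmCov Z) {K I : Fam Z F} (hK : Compat K) (hI : Compat I) :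
    Compat (fun j => K j ⊓ I j : Fam Z F) := by
  classical
  haveI := hZ.aff
  refine hZ.compat (fun θ => if h : IsAffine (sch 𝒳 θ) then
    (all hZ.covers K θ ⊓ all hZ.covers I θ) else ⊥) fun θ j p hθ hp => ?_
  haveI := hθ
  rw [dif_pos hθ, pull_inf p inferInstance, all_eq_pull h𝒳 hZ.covers hK p, all_eq_pull h𝒳 hZ.covers hI p]

/-- Splitting a section. -/
theorem exists_split (h𝒳 : FibCat.IsFibGrpd 𝒳.p) (hex : Exact 𝒳) (hZ : SmCov Z) {K I : Fam Z F} (hK : Compat K)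
    (hI : Compat I) (t : F.obj.GlobSect) (ht : ∀ j, t.1 (Z j) ∈ K j ⊔ I j) :
    ∃ c : F.obj.GlobSect, ∀ j, c.1 (Z j) ∈ K j ∧ t.1 (Z j) - c.1 (Z j) ∈ I j := by
  haveI := h𝒳
  haveI := hZ.aff
  have hKI := compat_inf h𝒳 hZ hK hI
  obtain ⟨Q, q, hq, hker⟩ := exists_quotient_atlas h𝒳 hZ.covers F hKI
  have hgen := genCl_flat h𝒳 hZ
  have hker' : ∀ (ξ : 𝒳.obj) (j : J) (d : ξ ⟶ Z j), IsAffine (sch 𝒳 ξ) → Flat (bmap 𝒳 d) → ∀ a b : Γ(F.obj.obj ξ, ⊤),
      (q.hom.app ξ).app ⊤ a = (q.hom.app ξ).app ⊤ b ↔ a - b ∈ pull d (K j) ⊓ pull d (I j) := by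
    intro ξ j d hξ hd a b
    rw [← pull_inf d hd, ← all_eq_pull h𝒳 hZ.covers hKI d, ← hker ξ]
    have e1 : (q.hom.app ξ).app ⊤ (a - b) = (q.hom.app ξ).app ⊤ a - (q.hom.app ξ).app ⊤ b :=
      map_sub ((q.hom.app ξ).app ⊤).hom a b
    rw [e1, sub_eq_zero]
  have hu : ∀ (ξ : 𝒳.obj) (hξ : IsAffine (sch 𝒳 ξ) ∧ ∃ (j : J) (d : ξ ⟶ Z j), Flat (bmap 𝒳 d)),
      ∃ a : Γ(F.obj.obj ξ, ⊤), ∀ (j : J) (d : ξ ⟶ Z j), a ∈ pull d (K j) ∧ t.1 ξ - a ∈ pull d (I j) := by
    rintro ξ ⟨hξ, j, d, hd⟩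
    obtain ⟨a, ha, b, hb, hab⟩ := Submodule.mem_sup.1 (ht j)
    refine ⟨F.obj.mapTop d a, fun i e => ?_⟩
    rw [← hK hξ d e, ← hI hξ d e]
    refine ⟨mem_pull d ha, ?_⟩
    have h1 : t.1 ξ = F.obj.mapTop d a + F.obj.mapTop d b := by
      rw [← Mod.mapTop_add, hab, t.2 d]
    rw [h1, add_sub_cancel_left]
    exact mem_pull d hb
  choose uu huu using hu
  obtain ⟨e, he⟩ := hgen.exists_globSect Q (fun ξ hξ => (q.hom.app ξ).app ⊤ (uu ξ hξ)) (by
    rintro ξ' ξ φ ⟨hξ', j', d', hd'⟩ hξ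
    haveI := hξ'
    haveI := hξ.1
    rw [Mod.mapTop_app]
    refine (hker' ξ' j' d' hξ' hd' _ _).2 ?_
    obtain ⟨j, d, hd⟩ := hξ.2
    have h1 := huu ξ hξ j d
    have h2 := huu ξ' ⟨hξ', j', d', hd'⟩ j' d'
    have e1 : pull d' (K j') = pull (φ ≫ d) (K j) := hK hξ' d' (φ ≫ d)
    have e2 : pull d' (I j') = pull (φ ≫ d) (I j) := hI hξ' d' (φ ≫ d)
    rw [e1, e2, pull_comp, pull_comp]
    rw [e1, e2, pull_comp, pull_comp] at h2
    refine ⟨Submodule.sub_mem _ (mem_pull φ h1.1) h2.1, ?_⟩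
    have h3 := mem_pull φ h1.2
    have e3 : F.obj.mapTop φ (t.1 ξ - uu ξ hξ) = t.1 ξ' - F.obj.mapTop φ (uu ξ hξ) := by
      rw [← t.2 φ]
      exact map_sub (resTop F.obj φ) _ _
    rw [e3] at h3
    have h4 := Submodule.sub_mem _ h2.2 h3
    have e4 : t.1 ξ' - uu ξ' ⟨hξ', j', d', hd'⟩ - (t.1 ξ' - F.obj.mapTop φ (uu ξ hξ)) =
      F.obj.mapTop φ (uu ξ hξ) - uu ξ' ⟨hξ', j', d', hd'⟩ := by abel
    rw [e4] at h4
    exact h4)
  obtain ⟨c, hc⟩ := hex q hq e
  refine ⟨c, fun j => ?_⟩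
  have hZj : IsAffine (sch 𝒳 (Z j)) ∧ ∃ (i : J) (d : Z j ⟶ Z i), Flat (bmap 𝒳 d) :=
    ⟨hZ.aff j, j, 𝟙 _, by rw [bmap_id]; infer_instance⟩
  have h1 : (q.hom.app (Z j)).app ⊤ (c.1 (Z j)) = (q.hom.app (Z j)).app ⊤ (uu (Z j) hZj) := by
    rw [← he (Z j) hZj, ← hc, Mod.globSectMap_val]
  have h2 := (hker' (Z j) j (𝟙 _) (hZ.aff j) (by rw [bmap_id]; infer_instance) _ _).1 h1
  rw [pull_id, pull_id] at h2
  have h3 := huu (Z j) hZj j (𝟙 _)
  rw [pull_id, pull_id] at h3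
  constructor
  · have := Submodule.add_mem _ h2.1 h3.1
    rwa [sub_add_cancel] at this
  · have := Submodule.sub_mem _ h3.2 h2.2
    have e5 : t.1 (Z j) - uu (Z j) hZj - (c.1 (Z j) - uu (Z j) hZj) = t.1 (Z j) - c.1 (Z j) := by abel
    rwa [e5] at this

end Geometry

end K862.Split
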