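import Groth.Agent.StMod.K862.Rep
import Groth.Agent.StMod.K862.Split
import Groth.Agent.StMod.K906.PushFl

/-!
# The pushforward along a functor representable by quasi-compact separated schemes

* `exists_pushEv` : the pushforward `A` of a quasi-coherent module `F` on `𝒴` with its evaluation, bijective flat over the atlas;
* `evT`, `bijective_evT` : sections over `ξ` of the pushforward = sections over the universal arrow;
* `dense_ovr`, `globSect_ext_term` : global sections on `𝒴` are determined on the universal arrow over a covering object;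
* `exists_up`, `exists_down` : comparison of the global sections of `A` and `F`.
-/

set_option autoImplicit false
set_option linter.unusedVariables false
set_option linter.style.haveILetI false
set_option backward.isDefEq.respectTransparency false
set_option backward.isDefEq.respectTransparency.types false

universe t v'' w'' v' w' v w u

open CategoryTheory CategoryTheory.Limits AlgebraicGeometry Opposite StMod AlgSt

namespace K862.PushO

open K862.Rep K908.Aff K907.Disj K907.FibTerm K906 K907.Sec K907.Atl K907.Free K907.QDesc K908.AMod K908.Push K907.Gen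

variable {S : Scheme.{u}} {𝒳 : BasedCategory.{v, w} (Over S)} {𝒴 : BasedCategory.{v', w'} (Over S)}
variable (h𝒳 : FibCat.IsFibGrpd 𝒳.p) (h𝒴 : FibCat.IsFibGrpd 𝒴.p) {p : 𝒴 ⥤ᵇ 𝒳}

/-- quasi-compact and separated. -/
abbrev QcSep : MorphismProperty Scheme.{u} := @QuasiCompact ⊓ @IsSeparated

theorem isAffine_pobj {θ : 𝒴.obj} (h : IsAffine (sch 𝒴 θ)) : IsAffine (sch 𝒳 (p.obj θ)) :=
  IsAffine.of_isIso (eqSch p θ).inv

theorem isAffine_of_pobj {θ : 𝒴.obj} (h : IsAffine (sch 𝒳 (p.obj θ))) : IsAffine (sch 𝒴 θ) :=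
  IsAffine.of_isIso (eqSch p θ).hom

include h𝒳 h𝒴 in
theorem relBC (hp : IsRep QcSep p) (F : QCoh 𝒴) {z' z : 𝒳.obj} (g : z' ⟶ z) (hz' : IsAffine (sch 𝒳 z'))
    (hz : IsAffine (sch 𝒳 z)) (hg : Flat (bmap 𝒳 g)) : RelBC p F.obj g := by
  obtain ⟨y, α, h1, h2, h3⟩ := hp z hz
  have h7 : FibCat.IsFibGrpd (fibCat p z).p := isFibGrpd_fibCat h𝒴
  haveI := hz
  let ρ : sch (fibCat p z) (⟨y, α⟩ : FObj p z) ⟶ sch 𝒳 z := str p α
  haveI i1 : QuasiCompact ρ := h2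
  haveI i2 : IsSeparated ρ := h3
  obtain ⟨P⟩ := K907.PresTerm.nonempty_pres_of_terminal (𝒳 := fibCat p z) h7
    (⟨y, α⟩ : FObj p z) (K907.PresTerm.terminal_of_isTerm h1) (V := sch 𝒳 z) ρ
  exact FBC.relBC_of_pres h𝒴 h𝒳 g hz hz' hg P F

include h𝒳 h𝒴 in
theorem exists_pushEv (hp : IsRep QcSep p) (P : Pres 𝒳) (F : QCoh 𝒴) :
    ∃ (A : QCoh 𝒳) (E : K907.L1.PushEv p F.obj A.obj), ∀ (z : 𝒳.obj) (hz : IsAffine (sch 𝒳 z)) (b : z ⟶ P.ζ),
      Flat (bmap 𝒳 b) → Function.Bijective (E.ev z hz) := by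
  obtain ⟨A, E, h⟩ := K906.PushFl.exists_pushEv p h𝒳 (K784.Geo.FAtlas.ofPres.{0} P) F
    (fun g hz' hz hg => relBC h𝒳 h𝒴 hp F g hz' hz hg)
  exact ⟨A, E, fun z hz b hb => h z hz PUnit.unit b hb⟩

/-- Evaluation of a section of the pushforward at an arrow. -/
noncomputable def evT (F : Mod 𝒴) {ξ : 𝒳.obj} {y : 𝒴.obj} (α : p.obj y ⟶ ξ) : Mod.RelSect p F ξ →+ Γ(F.obj y, ⊤) where
  toFun s := s.1 y α
  map_zero' := rfl
  map_add' _ _ := rfl

@[simp] theorem evT_apply (F : Mod 𝒴) {ξ : 𝒳.obj} {y : 𝒴.obj} (α : p.obj y ⟶ ξ) (s : Mod.RelSect p F ξ) :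
    evT F α s = s.1 y α := rfl

theorem evT_smul (F : Mod 𝒴) {ξ : 𝒳.obj} {y : 𝒴.obj} (α : p.obj y ⟶ ξ) (r : Γ(sch 𝒳 ξ, ⊤)) (s : Mod.RelSect p F ξ) :
    evT F α (r • s) = (str p α).appTop r • evT F α s := rfl

theorem val_eq (F : Mod 𝒴) {ξ : 𝒳.obj} {y θ : 𝒴.obj} {α : p.obj y ⟶ ξ} {β : p.obj θ ⟶ ξ} (s : Mod.RelSect p F ξ)
    (χ : θ ⟶ y) (h : p.map χ ≫ α = β) : s.1 θ β = F.mapTop χ (s.1 y α) := by
  subst h
  exact (s.2 χ α).symm

theorem bijective_evT (F : Mod 𝒴) {ξ : 𝒳.obj} {y : 𝒴.obj} {α : p.obj y ⟶ ξ} (hα : IsTerm p α) :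
    Function.Bijective (evT F α) := by
  constructor
  · intro s t h
    apply Mod.RelSect.ext
    intro θ β
    obtain ⟨χ, hχ, -⟩ := hα θ β
    rw [val_eq F s χ hχ, val_eq F t χ hχ]
    exact congrArg _ h
  · intro x
    refine ⟨⟨fun θ β => F.mapTop (hα θ β).choose x, ?_⟩, ?_⟩
    · intro θ' θ χ β
      rw [← Mod.mapTop_comp]
      congr 1
      refine hom_eq hα ?_
      rw [Functor.map_comp, Category.assoc, (hα θ β).choose_spec.1, (hα θ' (p.map χ ≫ β)).choose_spec.1]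
    · change F.mapTop (hα y α).choose x = x
      have : (hα y α).choose = 𝟙 y := hom_eq hα (by
        rw [(hα y α).choose_spec.1, CategoryTheory.Functor.map_id, Category.id_comp])
      rw [this, Mod.mapTop_id]

/-- The affine objects of `𝒴` with an arrow of their image to `ζ`. -/
def ovr (p : 𝒴 ⥤ᵇ 𝒳) (ζ : 𝒳.obj) : ASieve 𝒴 where
  P θ := IsAffine (sch 𝒴 θ) ∧ Nonempty (p.obj θ ⟶ ζ)
  aff _ h := h.1
  down _ _ φ h h' := ⟨h', h.2.map fun b => p.map φ ≫ b⟩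

include h𝒳 h𝒴 in
/-- Lifting a covering. -/
theorem exists_lift_cov {θ : 𝒴.obj} {x : 𝒳.obj} (f : x ⟶ p.obj θ) : ∃ (θ' : 𝒴.obj) (φ : θ' ⟶ θ) (i : p.obj θ' ⟶ x),
    IsIso i ∧ i ≫ f = p.map φ ∧ (IsFCov f → IsFCov φ) ∧ (IsAffine (sch 𝒳 x) → IsAffine (sch 𝒴 θ')) ∧
      (∀ P : MorphismProperty Scheme.{u}, P.RespectsIso → P (bmap 𝒳 f) → P (bmap 𝒴 φ)) := by
  obtain ⟨θ', φ, i, hi, hc⟩ := exists_lift_fun h𝒴 h𝒳 p (x := θ) f
  have I : IsIso (bmap 𝒳 i) := by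
    have : IsIso ((Over.forget S).map (𝒳.p.map i)) := inferInstance
    exact this
  have e : bmap 𝒴 φ = ((eqSch p θ').hom ≫ bmap 𝒳 i) ≫ bmap 𝒳 f ≫ (eqSch p θ).inv := by
    have h1 : bmap 𝒳 (i ≫ f) = bmap 𝒳 (p.map φ) := by rw [hc]
    rw [bmap_comp, bmap_map] at h1
    rw [Category.assoc, reassoc_of% h1]
    simp
  have key : ∀ P : MorphismProperty Scheme.{u}, P.RespectsIso → P (bmap 𝒳 f) → P (bmap 𝒴 φ) := by
    intro P hP h
    rw [e]
    exact (MorphismProperty.cancel_left_of_respectsIso P _ _).2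
      ((MorphismProperty.cancel_right_of_respectsIso P _ _).2 h)
  refine ⟨θ', φ, i, hi, hc, fun h => ⟨key @Flat inferInstance h.flat, key @Surjective inferInstance h.surj⟩,
    fun h => ?_, key⟩
  exact IsAffine.of_isIso ((eqSch p θ').hom ≫ bmap 𝒳 i)

include h𝒳 h𝒴 in
theorem dense_ovr {ζ : 𝒳.obj} (hc : Cov1 ζ) : K908.Desc.Dense (ovr p ζ) := by
  intro θ hθ
  obtain ⟨x', f, d, hx', hf⟩ := hc (p.obj θ) (isAffine_pobj hθ)
  obtain ⟨θ', φ, i, hi, -, h1, h2, -⟩ := exists_lift_cov h𝒳 h𝒴 f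
  exact ⟨⟨θ', h2 hx', ⟨i ≫ d⟩⟩, φ, h1 hf⟩

include h𝒳 h𝒴 in
/-- Global sections on `𝒴` are determined on the universal arrow over a covering object. -/
theorem globSect_ext_term {ζ : 𝒳.obj} (hc : Cov1 ζ) {y : 𝒴.obj} {α : p.obj y ⟶ ζ} (hα : IsTerm p α) (F : QCoh 𝒴)
    {s t : F.obj.GlobSect} (h : s.1 y = t.1 y) : s = t := by
  haveI := h𝒴
  refine K908.Dense.globSect_ext (dense_ovr h𝒳 h𝒴 (p := p) hc) F fun θ => ?_
  obtain ⟨b⟩ := θ.property.2
  obtain ⟨χ, hχ, -⟩ := hα θ.obj b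
  rw [← s.2 χ, ← t.2 χ, h]

include h𝒴 in
/-- Two sections over an object of `𝒴` agree if they agree on all affine objects with an arrow to it. -/
theorem sec_ext_aff (F : QCoh 𝒴) {θ : 𝒴.obj} {a b : Γ(F.obj.obj θ, ⊤)}
    (h : ∀ (θ' : 𝒴.obj) (φ : θ' ⟶ θ), IsAffine (sch 𝒴 θ') → F.obj.mapTop φ a = F.obj.mapTop φ b) : a = b := by
  haveI := h𝒴
  have hd : K908.Desc.Dense (ASieve.all 𝒴) := fun ξ hξ => ⟨⟨ξ, hξ⟩, 𝟙 ξ, isFCov_id ξ⟩
  exact K908.Dense.sec_ext hd F a b fun ζ ψ => h ζ.obj ψ ζ.property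

variable {F : QCoh 𝒴} {A : QCoh 𝒳} (E : K907.L1.PushEv p F.obj A.obj)

/-- The family of restrictions of a global section. -/
def relOf (c : F.obj.GlobSect) (z : 𝒳.obj) : Mod.RelSect p F.obj z := ⟨fun θ _ => c.1 θ, fun _ _ φ _ => c.2 φ⟩

@[simp] theorem relOf_val (c : F.obj.GlobSect) (z : 𝒳.obj) (θ : 𝒴.obj) (α : p.obj θ ⟶ z) :
    (relOf c z).1 θ α = c.1 θ := rfl

theorem relRes_relOf (c : F.obj.GlobSect) {z' z : 𝒳.obj} (φ : z' ⟶ z) : relRes p F.obj φ (relOf c z) = relOf c z' := rfl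

include h𝒴 in
/-- A global section of the pushforward defines a global section. -/
theorem exists_down (t : A.obj.GlobSect) : ∃ c : F.obj.GlobSect, ∀ (z : 𝒳.obj) (hz : IsAffine (sch 𝒳 z)),
    E.ev z hz (t.1 z) = relOf c z := by
  haveI := h𝒴
  have hE : ∀ {z' z : 𝒳.obj} (φ : z' ⟶ z) (h' : IsAffine (sch 𝒳 z')) (h : IsAffine (sch 𝒳 z)),
      E.ev z' h' (t.1 z') = relRes p F.obj φ (E.ev z h (t.1 z)) := by
    intro z' z φ h' h
    rw [← E.comm φ h' h, t.2 φ]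
  obtain ⟨c, hc⟩ := K908.QHom.exists_globSect (C := ASieve.all 𝒴) K908.Fam.zloc_all F
    (fun θ => (E.ev (p.obj θ.obj) (isAffine_pobj θ.property) (t.1 (p.obj θ.obj))).1 θ.obj (𝟙 _)) (by
      intro θ' θ φ
      rw [(E.ev (p.obj θ.obj) (isAffine_pobj θ.property) (t.1 (p.obj θ.obj))).2 φ.hom,
        hE (p.map φ.hom) (isAffine_pobj θ'.property) (isAffine_pobj θ.property), relRes_val,
        Category.comp_id, Category.id_comp])
  refine ⟨c, fun z hz => ?_⟩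
  refine K908.QHom.relSect_ext (C := ASieve.all 𝒴) K908.Fam.zloc_all p F z fun θ α => ?_
  rw [relOf_val, hc θ, hE α (isAffine_pobj θ.property) hz, relRes_val, Category.id_comp]

include h𝒳 in
/-- A global section defines a global section of the pushforward. -/
theorem exists_up {ζ : 𝒳.obj} (hζ : SmCov (fun _ : PUnit.{t + 1} => ζ))
    (hE : ∀ (z : 𝒳.obj) (hz : IsAffine (sch 𝒳 z)) (b : z ⟶ ζ), Flat (bmap 𝒳 b) → Function.Bijective (E.ev z hz))
    (c : F.obj.GlobSect) : ∃ t : A.obj.GlobSect, ∀ (z : 𝒳.obj) (hz : IsAffine (sch 𝒳 z)) (b : z ⟶ ζ),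
      Flat (bmap 𝒳 b) → E.ev z hz (t.1 z) = relOf c z := by
  haveI := h𝒳
  have hgen := genCl_flat h𝒳 hζ
  have key : ∀ z : 𝒳.obj, (h : IsAffine (sch 𝒳 z) ∧ ∃ (j : PUnit.{t + 1}) (d : z ⟶ ζ), Flat (bmap 𝒳 d)) →
      ∃ x : Γ(A.obj.obj z, ⊤), E.ev z h.1 x = relOf c z := by
    rintro z ⟨hz, -, d, hd⟩
    exact (hE z hz d hd).2 _
  choose x hx using key
  obtain ⟨t, ht⟩ := hgen.exists_globSect A (fun z hz => x z hz) (by
    intro z' z φ hz' hz
    obtain ⟨hz'1, -, d, hd⟩ := id hz'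
    refine (hE z' hz'1 d hd).1 ?_
    rw [E.comm φ hz'1 hz.1, hx z hz, relRes_relOf, hx z' hz'])
  refine ⟨t, fun z hz b hb => ?_⟩
  rw [ht z ⟨hz, PUnit.unit, b, hb⟩, hx]

end K862.PushO
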