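import Groth.Agent.StMod.K907.Rows
import Groth.Agent.StMod.K907.PresTerm

/-!
# Universal arrows for a functor over `(Sch/S)`: base change

For `p : 𝒴 ⥤ᵇ 𝒳` and `α : p w ⟶ ξ` universal (`K908.Aff.IsTerm`), `str p α : sch 𝒴 w ⟶ sch 𝒳 ξ` is the structure morphism of the
scheme representing `𝒴 ×_𝒳 ξ`.

* `exists_isTerm_bc` : base change of a universal arrow;
* `exists_hom`, `isPullback_of_isTerm` : universal arrows over `ξ' ⟶ ξ` and the cartesian square of schemes;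
* `IsRep P p` : over every object over an affine scheme there is a universal arrow with structure morphism in `P`.
-/

set_option autoImplicit false
set_option linter.unusedVariables false
set_option linter.style.haveILetI false
set_option backward.isDefEq.respectTransparency false
set_option backward.isDefEq.respectTransparency.types false

universe v'' w'' v' w' v w u

open CategoryTheory CategoryTheory.Limits AlgebraicGeometry Opposite StMod AlgSt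

namespace K862.Rep

open K908.Aff K907.Disj K907.FibTerm K906

variable {S : Scheme.{u}} {𝒳 : BasedCategory.{v, w} (Over S)} {𝒴 : BasedCategory.{v', w'} (Over S)}

/-- The morphism of schemes under an arrow `p w ⟶ ξ`. -/
abbrev str (p : 𝒴 ⥤ᵇ 𝒳) {y : 𝒴.obj} {ξ : 𝒳.obj} (α : p.obj y ⟶ ξ) : sch 𝒴 y ⟶ sch 𝒳 ξ := (baseOver p y α).left

theorem str_map (p : 𝒴 ⥤ᵇ 𝒳) {y' y : 𝒴.obj} {ξ : 𝒳.obj} (ψ : y' ⟶ y) (α : p.obj y ⟶ ξ) :
    str p (p.map ψ ≫ α) = bmap 𝒴 ψ ≫ str p α := (bmap_comp_baseOver_left p ψ α).symm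

theorem str_comp (p : 𝒴 ⥤ᵇ 𝒳) {y : 𝒴.obj} {ξ ξ' : 𝒳.obj} (α : p.obj y ⟶ ξ) (φ : ξ ⟶ ξ') :
    str p (α ≫ φ) = str p α ≫ bmap 𝒳 φ := by
  unfold str
  rw [baseOver_comp]
  rfl

/-- The comparison `sch 𝒴 y ≅ sch 𝒳 (p y)`. -/
def eqSch (p : 𝒴 ⥤ᵇ 𝒳) (y : 𝒴.obj) : sch 𝒴 y ≅ sch 𝒳 (p.obj y) := (Over.forget S).mapIso (eqToIso (p.w_obj y).symm)

theorem str_eq (p : 𝒴 ⥤ᵇ 𝒳) {y : 𝒴.obj} {ξ : 𝒳.obj} (α : p.obj y ⟶ ξ) :
    str p α = (eqSch p y).hom ≫ bmap 𝒳 α := rfl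

theorem str_id (p : 𝒴 ⥤ᵇ 𝒳) (y : 𝒴.obj) : str p (𝟙 (p.obj y)) = (eqSch p y).hom := by
  rw [str_eq, bmap_id, Category.comp_id]

theorem bmap_map (p : 𝒴 ⥤ᵇ 𝒳) {y' y : 𝒴.obj} (ψ : y' ⟶ y) :
    bmap 𝒳 (p.map ψ) = (eqSch p y').inv ≫ bmap 𝒴 ψ ≫ (eqSch p y).hom := by
  rw [← str_id, ← str_map, str_eq, Iso.inv_hom_id_assoc, Category.comp_id]

variable {p : 𝒴 ⥤ᵇ 𝒳}

theorem isPullback_str_of_isPullback (h𝒳 : FibCat.IsFibGrpd 𝒳.p) {y' y : 𝒴.obj} {ξ' ξ θ : 𝒳.obj} {α : p.obj y ⟶ ξ}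
    {φ : ξ' ⟶ ξ} {k : θ ⟶ p.obj y} {l : θ ⟶ ξ'} (hp : IsPullback k l α φ) (ψ : y' ⟶ y) (i : p.obj y' ⟶ θ) [IsIso i]
    (hi : i ≫ k = p.map ψ) : IsPullback (bmap 𝒴 ψ) (str p (i ≫ l)) (str p α) (bmap 𝒳 φ) := by
  have h1 := Grpd.isPullback_bmap h𝒳 hp
  have I : IsIso (bmap 𝒳 i) := by
    have : IsIso ((Over.forget S).map (𝒳.p.map i)) := inferInstance
    exact this
  refine IsPullback.of_iso h1 ((eqSch p y') ≪≫ asIso (bmap 𝒳 i)).symm (eqSch p y).symm (Iso.refl _) (Iso.refl _) ?_ ?_ ?_ ?_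
  · have e1 : bmap 𝒳 (i ≫ k) = _ := congrArg (bmap 𝒳) hi
    rw [bmap_comp, bmap_map] at e1
    rw [← cancel_epi (bmap 𝒳 i)]
    change bmap 𝒳 i ≫ bmap 𝒳 k ≫ (eqSch p y).inv = bmap 𝒳 i ≫ (inv (bmap 𝒳 i) ≫ (eqSch p y').inv) ≫ bmap 𝒴 ψ
    rw [reassoc_of% e1]
    simp
  · simp [str_eq, bmap_comp]
  · simp [str_eq]
  · simp

/-- Base change of a universal arrow. -/
theorem exists_isTerm_bc (h𝒳 : FibCat.IsFibGrpd 𝒳.p) (h𝒴 : FibCat.IsFibGrpd 𝒴.p) {ξ' ξ : 𝒳.obj} (φ : ξ' ⟶ ξ)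
    {y : 𝒴.obj} {α : p.obj y ⟶ ξ} (hα : IsTerm p α) :
    ∃ (y' : 𝒴.obj) (ψ : y' ⟶ y) (α' : p.obj y' ⟶ ξ'), IsTerm p α' ∧ p.map ψ ≫ α = α' ≫ φ ∧
      IsPullback (bmap 𝒴 ψ) (str p α') (str p α) (bmap 𝒳 φ) := by
  obtain ⟨θ, k, l, hp⟩ := Grpd.exists_isPullback h𝒳 α φ
  obtain ⟨y', ψ, i, hi, hc⟩ := exists_lift_fun h𝒴 h𝒳 p (x := y) k
  refine ⟨y', ψ, i ≫ l, ?_, ?_, isPullback_str_of_isPullback h𝒳 hp ψ i hc⟩
  · intro z β
    obtain ⟨χ₀, hχ₀, hu₀⟩ := hα z (β ≫ φ)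
    obtain ⟨χ, ⟨h1, h2⟩, hu⟩ := existsUnique_hom_over h𝒴 h𝒳 p ψ χ₀ (hp.lift (p.map χ₀) β hχ₀ ≫ inv i) (by
      rw [Category.assoc, ← hc, IsIso.inv_hom_id_assoc, hp.lift_fst])
    refine ⟨χ, ?_, ?_⟩
    · change p.map χ ≫ i ≫ l = β
      rw [h2, Category.assoc, IsIso.inv_hom_id_assoc, hp.lift_snd]
    · intro χ' hχ'
      have e1 : χ' ≫ ψ = χ₀ := hu₀ _ (by
        change p.map (χ' ≫ ψ) ≫ α = β ≫ φ
        rw [Functor.map_comp, Category.assoc, ← hc, Category.assoc, hp.w, ← Category.assoc, ← Category.assoc]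
        congr 1
        rw [Category.assoc]
        exact hχ')
      refine hu χ' ⟨e1, ?_⟩
      rw [← cancel_mono i, Category.assoc, IsIso.inv_hom_id, Category.comp_id]
      refine hp.hom_ext ?_ ?_
      · rw [hp.lift_fst, Category.assoc, hc, ← Functor.map_comp, e1]
      · rw [hp.lift_snd, Category.assoc]
        exact hχ'
  · rw [← hc, Category.assoc, hp.w, Category.assoc]

/-- The arrow between universal arrows. -/
theorem exists_hom {ξ' ξ : 𝒳.obj} (φ : ξ' ⟶ ξ) {y' y : 𝒴.obj} {α' : p.obj y' ⟶ ξ'} {α : p.obj y ⟶ ξ}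
    (hα : IsTerm p α) : ∃ ψ : y' ⟶ y, p.map ψ ≫ α = α' ≫ φ :=
  let ⟨ψ, hψ, _⟩ := hα y' (α' ≫ φ)
  ⟨ψ, hψ⟩

theorem hom_eq {ξ : 𝒳.obj} {y' y : 𝒴.obj} {α : p.obj y ⟶ ξ} (hα : IsTerm p α) {ψ ψ' : y' ⟶ y}
    (h : p.map ψ ≫ α = p.map ψ' ≫ α) : ψ = ψ' := (hα y' (p.map ψ' ≫ α)).unique h rfl

/-- Universal arrows to the same object are isomorphic. -/
theorem isIso_of_isTerm {ξ : 𝒳.obj} {y' y : 𝒴.obj} {α' : p.obj y' ⟶ ξ} {α : p.obj y ⟶ ξ} (hα' : IsTerm p α')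
    (hα : IsTerm p α) {ψ : y' ⟶ y} (h : p.map ψ ≫ α = α') : IsIso ψ := by
  obtain ⟨χ, hχ⟩ := exists_hom (𝟙 ξ) (α' := α) hα'
  rw [Category.comp_id] at hχ
  refine ⟨χ, hom_eq hα' ?_, hom_eq hα ?_⟩
  · rw [Functor.map_comp, Category.assoc, hχ, h, CategoryTheory.Functor.map_id, Category.id_comp]
  · rw [Functor.map_comp, Category.assoc, h, hχ, CategoryTheory.Functor.map_id, Category.id_comp]

/-- The cartesian square of schemes under universal arrows over `φ`. -/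
theorem isPullback_of_isTerm (h𝒳 : FibCat.IsFibGrpd 𝒳.p) (h𝒴 : FibCat.IsFibGrpd 𝒴.p) {ξ' ξ : 𝒳.obj} {φ : ξ' ⟶ ξ}
    {y' y : 𝒴.obj} {α' : p.obj y' ⟶ ξ'} {α : p.obj y ⟶ ξ} (hα' : IsTerm p α') (hα : IsTerm p α) {ψ : y' ⟶ y}
    (h : p.map ψ ≫ α = α' ≫ φ) : IsPullback (bmap 𝒴 ψ) (str p α') (str p α) (bmap 𝒳 φ) := by
  obtain ⟨y₁, ψ₁, α₁, h1, h2, h3⟩ := exists_isTerm_bc h𝒳 h𝒴 φ hα
  obtain ⟨χ, hχ⟩ := exists_hom (𝟙 ξ') (α' := α') h1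
  rw [Category.comp_id] at hχ
  have I := isIso_of_isTerm hα' h1 hχ
  have I' : IsIso (bmap 𝒴 χ) := by
    have : IsIso ((Over.forget S).map (𝒴.p.map χ)) := inferInstance
    exact this
  have e : χ ≫ ψ₁ = ψ := hom_eq hα (by
    rw [Functor.map_comp, Category.assoc, h2, ← Category.assoc, hχ, h])
  refine IsPullback.of_iso h3 (asIso (bmap 𝒴 χ)).symm (Iso.refl _) (Iso.refl _) (Iso.refl _) ?_ ?_ ?_ ?_
  · simp [← e, bmap_comp]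
  · have : str p α' = bmap 𝒴 χ ≫ str p α₁ := by rw [← str_map, hχ]
    simp [this]
  · simp
  · simp

/-- The restriction of a universal arrow along a monomorphism: universal property of an open piece. -/
theorem isTerm_iff_of_hom (h𝒳 : FibCat.IsFibGrpd 𝒳.p) (h𝒴 : FibCat.IsFibGrpd 𝒴.p) {ξ' ξ : 𝒳.obj} {φ : ξ' ⟶ ξ}
    {y' y : 𝒴.obj} {α' : p.obj y' ⟶ ξ'} {α : p.obj y ⟶ ξ} (hα : IsTerm p α) {ψ : y' ⟶ y}
    (h : p.map ψ ≫ α = α' ≫ φ) (hp : IsPullback (bmap 𝒴 ψ) (str p α') (str p α) (bmap 𝒳 φ)) : IsTerm p α' := by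
  obtain ⟨y₁, ψ₁, α₁, h1, h2, h3⟩ := exists_isTerm_bc h𝒳 h𝒴 φ hα
  obtain ⟨χ, hχ⟩ := exists_hom (𝟙 ξ') (α' := α') h1
  rw [Category.comp_id] at hχ
  have e : χ ≫ ψ₁ = ψ := hom_eq hα (by
    rw [Functor.map_comp, Category.assoc, h2, ← Category.assoc, hχ, h])
  have e1 : str p α' = bmap 𝒴 χ ≫ str p α₁ := by rw [← str_map, hχ]
  have I : IsIso (bmap 𝒴 χ) := by
    let t := hp.isoIsPullback _ _ h3
    have : bmap 𝒴 χ = t.hom := by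
      refine h3.hom_ext ?_ ?_
      · rw [hp.isoIsPullback_hom_fst _ _ h3, ← bmap_comp, e]
      · rw [hp.isoIsPullback_hom_snd _ _ h3, ← e1]
    rw [this]
    infer_instance
  have I' := Grpd.isIso_of_isIso_bmap h𝒴 χ
  intro z β
  obtain ⟨κ, hκ, hu⟩ := h1 z β
  refine ⟨κ ≫ inv χ, ?_, ?_⟩
  · change p.map (κ ≫ inv χ) ≫ α' = β
    rw [← hχ, ← Category.assoc, ← Functor.map_comp, Category.assoc, IsIso.inv_hom_id, Category.comp_id]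
    exact hκ
  · intro κ' hκ'
    rw [IsIso.eq_comp_inv]
    refine hu _ ?_
    change p.map (κ' ≫ χ) ≫ α₁ = β
    rw [Functor.map_comp, Category.assoc, hχ]
    exact hκ'

/-- Over every object over an affine scheme there is a universal arrow with structure morphism in `P`. -/
def IsRep (P : MorphismProperty Scheme.{u}) (p : 𝒴 ⥤ᵇ 𝒳) : Prop :=
  ∀ ξ : 𝒳.obj, IsAffine (sch 𝒳 ξ) → ∃ (y : 𝒴.obj) (α : p.obj y ⟶ ξ), IsTerm p α ∧ P (str p α)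

theorem IsRep.mono {P Q : MorphismProperty Scheme.{u}} (h : P ≤ Q) (hp : IsRep P p) : IsRep Q p := fun ξ hξ =>
  let ⟨y, α, h1, h2⟩ := hp ξ hξ
  ⟨y, α, h1, h _ h2⟩

/-- The property of the structure morphism does not depend on the universal arrow. -/
theorem IsRep.prop {P : MorphismProperty Scheme.{u}} [P.RespectsIso] (hp : IsRep P p) {ξ : 𝒳.obj}
    (hξ : IsAffine (sch 𝒳 ξ)) {y : 𝒴.obj} {α : p.obj y ⟶ ξ} (hα : IsTerm p α) : P (str p α) := by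
  obtain ⟨y₁, α₁, h1, h2⟩ := hp ξ hξ
  obtain ⟨χ, hχ⟩ := exists_hom (𝟙 ξ) (α' := α) h1
  rw [Category.comp_id] at hχ
  have I := isIso_of_isTerm hα h1 hχ
  have I' : IsIso (bmap 𝒴 χ) := by
    have : IsIso ((Over.forget S).map (𝒴.p.map χ)) := inferInstance
    exact this
  rw [← hχ, str_map]
  exact (P.cancel_left_of_respectsIso _ _).2 h2

end K862.Rep
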