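import Groth.Agent.StMod.K862.Step1
import Groth.Agent.StMod.K469.EtIdem

/-!
# Second step: separating the points over the base point
-/

set_option autoImplicit false
set_option linter.unusedVariables false
set_option linter.style.haveILetI false
set_option backward.isDefEq.respectTransparency false
set_option backward.isDefEq.respectTransparency.types false

universe v₂ w₂ v₁ w₁ u

open CategoryTheory CategoryTheory.Limits AlgebraicGeometry Opposite StMod AlgSt AlgSp Polynomial TensorProduct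

namespace K862.Step2

open K862.Rep K862.FSq K862.Lev K862.Integ K862.Move K862.PushO K862.Over K862.FunC K862.FinIdem K862.Step1 K908.Aff K907.Disj
  K907.FibTerm K906 K906.SpGeo K907.Sec K907.Tens K907.GM K907.Atl K907.Pt K907.Closed

/-- A finite scheme over the spectrum of a field has finitely many sections. -/
theorem finite_sections {V X : Scheme.{u}} (F : V ⟶ X) [IsFinite F] [IsAffine X] {K : Type u} [Field K]
    (kap : Γ(X, ⊤) ≃+* K) : Finite {a : X ⟶ V // a ≫ F = 𝟙 X} := by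
  haveI : IsAffine V := isAffine_of_isAffineHom F
  let φ : K →+* Γ(V, ⊤) := F.appTop.hom.comp kap.symm.toRingHom
  have h1 : F.appTop.hom.Finite := by
    have := IsFinite.finite_app (f := F) ⊤ (isAffineOpen_top X)
    exact this
  have h2 : φ.Finite := h1.comp (RingHom.Finite.of_surjective _ kap.symm.surjective)
  letI := φ.toAlgebra
  haveI : Module.Finite K Γ(V, ⊤) := h2
  have h3 : Finite (Γ(V, ⊤) →ₐ[K] K) := inferInstance
  let Φ : {a : X ⟶ V // a ≫ F = 𝟙 X} → (Γ(V, ⊤) →ₐ[K] K) := fun a =>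
    { kap.toRingHom.comp a.1.appTop.hom with
      commutes' := fun x => by
        change kap (a.1.appTop (F.appTop (kap.symm x))) = x
        rw [← appTop_comp, a.2]
        rw [Scheme.Hom.id_appTop]
        exact kap.apply_symm_apply x }
  refine Finite.of_injective Φ fun a b h => Subtype.ext (hom_ext_aff fun r => ?_)
  have h4 : kap (a.1.appTop r) = kap (b.1.appTop r) := congrArg (fun z => z r) h
  exact kap.injective h4

variable {S : Scheme.{u}} {M' M : Sp S} {g : M' ⟶ M}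
  {𝒳' : BasedCategory.{v₁, w₁} (Over S)} {𝒳 : BasedCategory.{v₂, w₂} (Over S)}
  {f : 𝒳' ⥤ᵇ 𝒳} {π' : 𝒳' ⥤ᵇ ofSp M'} {π : 𝒳 ⥤ᵇ ofSp M} (e : BasedFunctor.comp f π ≅ BasedFunctor.comp π' (ofSpMap g))

/-- Finite étale levels stay finite étale under base change and idempotent localization. -/
theorem isRep_part (h𝒳' : FibCat.IsFibGrpd 𝒳'.p) {E'' E₁' E' : EtOver M'} {E₁ E : EtOver M} {u : etaOf E'' ⟶ etaOf E₁'}
    (hu : IsOpenImmersion u.hom.left) {u' : etaOf E₁' ⟶ etaOf E'} {m₁ : (ofSpMap g).obj (etaOf E₁') ⟶ etaOf E₁}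
    {m : (ofSpMap g).obj (etaOf E') ⟶ etaOf E}
    {w : etaOf E₁ ⟶ etaOf E} (hcomm : (ofSpMap g).map u' ≫ m = m₁ ≫ w)
    (hpb : IsPullback u'.hom.left m₁.hom.left m.hom.left w.hom.left) (b : Γ(E₁'.obj.left.left, ⊤)) (hb : b ^ 2 - b = 0)
    (hur : Set.range u.hom.left = (E₁'.obj.left.left.basicOpen b : Set E₁'.obj.left.left))
    (hrep : IsRep (@IsFinite ⊓ @Etale) (fibSq e m)) :
    IsRep (@IsFinite ⊓ @Etale) (fibSq e ((ofSpMap g).map u ≫ m₁)) := by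
  intro ξ hξ
  obtain ⟨y, α, hα, hα1, hα2⟩ := hrep ((fibMap π w).obj ξ) hξ
  obtain ⟨t, y₂, α₂, k, ht1, ht2, hα₂, hk, hkr, hkα, hkt⟩ := exists_part e h𝒳' hu hcomm hpb ξ y α hα
  haveI := hk
  have hα1' : IsFinite (str f α.hom) := hα1
  have hα2' : Etale (str f α.hom) := hα2
  have hcl : IsClosed (Set.range k) := by
    have h1 : t ⁻¹' Set.range u.hom.left = (t ⁻¹ᵁ (E₁'.obj.left.left.basicOpen b) : Set (sch 𝒳' (FObj.pt y))) := by
      rw [hur]
      rfl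
    have h1' : t ⁻¹ᵁ (E₁'.obj.left.left.basicOpen b) = (sch 𝒳' (FObj.pt y)).basicOpen (t.appTop b) :=
      Scheme.preimage_basicOpen_top t b
    have h2 := isClosed_basicOpen (X := sch 𝒳' (FObj.pt y)) (b := t.appTop b) (by
      have h3 := congrArg t.appTop.hom hb
      rw [map_sub, map_pow, map_zero] at h3
      exact h3)
    rw [hkr, h1, h1']
    exact h2
  haveI := isClosedImmersion_of_open k hcl
  refine ⟨y₂, α₂, hα₂, ?_, ?_⟩
  · change IsFinite (str f α₂.hom)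
    rw [← hkα]
    infer_instance
  · change Etale (str f α₂.hom)
    rw [← hkα]
    infer_instance

/-- All functions on the source of a finite level are integral. -/
theorem isIntegral_level (h𝒳' : FibCat.IsFibGrpd 𝒳'.p) (h𝒳 : FibCat.IsFibGrpd 𝒳.p) (hu' : UnitIsIso π') (hu : UnitIsIso π)
    (E' : EtOver M') (E : EtOver M) (hex : K907.Free.Exact (fibCat π (etaOf E))) (P : Pres (fibCat π (etaOf E)))
    (m : (ofSpMap g).obj (etaOf E') ⟶ etaOf E) (hrep : IsRep @IsFinite (fibSq e m)) (c₀ : Γ(E'.obj.left.left, ⊤)) :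
    m.hom.left.appTop.hom.IsIntegralElem c₀ := by
  have h𝒴' : FibCat.IsFibGrpd (fibCat π' (etaOf E')).p := isFibGrpd_fibCat h𝒳'
  have h𝒴 : FibCat.IsFibGrpd (fibCat π (etaOf E)).p := isFibGrpd_fibCat h𝒳
  obtain ⟨y, α, hα, hfin⟩ := hrep P.ζ P.affζ
  haveI := P.affζ
  haveI : IsFinite (str (fibSq e m) α) := hfin
  let c : (OQ (fibCat π' (etaOf E'))).obj.GlobSect := K907.Free.fnSec (fn π' E') c₀
  have hc : ∀ θ, vO c θ = (fn π' E').σ θ c₀ := fun θ => rfl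
  obtain ⟨q, hq, hq0⟩ := exists_monic h𝒴 h𝒴' (p := fibSq e m) (hrep.mono (by
      intro X Y F hF
      haveI : IsFinite F := hF
      exact ⟨inferInstance, inferInstance⟩)) P hex (fn π E) (isFn π E hu) c hα
    (IsIntegralHom.isIntegral_app (f := str (fibSq e m) α) ⊤ (isAffineOpen_top _) _)
  refine ⟨q, hq, ?_⟩
  apply (isFn π' E' hu').1
  have h1 : ∀ θ, vO (K907.Free.fnSec (fn π' E') (q.eval₂ m.hom.left.appTop.hom c₀)) θ = 0 := by
    intro θ
    change (fn π' E').σ θ (q.eval₂ m.hom.left.appTop.hom c₀) = 0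
    rw [← hq0 θ, hom_eval₂, hc]
    congr 1
    ext a
    exact (pullFn_fibSq e m θ a).symm
  refine Subtype.ext (funext fun θ => ?_)
  have h2 : vO (K907.Free.fnSec (fn π' E') (0 : Γ(E'.obj.left.left, ⊤))) θ = 0 := map_zero ((fn π' E').σ θ)
  exact (h1 θ).trans h2.symm

/-- Ring homomorphisms from a tensor product. -/
theorem exists_tensor_hom {A B A₁ C : Type u} [CommRing A] [CommRing B] [CommRing A₁] [CommRing C] [Algebra A B]
    [Algebra A A₁] (φ : B →+* C) (ψ : A₁ →+* C) (h : φ.comp (algebraMap A B) = ψ.comp (algebraMap A A₁)) :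
    ∃ L : B ⊗[A] A₁ →+* C, L.comp Algebra.TensorProduct.includeLeftRingHom = φ ∧
      L.comp (Algebra.TensorProduct.includeRight (R := A) (A := B) (B := A₁)).toRingHom = ψ := by
  letI := (φ.comp (algebraMap A B)).toAlgebra
  let φ' : B →ₐ[A] C := { φ with commutes' := fun _ => rfl }
  let ψ' : A₁ →ₐ[A] C := { ψ with commutes' := fun a => (congrArg (fun z => z a) h).symm }
  refine ⟨(Algebra.TensorProduct.lift φ' ψ' fun _ _ => Commute.all _ _).toRingHom, ?_, ?_⟩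
  · ext b
    change Algebra.TensorProduct.lift φ' ψ' (fun _ _ => Commute.all _ _) (b ⊗ₜ 1) = φ b
    rw [Algebra.TensorProduct.lift_tmul, map_one, mul_one]
    rfl
  · ext b
    change Algebra.TensorProduct.lift φ' ψ' (fun _ _ => Commute.all _ _) (1 ⊗ₜ b) = ψ b
    rw [Algebra.TensorProduct.lift_tmul, map_one, one_mul]
    rfl

/-- The sections of a universal arrow over the base point have the same value in `E'`. -/
def SameVal {E' : EtOver M'} {E : EtOver M} (m : (ofSpMap g).obj (etaOf E') ⟶ etaOf E) {x₀ : 𝒳'.obj}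
    (a' : π'.obj x₀ ⟶ etaOf E') : Prop :=
  ∀ (y : (fibCat π' (etaOf E')).obj) (α : (fibSq e m).obj y ⟶ (fibSq e m).obj ⟨x₀, a'⟩), IsTerm (fibSq e m) α →
    ∀ s₁ s₂ : sch 𝒳' x₀ ⟶ sch 𝒳' (FObj.pt y), s₁ ≫ str f α.hom = (eqSch f x₀).hom → s₂ ≫ str f α.hom = (eqSch f x₀).hom →
      s₁ ≫ str π' (FObj.arr y) = s₂ ≫ str π' (FObj.arr y)

/-- Second step. -/
theorem step2 (h𝒳' : FibCat.IsFibGrpd 𝒳'.p) (h𝒳 : FibCat.IsFibGrpd 𝒳.p) (hu' : UnitIsIso π') (hu : UnitIsIso π)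
    (E' : EtOver M') (E : EtOver M) (hE' : IsAffine E'.obj.left.left) (hE : IsAffine E.obj.left.left)
    (hex : K907.Free.Exact (fibCat π (etaOf E))) (P : Pres (fibCat π (etaOf E)))
    (m : (ofSpMap g).obj (etaOf E') ⟶ etaOf E) (hrep : IsRep (@IsFinite ⊓ @Etale) (fibSq e m))
    {K : Type u} [Field K] [IsAlgClosed K] {x₀ : 𝒳'.obj} (hx₀ : IsAffine (sch 𝒳' x₀)) (kap : Γ(sch 𝒳' x₀, ⊤) ≃+* K)
    (a' : π'.obj x₀ ⟶ etaOf E') :
    ∃ (E₁' : EtOver M') (E₁ : EtOver M) (m₁ : (ofSpMap g).obj (etaOf E₁') ⟶ etaOf E₁) (a₁' : π'.obj x₀ ⟶ etaOf E₁'),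
      IsAffine E₁'.obj.left.left ∧ IsAffine E₁.obj.left.left ∧ IsRep (@IsFinite ⊓ @Etale) (fibSq e m₁) ∧
      SameVal e m₁ a₁' := by
  have h𝒴' : FibCat.IsFibGrpd (fibCat π' (etaOf E')).p := isFibGrpd_fibCat h𝒳'
  have h𝒴 : FibCat.IsFibGrpd (fibCat π (etaOf E)).p := isFibGrpd_fibCat h𝒳
  let y₀ : (fibCat π' (etaOf E')).obj := ⟨x₀, a'⟩
  have hfx : IsAffine (sch 𝒳 (f.obj x₀)) := isAffine_pobj hx₀
  obtain ⟨y, α, hα, hαfin, hαet⟩ := hrep ((fibSq e m).obj y₀) hfx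
  have hαfin' : IsFinite (str f α.hom) := hαfin
  haveI := hαfin'
  haveI := hx₀
  haveI := finite_sections (str f α.hom ≫ (eqSch f x₀).inv) kap
  obtain ⟨n, ⟨l⟩⟩ := Finite.exists_equiv_fin {a : sch 𝒳' x₀ ⟶ sch 𝒳' (FObj.pt y) // a ≫ str f α.hom ≫ (eqSch f x₀).inv = 𝟙 _}
  have hsec : ∀ a : sch 𝒳' x₀ ⟶ sch 𝒳' (FObj.pt y), a ≫ str f α.hom = (eqSch f x₀).hom ↔
      a ≫ str f α.hom ≫ (eqSch f x₀).inv = 𝟙 _ := by
    intro a
    rw [← Category.assoc, Iso.comp_inv_eq, Category.id_comp]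
  -- the base section
  obtain ⟨χ₀, hχ₀, -⟩ := hα y₀ (𝟙 _)
  have hχ₀' : f.map χ₀.hom ≫ α.hom = 𝟙 (f.obj x₀) := congrArg FObj.Hom.hom hχ₀
  obtain ⟨a₀, ha₀, ha₀'⟩ : ∃ a₀ : sch 𝒳' x₀ ⟶ sch 𝒳' (FObj.pt y), a₀ ≫ str f α.hom = (eqSch f x₀).hom ∧
      a₀ ≫ str π' (FObj.arr y) = str π' a' := by
    refine ⟨bmap 𝒳' χ₀.hom, ?_, ?_⟩
    · have h1 : bmap 𝒳' χ₀.hom ≫ str f α.hom = str f (f.map χ₀.hom ≫ α.hom) := (str_map f χ₀.hom _).symm
      exact h1.trans ((congrArg (str f) hχ₀').trans (str_id f x₀))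
    · have h1 : bmap 𝒳' χ₀.hom ≫ str π' (FObj.arr y) = str π' (π'.map χ₀.hom ≫ FObj.arr y) := (str_map π' χ₀.hom _).symm
      exact h1.trans (congrArg (str π') χ₀.comm)
  have hcm : ∀ a : sch 𝒳' x₀ ⟶ sch 𝒳' (FObj.pt y), a ≫ str f α.hom = (eqSch f x₀).hom →
      a ≫ str π' (FObj.arr y) ≫ m.hom.left = str π' a' ≫ m.hom.left := by
    intro a ha
    have h1 := str_comm e m α
    rw [str_ofSpMap] at h1
    rw [← ha₀', ← h1, Category.assoc, ← h1, reassoc_of% ha, reassoc_of% ha₀]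
  let A := Γ(E.obj.left.left, ⊤)
  let B := Γ(E'.obj.left.left, ⊤)
  letI : Algebra A B := m.hom.left.appTop.hom.toAlgebra
  haveI : Algebra.IsIntegral A B := ⟨fun c₀ => isIntegral_level e h𝒳' h𝒳 hu' hu E' E hex P m
    (hrep.mono (fun _ _ _ h => h.1)) c₀⟩
  let chi : (sch 𝒳' x₀ ⟶ sch 𝒳' (FObj.pt y)) → (B →+* K) := fun a =>
    kap.toRingHom.comp (a ≫ str π' (FObj.arr y)).appTop.hom
  let ι : A →+* K := kap.toRingHom.comp (str π' a' ≫ m.hom.left).appTop.hom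
  let χ : Fin (n + 1) → (B →+* K) := Fin.cons (chi a₀) fun i => chi (l.symm i).1
  have hchi : ∀ a : sch 𝒳' x₀ ⟶ sch 𝒳' (FObj.pt y), a ≫ str f α.hom = (eqSch f x₀).hom →
      (chi a).comp (algebraMap A B) = ι := by
    intro a ha
    ext r
    change kap ((a ≫ str π' (FObj.arr y)).appTop (m.hom.left.appTop r)) = kap ((str π' a' ≫ m.hom.left).appTop r)
    rw [← hcm a ha, ← Category.assoc]
    exact congrArg kap (appTop_comp _ _ _).symm
  have hχ : ∀ i, (χ i).comp (algebraMap A B) = ι := by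
    intro i
    refine Fin.cases ?_ (fun i => ?_) i
    · exact hchi a₀ ha₀
    · exact hchi _ ((hsec _).2 (l.symm i).2)
  have hχex : ∀ a : sch 𝒳' x₀ ⟶ sch 𝒳' (FObj.pt y), a ≫ str f α.hom = (eqSch f x₀).hom → ∃ i, χ i = chi a := by
    intro a ha
    refine ⟨(l ⟨a, (hsec a).1 ha⟩).succ, ?_⟩
    change chi (l.symm (l ⟨a, (hsec a).1 ha⟩)).1 = _
    rw [Equiv.symm_apply_apply]
  obtain ⟨A₁, _, _, hA₁, ι₁, hι₁, e₁, he1, he2⟩ := K469.EtIdem.exists_etale_idem ι χ hχ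
  let ι₁' : A₁ →+* Γ(sch 𝒳' x₀, ⊤) := kap.symm.toRingHom.comp ι₁
  have hφ : (algebraMap A A₁).Etale := RingHom.etale_algebraMap.2 hA₁
  obtain ⟨E₁', E₁, u', w, m₁, θ, a₁', hE₁', hE₁, hw, hθ, hcomm, hpb, ha₁', hval⟩ :=
    exists_moveA E' E m a' (algebraMap A A₁) hφ ι₁' (by
      intro a
      change kap.symm (ι₁ (algebraMap A A₁ a)) = _
      rw [RingEquiv.symm_apply_eq]
      have h1 : ι₁ (algebraMap A A₁ a) = ι a := congrArg (fun z => z a) hι₁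
      rw [h1]
      rfl)
  obtain ⟨L, hL1, hL2⟩ := exists_tensor_hom (A := A) (B := B) (A₁ := A₁) (C := Γ(E₁'.obj.left.left, ⊤))
    u'.hom.left.appTop.hom (m₁.hom.left.appTop.hom.comp θ.toRingHom) (by
      ext a
      change u'.hom.left.appTop (m.hom.left.appTop a) = m₁.hom.left.appTop (θ (algebraMap A A₁ a))
      rw [hθ]
      have h1 := congrArg (fun z => z.appTop a) hpb.w
      exact (appTop_comp _ _ _).symm.trans (h1.trans (appTop_comp _ _ _)))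
  have hL1' : ∀ r : B, L (Algebra.TensorProduct.includeLeftRingHom r) = u'.hom.left.appTop r := fun r =>
    congrArg (fun z => z r) hL1
  have hL2' : ∀ r : A₁, L (Algebra.TensorProduct.includeRight (R := A) (A := B) r) = m₁.hom.left.appTop (θ r) := fun r =>
    congrArg (fun z => z r) hL2
  let b : Γ(E₁'.obj.left.left, ⊤) := L e₁
  have hbb : b ^ 2 - b = 0 := by
    have h1 : e₁ ^ 2 - e₁ = 0 := by
      have h2 : e₁ * e₁ = e₁ := he1
      rw [pow_two, h2, sub_self]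
    have h3 := congrArg L h1
    rw [map_sub, map_pow, map_zero] at h3
    exact h3
  -- the homomorphism attached to a map to `E₁'`
  have key : ∀ (τ : sch 𝒳' x₀ ⟶ E₁'.obj.left.left) (a : sch 𝒳' x₀ ⟶ sch 𝒳' (FObj.pt y)),
      a ≫ str f α.hom = (eqSch f x₀).hom → τ ≫ u'.hom.left = a ≫ str π' (FObj.arr y) →
      τ ≫ m₁.hom.left = str π' a₁' ≫ m₁.hom.left →
      (chi a = chi a₀ → kap (τ.appTop b) = 1) ∧ (chi a ≠ chi a₀ → kap (τ.appTop b) = 0) := by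
    intro τ a ha h1 h2
    obtain ⟨i, hi⟩ := hχex a ha
    have h3 := he2 i (kap.toRingHom.comp (τ.appTop.hom.comp L)) (by
      rw [hi]
      ext r
      change kap (τ.appTop (L (Algebra.TensorProduct.includeLeftRingHom r))) = kap ((a ≫ str π' (FObj.arr y)).appTop r)
      rw [hL1', ← h1]
      exact congrArg kap (appTop_comp _ _ _).symm) (by
      ext r
      change kap (τ.appTop (L (Algebra.TensorProduct.includeRight (R := A) (A := B) r))) = ι₁ r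
      rw [hL2']
      have h4 : τ.appTop (m₁.hom.left.appTop (θ r)) = ι₁' r :=
        (appTop_comp τ m₁.hom.left (θ r)).symm.trans ((congrArg (fun z => z.appTop (θ r)) h2).trans (hval r))
      rw [h4]
      exact kap.apply_symm_apply _)
    rw [hi] at h3
    exact h3
  have hb : IsUnit ((str π' a₁').appTop b) := by
    have h1 := (key (str π' a₁') a₀ ha₀ (by rw [ha₀', ← ha₁', str_arr]) rfl).1 rfl
    have h3 : IsUnit (kap ((str π' a₁').appTop b)) := Eq.mpr (congrArg IsUnit h1) isUnit_one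
    exact (MulEquiv.isUnit_map kap).1 h3
  haveI := hE₁'
  obtain ⟨E₂', u, a₂', hE₂', hu₂, hur, ha₂'⟩ := exists_moveB E₁' a₁' b hb
  refine ⟨E₂', E₁, (ofSpMap g).map u ≫ m₁, a₂', hE₂', hE₁,
    isRep_part e h𝒳' hu₂ hcomm hpb b hbb hur hrep, ?_⟩
  intro y₂ α₂ hα₂ s₁ s₂ hs₁ hs₂
  let u₂ : (fibCat π (etaOf E₁)).obj := (fibSq e ((ofSpMap g).map u ≫ m₁)).obj ⟨x₀, a₂'⟩
  have harr : FObj.arr ((fibMap π w).obj u₂) = FObj.arr ((fibSq e m).obj y₀) := by
    change (eArr e x₀ ≫ (ofSpMap g).map a₂' ≫ (ofSpMap g).map u ≫ m₁) ≫ w = eArr e x₀ ≫ (ofSpMap g).map a' ≫ m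
    simp only [Category.assoc]
    rw [← hcomm, ← ha₁', ← ha₂']
    simp only [Functor.map_comp, Category.assoc]
  let α' : (fibSq e m).obj y ⟶ (fibMap π w).obj u₂ := FObj.mkHom α.hom (by
    have h1 := α.comm
    exact (congrArg (fun z => π.map α.hom ≫ z) harr).trans h1)
  have hα' : IsTerm (fibSq e m) α' := by
    intro z β
    obtain ⟨χ, hχ1, hχ2⟩ := hα z (FObj.mkHom β.hom (by
      have h1 := β.comm
      exact (congrArg (fun z => π.map β.hom ≫ z) harr.symm).trans h1))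
    have h1 : f.map χ.hom ≫ α.hom = β.hom := congrArg FObj.Hom.hom hχ1
    refine ⟨χ, FObj.hom_ext h1, fun χ' hχ' => ?_⟩
    have h2 : f.map χ'.hom ≫ α.hom = β.hom := congrArg FObj.Hom.hom hχ'
    exact hχ2 χ' (FObj.hom_ext h2)
  obtain ⟨t, y₃, α₃, k, ht1, ht2, hα₃, hk, hkr, hkα, hkt⟩ := exists_part e h𝒳' hu₂ hcomm hpb u₂ y α' hα'
  have hkα' : k ≫ str f α.hom = str f α₃.hom := hkα
  have ht2' : t ≫ m₁.hom.left = str f α.hom ≫ str π (FObj.arr u₂) := ht2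
  obtain ⟨κ, hκ⟩ := exists_hom (p := fibSq e ((ofSpMap g).map u ≫ m₁)) (𝟙 u₂) (α' := α₂) hα₃
  rw [Category.comp_id] at hκ
  have hκ1 : bmap 𝒳' κ.hom ≫ str f α₃.hom = str f α₂.hom := by
    have h1 : bmap 𝒳' κ.hom ≫ str f α₃.hom = str f (f.map κ.hom ≫ α₃.hom) := (str_map f κ.hom _).symm
    exact h1.trans (congrArg (str f) (congrArg FObj.Hom.hom hκ))
  have hκ2 : bmap 𝒳' κ.hom ≫ str π' (FObj.arr y₃) = str π' (FObj.arr y₂) := by
    have h1 : bmap 𝒳' κ.hom ≫ str π' (FObj.arr y₃) = str π' (π'.map κ.hom ≫ FObj.arr y₃) := (str_map π' κ.hom _).symm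
    exact h1.trans (congrArg (str π') κ.comm)
  have hbase : (eqSch f x₀).hom ≫ str π (FObj.arr u₂) = str π' a₁' ≫ m₁.hom.left := by
    have h1 := str_comm e ((ofSpMap g).map u ≫ m₁) (a := (⟨x₀, a₂'⟩ : FObj π' (etaOf E₂'))) (b := u₂) (𝟙 u₂)
    rw [str_ofSpMap] at h1
    have h2 : str f (FObj.Hom.hom (𝟙 u₂)) = (eqSch f x₀).hom := str_id f x₀
    have h3 : str π' a₁' = str π' a₂' ≫ u.hom.left := by rw [← ha₂', str_arr]
    have h4 : str π' a₁' ≫ m₁.hom.left = str π' a₂' ≫ ((ofSpMap g).map u ≫ m₁).hom.left := by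
      rw [h3, Category.assoc]
      rfl
    exact (congrArg (fun z => z ≫ str π (FObj.arr u₂)) h2.symm).trans (h1.trans h4.symm)
  have main : ∀ s : sch 𝒳' x₀ ⟶ sch 𝒳' (FObj.pt y₂), s ≫ str f α₂.hom = (eqSch f x₀).hom →
      (s ≫ bmap 𝒳' κ.hom ≫ k) ≫ t ≫ m₁.hom.left = str π' a₁' ≫ m₁.hom.left ∧
      chi (s ≫ bmap 𝒳' κ.hom ≫ k) = chi a₀ := by
    intro s hs
    have h1 : (s ≫ bmap 𝒳' κ.hom ≫ k) ≫ str f α.hom = (eqSch f x₀).hom := by
      rw [Category.assoc, Category.assoc, hkα', hκ1, hs]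
    have h2 : (s ≫ bmap 𝒳' κ.hom ≫ k) ≫ t ≫ m₁.hom.left = str π' a₁' ≫ m₁.hom.left := by
      exact (congrArg (fun z => (s ≫ bmap 𝒳' κ.hom ≫ k) ≫ z) ht2').trans ((Category.assoc _ _ _).symm.trans
        ((congrArg (fun z => z ≫ str π (FObj.arr u₂)) h1).trans hbase))
    refine ⟨h2, ?_⟩
    by_contra hne
    have h3 := (key ((s ≫ bmap 𝒳' κ.hom ≫ k) ≫ t) (s ≫ bmap 𝒳' κ.hom ≫ k) h1
      (by rw [Category.assoc (s ≫ bmap 𝒳' κ.hom ≫ k) t, ht1]) (by rw [Category.assoc (s ≫ bmap 𝒳' κ.hom ≫ k) t, h2])).2 hne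
    -- the value is a unit
    have h4 : ∀ z : ↥(sch 𝒳' x₀), ((s ≫ bmap 𝒳' κ.hom ≫ k) ≫ t) z ∈ E₁'.obj.left.left.basicOpen b := by
      intro z
      have h5 : k ((s ≫ bmap 𝒳' κ.hom) z) ∈ Set.range k := ⟨_, rfl⟩
      rw [hkr] at h5
      have h6 : t (k ((s ≫ bmap 𝒳' κ.hom) z)) ∈ Set.range u.hom.left := h5
      rw [hur] at h6
      have h7 : ((s ≫ bmap 𝒳' κ.hom ≫ k) ≫ t) z = t (k ((s ≫ bmap 𝒳' κ.hom) z)) := by
        rw [← Category.assoc s, Scheme.Hom.comp_apply, Scheme.Hom.comp_apply]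
      rw [h7]
      exact h6
    have h5 : ((s ≫ bmap 𝒳' κ.hom ≫ k) ≫ t).appTop b = 0 := kap.injective (h3.trans (map_zero kap).symm)
    have h6 : Nonempty ↥(sch 𝒳' x₀) := by
      haveI : Nontrivial Γ(sch 𝒳' x₀, ⊤) := kap.toEquiv.nontrivial
      obtain ⟨z⟩ := (inferInstance : Nonempty (PrimeSpectrum Γ(sch 𝒳' x₀, ⊤)))
      exact ⟨(sch 𝒳' x₀).isoSpec.inv z⟩
    obtain ⟨z⟩ := h6
    have h7 := (K563.NormFun.mem_basicOpen_iff _ b).1 (h4 z)
    exact h7 ((K563.NormFun.toSpecΓ_apply ((s ≫ bmap 𝒳' κ.hom ≫ k) ≫ t) z b).2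
      ((congrArg (fun r => r ∈ ((sch 𝒳' x₀).toSpecΓ z).asIdeal) h5).mpr (Ideal.zero_mem _)))
  obtain ⟨h11, h12⟩ := main s₁ hs₁
  obtain ⟨h21, h22⟩ := main s₂ hs₂
  have h3 : (s₁ ≫ bmap 𝒳' κ.hom ≫ k) ≫ str π' (FObj.arr y) = (s₂ ≫ bmap 𝒳' κ.hom ≫ k) ≫ str π' (FObj.arr y) := by
    haveI : IsAffine (sch (ofSp M') (etaOf E')) := hE'
    refine hom_ext_aff fun r => ?_
    have h4 : kap (((s₁ ≫ bmap 𝒳' κ.hom ≫ k) ≫ str π' (FObj.arr y)).appTop r) =
        kap (((s₂ ≫ bmap 𝒳' κ.hom ≫ k) ≫ str π' (FObj.arr y)).appTop r) :=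
      congrArg (fun z => z r) (h12.trans h22.symm)
    exact kap.injective h4
  have h4 : (s₁ ≫ bmap 𝒳' κ.hom ≫ k) ≫ t = (s₂ ≫ bmap 𝒳' κ.hom ≫ k) ≫ t := by
    refine hpb.hom_ext ?_ ?_
    · rw [Category.assoc _ t, Category.assoc _ t, ht1]
      exact h3
    · rw [Category.assoc _ t, Category.assoc _ t, h11, h21]
  haveI := hu₂
  have h5 : ∀ s : sch 𝒳' x₀ ⟶ sch 𝒳' (FObj.pt y₂), (s ≫ bmap 𝒳' κ.hom ≫ k) ≫ t = (s ≫ str π' (FObj.arr y₂)) ≫ u.hom.left := by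
    intro s
    rw [← hκ2]
    simp only [Category.assoc]
    rw [hkt]
  rw [h5, h5] at h4
  exact (cancel_mono u.hom.left).1 h4

end K862.Step2
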