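import Groth.Agent.StMod.K862.Step2
import Groth.Agent.StMod.K872.IsoStr
import Groth.Agent.StMod.K908.LunaN1
import Groth.Agent.StMod.K864.RankOne
import Groth.Prelude.Def_StPt

/-!
# Third step: after an étale localization the functor of fibre categories is an isomorphism
-/

set_option autoImplicit false
set_option linter.unusedVariables false
set_option linter.style.haveILetI false
set_option backward.isDefEq.respectTransparency false
set_option backward.isDefEq.respectTransparency.types false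

universe v₂ w₂ v₁ w₁ u

open CategoryTheory CategoryTheory.Limits AlgebraicGeometry Opposite StMod AlgSt AlgSp Polynomial TensorProduct

namespace K862.Step3

open K862.Rep K862.FSq K862.Lev K862.Integ K862.Move K862.PushO K862.Over K862.FunC K862.FinIdem K862.Step1 K862.Step2 K908.Aff
  K907.Disj K907.FibTerm K906 K906.SpGeo K907.Sec K907.Tens K907.GM K907.Atl K907.Pt K907.Closed

/-- Points of a finite scheme over an algebraically closed field are sections. -/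
theorem exists_section {V X : Scheme.{u}} (F : V ⟶ X) [IsFinite F] [IsAffine X] {K : Type u} [Field K] [IsAlgClosed K]
    (kap : Γ(X, ⊤) ≃+* K) (t : V) : ∃ s : X ⟶ V, s ≫ F = 𝟙 X ∧ ∀ z : X, s z = t := by
  haveI : IsAffine V := isAffine_of_isAffineHom F
  let φ : K →+* Γ(V, ⊤) := F.appTop.hom.comp kap.symm.toRingHom
  have h1 : F.appTop.hom.Finite := by
    have := IsFinite.finite_app (f := F) ⊤ (isAffineOpen_top X)
    exact this
  have h2 : φ.Finite := h1.comp (RingHom.Finite.of_surjective _ kap.symm.surjective)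
  letI := φ.toAlgebra
  haveI : Module.Finite K Γ(V, ⊤) := h2
  let P : Ideal Γ(V, ⊤) := (V.toSpecΓ t).asIdeal
  haveI : P.IsPrime := (V.toSpecΓ t).isPrime
  haveI : Algebra.IsIntegral K Γ(V, ⊤) := inferInstance
  haveI : Algebra.IsIntegral K (Γ(V, ⊤) ⧸ P) := inferInstance
  have h3 : Function.Bijective (algebraMap K (Γ(V, ⊤) ⧸ P)) := IsAlgClosed.algebraMap_bijective_of_isIntegral
  let ε : K ≃+* (Γ(V, ⊤) ⧸ P) := RingEquiv.ofBijective _ h3
  let ψ : Γ(V, ⊤) →+* Γ(X, ⊤) := kap.symm.toRingHom.comp (ε.symm.toRingHom.comp (Ideal.Quotient.mk P))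
  obtain ⟨s, hs⟩ := exists_hom_aff ψ
  have hψ : ∀ r, s.appTop r = ψ r := fun r => congrArg (fun z => z r) hs
  have hψF : ∀ r : Γ(X, ⊤), ψ (F.appTop r) = r := by
    intro r
    change kap.symm (ε.symm (Ideal.Quotient.mk P (F.appTop r))) = r
    rw [RingEquiv.symm_apply_eq, RingEquiv.symm_apply_eq]
    change Ideal.Quotient.mk P (F.appTop r) = Ideal.Quotient.mk P (F.appTop (kap.symm (kap r)))
    rw [RingEquiv.symm_apply_apply]
  refine ⟨s, hom_ext_aff fun r => ?_, fun z => ?_⟩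
  · rw [appTop_comp, hψ, hψF, Scheme.Hom.id_appTop]
    rfl
  · have h4 : Function.Injective V.toSpecΓ := by
      have : IsIso V.toSpecΓ := inferInstance
      exact V.toSpecΓ.homeomorph.injective
    apply h4
    apply PrimeSpectrum.ext
    ext r
    rw [K563.NormFun.toSpecΓ_apply, hψ]
    have h5 : ∀ x : Γ(X, ⊤), x ∈ (X.toSpecΓ z).asIdeal ↔ x = 0 := by
      intro x
      constructor
      · intro hx
        by_contra hne
        have hu : IsUnit x := (MulEquiv.isUnit_map kap).1 (IsUnit.mk0 _ (fun h => hne (kap.injective (h.trans (map_zero kap).symm))))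
        exact (X.toSpecΓ z).isPrime.ne_top (Ideal.eq_top_of_isUnit_mem _ hx hu)
      · rintro rfl
        exact Ideal.zero_mem _
    rw [h5]
    change kap.symm (ε.symm (Ideal.Quotient.mk P r)) = 0 ↔ r ∈ P
    rw [← Ideal.Quotient.eq_zero_iff_mem, map_eq_zero_iff _ kap.symm.injective, map_eq_zero_iff _ ε.symm.injective]

variable {S : Scheme.{u}} {M' M : Sp S} {g : M' ⟶ M}
  {𝒳' : BasedCategory.{v₁, w₁} (Over S)} {𝒳 : BasedCategory.{v₂, w₂} (Over S)}
  {f : 𝒳' ⥤ᵇ 𝒳} {π' : 𝒳' ⥤ᵇ ofSp M'} {π : 𝒳 ⥤ᵇ ofSp M} (e : BasedFunctor.comp f π ≅ BasedFunctor.comp π' (ofSpMap g))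

section Aut

variable {𝒵 : BasedCategory.{v₁, w₁} (Over S)}

/-- Automorphisms over the identity. -/
def mkAut {x : 𝒵.obj} (i : x ≅ x) (h : 𝒵.p.map i.hom = 𝟙 _) : Gerb.AutO x where
  hom := ⟨i.hom, by
    have h1 := IsHomLift.map 𝒵.p i.hom
    rwa [h] at h1⟩
  inv := ⟨i.inv, by
    have h2 : 𝒵.p.map i.inv = 𝟙 _ := by
      have h3 : 𝒵.p.map i.hom ≫ 𝒵.p.map i.inv = 𝟙 _ := by
        rw [← Functor.map_comp, i.hom_inv_id, CategoryTheory.Functor.map_id]
      rwa [h, Category.id_comp] at h3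
    have h1 := IsHomLift.map 𝒵.p i.inv
    rwa [h2] at h1⟩
  hom_inv_id := by
    apply Functor.Fiber.hom_ext
    exact i.hom_inv_id
  inv_hom_id := by
    apply Functor.Fiber.hom_ext
    exact i.inv_hom_id

theorem map_aut {x : 𝒵.obj} (α : Gerb.AutO x) : 𝒵.p.map α.hom.1 = 𝟙 _ := by
  have h1 : 𝒵.p.IsHomLift (𝟙 (𝒵.p.obj x)) α.hom.1 := α.hom.2
  have h2 := IsHomLift.eq_of_isHomLift 𝒵.p (𝟙 (𝒵.p.obj x)) α.hom.1
  exact h2.symm

theorem aut_ext {x : 𝒵.obj} {α β : Gerb.AutO x} (h : α.hom.1 = β.hom.1) : α = β := by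
  apply Aut.ext
  apply Functor.Fiber.hom_ext
  exact h

end Aut

/-- Stabilizer preservation passes to fibre categories. -/
theorem isStabIsoAt_fibSq {E' : EtOver M'} {E : EtOver M} (m : (ofSpMap g).obj (etaOf E') ⟶ etaOf E) {x₀ : 𝒳'.obj}
    (a' : π'.obj x₀ ⟶ etaOf E') (h : StPt.IsStabIsoAt f x₀) :
    StPt.IsStabIsoAt (fibSq e m) (⟨x₀, a'⟩ : FObj π' (etaOf E')) := by
  intro η φ
  obtain ⟨hinj, hsurj⟩ := h (FObj.Hom.hom φ)
  constructor
  · intro α β hαβ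
    have h1 : f.map (FObj.Hom.hom α.hom.1) = f.map (FObj.Hom.hom β.hom.1) := by
      have h2 := congrArg (fun z : Gerb.AutO ((fibSq e m).obj η) => FObj.Hom.hom z.hom.1) hαβ
      exact h2
    have iso : ∀ γ : Gerb.AutO η, ∃ i : FObj.pt η ≅ FObj.pt η, i.hom = FObj.Hom.hom γ.hom.1 ∧ 𝒳'.p.map i.hom = 𝟙 _ := by
      intro γ
      refine ⟨⟨FObj.Hom.hom γ.hom.1, FObj.Hom.hom γ.inv.1, ?_, ?_⟩, rfl, map_aut γ⟩
      · have h3 : γ.hom.1 ≫ γ.inv.1 = 𝟙 η := congrArg Subtype.val γ.hom_inv_id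
        exact congrArg FObj.Hom.hom h3
      · have h3 : γ.inv.1 ≫ γ.hom.1 = 𝟙 η := congrArg Subtype.val γ.inv_hom_id
        exact congrArg FObj.Hom.hom h3
    obtain ⟨i, hi1, hi2⟩ := iso α
    obtain ⟨j, hj1, hj2⟩ := iso β
    have h2 : mkAut i hi2 = mkAut j hj2 := by
      apply hinj
      apply aut_ext
      change f.map i.hom = f.map j.hom
      rw [hi1, hj1, h1]
    have h3 : i.hom = j.hom := congrArg (fun z : Gerb.AutO (FObj.pt η) => z.hom.1) h2
    apply aut_ext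
    refine FObj.hom_ext ?_
    rw [← hi1, ← hj1, h3]
  · intro β
    have hb : 𝒳.p.map (FObj.Hom.hom β.hom.1) = 𝟙 _ := map_aut β
    let j : f.obj (FObj.pt η) ≅ f.obj (FObj.pt η) :=
      { hom := FObj.Hom.hom β.hom.1
        inv := FObj.Hom.hom β.inv.1
        hom_inv_id := by
          have h3 : β.hom.1 ≫ β.inv.1 = 𝟙 ((fibSq e m).obj η) := congrArg Subtype.val β.hom_inv_id
          exact congrArg FObj.Hom.hom h3
        inv_hom_id := by
          have h3 : β.inv.1 ≫ β.hom.1 = 𝟙 ((fibSq e m).obj η) := congrArg Subtype.val β.inv_hom_id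
          exact congrArg FObj.Hom.hom h3 }
    obtain ⟨τ, hτ⟩ := hsurj (mkAut j hb)
    have hτ1 : f.map τ.hom.1 = FObj.Hom.hom β.hom.1 :=
      congrArg (fun z : Gerb.AutO (f.obj (FObj.pt η)) => z.hom.1) hτ
    have vert : ∀ γ : FObj.pt η ⟶ FObj.pt η, 𝒳'.p.map γ = 𝟙 _ → π'.map γ ≫ FObj.arr η = FObj.arr η := by
      intro γ hγ
      apply ofSp_hom_ext
      have h4 : str π' (π'.map γ ≫ FObj.arr η) = str π' (FObj.arr η) := by
        rw [str_map]
        have h5 : bmap 𝒳' γ = 𝟙 _ := congrArg (fun z => z.left) hγ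
        rw [h5, Category.id_comp]
      rw [str_left, h4, str_left]
    have h6 : τ.hom.1 ≫ τ.inv.1 = 𝟙 (FObj.pt η) := congrArg Subtype.val τ.hom_inv_id
    have h7 : τ.inv.1 ≫ τ.hom.1 = 𝟙 (FObj.pt η) := congrArg Subtype.val τ.inv_hom_id
    have h8 : 𝒳'.p.map τ.hom.1 = 𝟙 _ := map_aut τ
    have h9 : 𝒳'.p.map τ.inv.1 = 𝟙 _ := map_aut τ⁻¹
    let i : η ≅ η :=
      { hom := FObj.mkHom τ.hom.1 (vert _ h8)
        inv := FObj.mkHom τ.inv.1 (vert _ h9)
        hom_inv_id := FObj.hom_ext h6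
        inv_hom_id := FObj.hom_ext h7 }
    refine ⟨mkAut (𝒵 := fibCat π' (etaOf E')) i h8, ?_⟩
    apply aut_ext
    exact FObj.hom_ext hτ1

/-- (N1), the form used by (N8a). -/
theorem n1 (S : Scheme.{u}) : K872.IsoStr.N1.{v₁, w₁, u} S := by
  intro 𝒴 h𝒴 P B _ s hs hex x hx K _ y₁ y₂ h₁ h₂ a₁ a₂ hx₁ hx₂ hB
  exact K908.LunaN1.exists_common h𝒴 P s hs hex x hx y₁ y₂ h₁ h₂ a₁ a₂ hx₁ hx₂ hB

/-- The scheme under a point. -/
noncomputable def kapq (q : FPt 𝒳') : Spec (CommRingCat.of q.K) ≅ sch 𝒳' q.obj :=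
  (Over.forget S).mapIso (eqToIso q.lies.symm)

/-- The field of a point. -/
noncomputable def kapR (q : FPt 𝒳') : Γ(sch 𝒳' q.obj, ⊤) ≃+* q.K :=
  ((Scheme.Γ.mapIso (kapq q).op) ≪≫ Scheme.ΓSpecIso (CommRingCat.of q.K)).commRingCatIsoToRingEquiv

theorem qfSep_of_finite : (@IsFinite ⊓ @Etale : MorphismProperty Scheme.{u}) ≤ QfSep := by
  rintro X Y F ⟨h1, h2⟩
  haveI := h1
  exact ⟨⟨inferInstance, inferInstance⟩, inferInstance, inferInstance⟩

theorem subsingleton_fpt (q : FPt 𝒳') : Subsingleton ↥(sch 𝒳' q.obj) := by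
  have h1 : Subsingleton ↥(Spec (CommRingCat.of q.K)) := inferInstanceAs (Subsingleton (PrimeSpectrum q.K))
  exact (kapq q).inv.homeomorph.toEquiv.subsingleton

/-- The point of a pointed level. -/
noncomputable def ptq (q : FPt 𝒳') {E' : EtOver M'} (a' : π'.obj q.obj ⟶ etaOf E') : FPt (fibCat π' (etaOf E')) where
  K := q.K
  str := q.str
  obj := ⟨q.obj, a'⟩
  lies := q.lies

/-- The universal arrow over the base point is an isomorphism. -/
theorem isIso_base (h𝒳' : FibCat.IsFibGrpd 𝒳'.p) (h𝒳 : FibCat.IsFibGrpd 𝒳.p) (hu' : UnitIsIso π')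
    (E' : EtOver M') (E : EtOver M) (hE' : IsAffine E'.obj.left.left) (hE : IsAffine E.obj.left.left)
    (hex' : K907.Free.Exact (fibCat π' (etaOf E'))) (P' : Pres (fibCat π' (etaOf E'))) (P : Pres (fibCat π (etaOf E)))
    (m : (ofSpMap g).obj (etaOf E') ⟶ etaOf E) (hrep : IsRep (@IsFinite ⊓ @Etale) (fibSq e m))
    (q : FPt 𝒳') [IsAlgClosed q.K] (a' : π'.obj q.obj ⟶ etaOf E') (hst : StPt.IsStabIsoAt f q.obj)
    (hcl : IsCl (isFibGrpd_fibCat h𝒳) {Points.map (fibSq e m) (Points.mk (ptq q a'))})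
    (hsame : SameVal e m a') :
    ∃ (y : (fibCat π' (etaOf E')).obj) (α : (fibSq e m).obj y ⟶ (fibSq e m).obj ⟨q.obj, a'⟩),
      IsTerm (fibSq e m) α ∧ IsIso (str f α.hom) := by
  have h𝒴' : FibCat.IsFibGrpd (fibCat π' (etaOf E')).p := isFibGrpd_fibCat h𝒳'
  have h𝒴 : FibCat.IsFibGrpd (fibCat π (etaOf E)).p := isFibGrpd_fibCat h𝒳
  let q' := ptq q a'
  let y₀ : (fibCat π' (etaOf E')).obj := ⟨q.obj, a'⟩
  have hx₀ : IsAffine (sch 𝒳' q.obj) := K872.ClosedPt.isAffine_fpt q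
  haveI := hx₀
  have hfx : IsAffine (sch 𝒳 (f.obj q.obj)) := isAffine_pobj hx₀
  haveI := subsingleton_fpt q
  obtain ⟨y, α, hα, hαfin, hαet⟩ := hrep ((fibSq e m).obj y₀) hfx
  refine ⟨y, α, hα, ?_⟩
  have hαfin' : IsFinite (str f α.hom) := hαfin
  haveI := hαfin'
  -- the base section
  obtain ⟨χ₀, hχ₀, -⟩ := hα y₀ (𝟙 _)
  have hχ₀' : f.map χ₀.hom ≫ α.hom = 𝟙 (f.obj q.obj) := congrArg FObj.Hom.hom hχ₀
  have ha₀ : bmap 𝒳' χ₀.hom ≫ str f α.hom = (eqSch f q.obj).hom := by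
    have h1 : bmap 𝒳' χ₀.hom ≫ str f α.hom = str f (f.map χ₀.hom ≫ α.hom) := (str_map f χ₀.hom _).symm
    exact h1.trans ((congrArg (str f) hχ₀').trans (str_id f q.obj))
  obtain ⟨z₀⟩ : Nonempty ↥(sch 𝒳' q.obj) := by
    have h1 : Nonempty ↥(Spec (CommRingCat.of q.K)) := inferInstanceAs (Nonempty (PrimeSpectrum q.K))
    exact h1.map (kapq q).hom
  have hmk : ∀ z : ↥(sch 𝒳' q.obj), Points.mk q' = pt h𝒴' y₀ z := fun z => mk_eq_pt_self h𝒴' q' z
  have hxcl : IsCl h𝒴' {Points.mk q'} := isCl_over h𝒴 h𝒴' P (hrep.mono qfSep_of_finite) hcl {Points.mk q'} (by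
    rintro d rfl
    rfl)
  have hmap : ∀ t : ↥(sch 𝒳' (FObj.pt y)), Points.map (fibSq e m) (pt h𝒴' y t) = Points.map (fibSq e m) (Points.mk q') := by
    intro t
    rw [hmk z₀, map_pt' h𝒴 h𝒴' α t, map_pt' h𝒴 h𝒴' (𝟙 ((fibSq e m).obj y₀)) z₀]
    congr 1
    haveI : Subsingleton ↥(sch 𝒳 (f.obj q.obj)) := (eqSch f q.obj).inv.homeomorph.toEquiv.subsingleton
    exact Subsingleton.elim (α := ↥(sch 𝒳 (f.obj q.obj))) _ _
  have hpt : ∀ t : ↥(sch 𝒳' (FObj.pt y)), pt h𝒴' y t = Points.mk q' := by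
    intro t
    by_contra hne
    have htcl : IsCl h𝒴' {pt h𝒴' y t} := isCl_over h𝒴 h𝒴' P (hrep.mono qfSep_of_finite) hcl {pt h𝒴' y t} (by
      rintro d rfl
      exact hmap t)
    obtain ⟨Q, r, c₁, hr, hc₁⟩ := exists_sep h𝒴' (smCov_of_pres.{0} P') htcl hxcl (by
      rw [Set.disjoint_singleton]
      exact hne)
    obtain ⟨c, hc⟩ := hex' r hr c₁
    obtain ⟨b, hb⟩ := (isFn π' E' hu').2 c
    have hval : ∀ ξ : (fibCat π' (etaOf E')).obj, IsAffine (sch 𝒳' (FObj.pt ξ)) →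
        (∀ t' : ↥(sch 𝒳' (FObj.pt ξ)), pt h𝒴' ξ t' = pt h𝒴' y t → (fn π' E').σ ξ b ∈ ((sch 𝒳' (FObj.pt ξ)).toSpecΓ t').asIdeal) ∧
        (∀ t' : ↥(sch 𝒳' (FObj.pt ξ)), pt h𝒴' ξ t' = Points.mk q' →
          1 - (fn π' E').σ ξ b ∈ ((sch 𝒳' (FObj.pt ξ)).toSpecΓ t').asIdeal) := by
      intro ξ hξ
      have h1 := hc₁ ξ hξ (vO c ξ) (by
        rw [← hc]
        rfl)
      have h2 : vO c ξ = (fn π' E').σ ξ b := by
        rw [← hb]
        rfl
      rw [h2] at h1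
      exact ⟨fun t' ht' => h1.1 t' ht', fun t' ht' => h1.2 t' ht'⟩
    obtain ⟨s, hs1, hs2⟩ := exists_section (str f α.hom ≫ (eqSch f q.obj).inv) (kapR q) t
    have hs1' : s ≫ str f α.hom = (eqSch f q.obj).hom := by
      rw [← Category.assoc, Iso.comp_inv_eq, Category.id_comp] at hs1
      exact hs1
    have hss := hsame y α hα s (bmap 𝒳' χ₀.hom) hs1' ha₀
    have hy : IsAffine (sch 𝒳' (FObj.pt y)) := by
      haveI : IsAffine (sch 𝒳 (FObj.pt ((fibSq e m).obj y₀))) := hfx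
      exact isAffine_of_isAffineHom (str f α.hom)
    obtain ⟨h3, h4⟩ := hval y hy
    have h5 := h3 t rfl
    rw [← hs2 z₀] at h5
    rw [K563.NormFun.toSpecΓ_apply] at h5
    have h6 := h4 (bmap 𝒳' χ₀.hom z₀) (by
      rw [hmk z₀]
      exact pt_map h𝒴' χ₀ z₀)
    rw [K563.NormFun.toSpecΓ_apply] at h6
    have h7 : s.appTop ((fn π' E').σ y b) = (bmap 𝒳' χ₀.hom).appTop ((fn π' E').σ y b) := by
      have h8 := congrArg (fun z => z.appTop b) hss
      exact (appTop_comp s (str π' (FObj.arr y)) b).symm.trans (h8.trans (appTop_comp _ _ _))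
    rw [h7] at h5
    have h9 := Ideal.add_mem _ h5 h6
    rw [← map_add, add_sub_cancel, map_one] at h9
    exact ((sch 𝒳' q.obj).toSpecΓ z₀).isPrime.ne_top ((Ideal.eq_top_iff_one _).2 h9)
  have key := K872.IsoStr.isIso_str (n1 S) h𝒴' h𝒴 P' (fn π' E') (isFn π' E' hu') hex' (fibSq e m) q' (isStabIsoAt_fibSq e m a' hst) hxcl
    (K := q.K) (u := (fibSq e m).obj y₀) (kapq q ≪≫ eqSch f q.obj) α hα hαfin hαet ⟨bmap 𝒳' χ₀.hom z₀⟩ hpt (by
      intro a₁ a₂ h1 h2 b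
      have h3 := hsame y α hα ((kapq q).inv ≫ a₁) ((kapq q).inv ≫ a₂) (by
        rw [Category.assoc]
        exact (congrArg (fun z => (kapq q).inv ≫ z) h1).trans (by simp)) (by
        rw [Category.assoc]
        exact (congrArg (fun z => (kapq q).inv ≫ z) h2).trans (by simp))
      rw [Category.assoc, Category.assoc, cancel_epi] at h3
      have h8 := congrArg (fun z => z.appTop b) h3
      exact (appTop_comp a₁ (str π' (FObj.arr y)) b).symm.trans (h8.trans (appTop_comp _ _ _)))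
  exact key

end K862.Step3
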